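import Mathlib
import Groth.Prelude.Def_SGA1

/-! Quotients of schemes by finite groups: `SGA1.IsQuot`. -/

universe u
open CategoryTheory CategoryTheory.Limits AlgebraicGeometry
open scoped Pointwise

namespace Groth.Agent.SGA1QuotLib

variable {X Y : Scheme.{u}} {G : Type u} [Group G] {ρ : G →* Aut X} {p : X ⟶ Y}

theorem hom_mul (ρ : G →* Aut X) (g h : G) : (ρ (g * h)).hom = (ρ h).hom ≫ (ρ g).hom := by
  rw [map_mul]; rfl

/-- The endomorphism of `Γ(X, p ⁻¹ U)` induced by `g`. -/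
noncomputable def act (hp : SGA1.IsQuot ρ p) (U : Y.Opens) (g : G) :
    Γ(X, p ⁻¹ᵁ U) →+* Γ(X, p ⁻¹ᵁ U) :=
  ((ρ g).hom.appLE (p ⁻¹ᵁ U) (p ⁻¹ᵁ U) (SGA1.preimage_le_of_inv ρ p hp.inv g U)).hom

theorem act_one (hp : SGA1.IsQuot ρ p) (U : Y.Opens) : act hp U 1 = RingHom.id _ := by
  have key : ∀ (f : X ⟶ X) (W : X.Opens) (e : W ≤ f ⁻¹ᵁ W), f = 𝟙 X →
      (f.appLE W W e).hom = RingHom.id _ := by
    rintro f W e rfl
    have : (homOfLE e).op = 𝟙 (Opposite.op W) := rfl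
    simp only [Scheme.Hom.appLE, Scheme.Hom.id_app]
    rw [this]
    erw [CategoryTheory.Functor.map_id]
    rfl
  exact key _ _ _ (by rw [map_one]; rfl)

theorem act_mul (hp : SGA1.IsQuot ρ p) (U : Y.Opens) (g h : G) :
    act hp U (g * h) = (act hp U h).comp (act hp U g) := by
  simp only [act, hom_mul]
  rw [← CommRingCat.hom_comp, Scheme.Hom.appLE_comp_appLE]

/-- The action on sections over a stable open. -/
@[implicit_reducible]
noncomputable def action (hp : SGA1.IsQuot ρ p) (U : Y.Opens) :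
    MulSemiringAction G Γ(X, p ⁻¹ᵁ U) where
  smul g x := act hp U g⁻¹ x
  one_smul x := by
    change act hp U (1⁻¹ : G) x = x
    rw [inv_one, act_one, RingHom.id_apply]
  mul_smul g h x := by
    change act hp U (g * h)⁻¹ x = act hp U g⁻¹ (act hp U h⁻¹ x)
    rw [mul_inv_rev, act_mul, RingHom.comp_apply]
  smul_zero g := map_zero (act hp U g⁻¹)
  smul_add g := map_add (act hp U g⁻¹)
  smul_one g := map_one (act hp U g⁻¹)
  smul_mul g := map_mul (act hp U g⁻¹)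

theorem act_app (hp : SGA1.IsQuot ρ p) (U : Y.Opens) (g : G) (b : Γ(Y, U)) :
    act hp U g (p.app U b) = p.app U b :=
  (hp.range_iff U _).1 ⟨b, rfl⟩ g

theorem isIntegral_app [Finite G] (hp : SGA1.IsQuot ρ p) (U : Y.Opens) :
    (p.app U).hom.IsIntegral := by
  letI := action hp U
  letI : Algebra Γ(Y, U) Γ(X, p ⁻¹ᵁ U) := (p.app U).hom.toAlgebra
  haveI : Algebra.IsInvariant Γ(Y, U) Γ(X, p ⁻¹ᵁ U) G :=
    ⟨fun a ha => (hp.range_iff U a).2 fun g => by
      have := ha g⁻¹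
      change act hp U (g⁻¹)⁻¹ a = a at this
      rwa [inv_inv] at this⟩
  exact (Algebra.IsInvariant.isIntegral Γ(Y, U) Γ(X, p ⁻¹ᵁ U) G).isIntegral

theorem isIntegralHom [Finite G] (hp : SGA1.IsQuot ρ p) : IsIntegralHom p := by
  haveI := hp.affine
  exact ⟨fun U _ => isIntegral_app hp U⟩

theorem surjective [Finite G] (hp : SGA1.IsQuot ρ p) : Function.Surjective p.base := by
  haveI := hp.affine
  intro y
  obtain ⟨U, hU, hyU, -⟩ := exists_isAffineOpen_mem_and_subset (TopologicalSpace.Opens.mem_top y)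
  obtain ⟨Q, hQ⟩ := RingHom.IsIntegral.comap_surjective (f := (p.app U).hom) (isIntegral_app hp U)
    (hp.injective U) (hU.primeIdealOf ⟨y, hyU⟩)
  refine ⟨(hU.preimage p).fromSpec Q, ?_⟩
  rw [← Scheme.Hom.comp_apply, ← IsAffineOpen.SpecMap_appLE_fromSpec p hU (hU.preimage p) le_rfl,
    Scheme.Hom.comp_apply]
  rw [Scheme.Hom.app_eq_appLE] at hQ
  exact (congrArg (fun q => hU.fromSpec q) hQ).trans (hU.fromSpec_primeIdealOf ⟨y, hyU⟩)

theorem exists_orbit [Finite G] (hp : SGA1.IsQuot ρ p) {x x' : X} (h : p.base x = p.base x') :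
    ∃ g : G, (ρ g).hom.base x = x' := by
  haveI := hp.affine
  obtain ⟨U, hU, hyU, -⟩ := exists_isAffineOpen_mem_and_subset (TopologicalSpace.Opens.mem_top (p.base x))
  letI := action hp U
  letI : Algebra Γ(Y, U) Γ(X, p ⁻¹ᵁ U) := (p.app U).hom.toAlgebra
  haveI : Algebra.IsInvariant Γ(Y, U) Γ(X, p ⁻¹ᵁ U) G :=
    ⟨fun a ha => (hp.range_iff U a).2 fun g => by
      have := ha g⁻¹
      change act hp U (g⁻¹)⁻¹ a = a at this
      rwa [inv_inv] at this⟩
  haveI : SMulCommClass G Γ(Y, U) Γ(X, p ⁻¹ᵁ U) := ⟨fun g b a => by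
    rw [Algebra.smul_def, Algebra.smul_def, smul_mul']
    exact congrArg (· * g • a) (act_app hp U g⁻¹ b)⟩
  have hxU : x ∈ p ⁻¹ᵁ U := hyU
  have hx'U : x' ∈ p ⁻¹ᵁ U := show p.base x' ∈ U from h ▸ hyU
  have hP := hU.preimage p
  have e1 := hU.comap_primeIdealOf_appLE (f := p) U (p ⁻¹ᵁ U) hP le_rfl hxU
  have e2 := hU.comap_primeIdealOf_appLE (f := p) U (p ⁻¹ᵁ U) hP le_rfl hx'U
  simp only [← Scheme.Hom.app_eq_appLE] at e1 e2
  obtain ⟨g, hg⟩ := Algebra.IsInvariant.exists_smul_of_under_eq Γ(Y, U) Γ(X, p ⁻¹ᵁ U) G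
    (hP.primeIdealOf ⟨x, hxU⟩).asIdeal (hP.primeIdealOf ⟨x', hx'U⟩).asIdeal
    (by
      change (hP.primeIdealOf ⟨x, hxU⟩).asIdeal.comap (p.app U).hom =
        (hP.primeIdealOf ⟨x', hx'U⟩).asIdeal.comap (p.app U).hom
      rw [← PrimeSpectrum.comap_asIdeal, ← PrimeSpectrum.comap_asIdeal]
      refine congrArg PrimeSpectrum.asIdeal (e1.trans (Eq.trans ?_ e2.symm))
      congr 1
      exact Subtype.ext h)
  refine ⟨g, ?_⟩
  have hgx : (ρ g).hom.base x ∈ p ⁻¹ᵁ U := SGA1.preimage_le_of_inv ρ p hp.inv g U hxU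
  have e3 := hP.comap_primeIdealOf_appLE (f := (ρ g).hom) (p ⁻¹ᵁ U) (p ⁻¹ᵁ U) hP
    (SGA1.preimage_le_of_inv ρ p hp.inv g U) hxU
  have e4 : hP.primeIdealOf ⟨x', hx'U⟩ = hP.primeIdealOf ⟨(ρ g).hom.base x, hgx⟩ := by
    rw [← e3]
    refine PrimeSpectrum.ext ?_
    rw [hg, PrimeSpectrum.comap_asIdeal, Ideal.pointwise_smul_eq_comap]
    refine Ideal.ext fun a => ?_
    simp only [Ideal.mem_comap]
    change act hp U (g⁻¹)⁻¹ a ∈ _ ↔ _
    rw [inv_inv]
    exact Iff.rfl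
  have := congrArg (fun q => hP.fromSpec q) e4
  simp only [hP.fromSpec_primeIdealOf] at this
  exact this.symm

theorem isQuotientMap [Finite G] (hp : SGA1.IsQuot ρ p) : Topology.IsQuotientMap p.base := by
  haveI := isIntegralHom hp
  exact p.isClosedMap.isQuotientMap p.continuous (surjective hp)

theorem preimage_image_eq [Finite G] (hp : SGA1.IsQuot ρ p) (S : Set X)
    (hS : ∀ g : G, ∀ x ∈ S, (ρ g).hom.base x ∈ S) : p.base ⁻¹' (p.base '' S) = S := by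
  refine Set.Subset.antisymm ?_ (Set.subset_preimage_image _ _)
  rintro x' ⟨x, hx, hxx⟩
  obtain ⟨g, rfl⟩ := exists_orbit hp hxx
  exact hS g x hx

/-- A surjective morphism that is injective on all sections is an epimorphism. -/
theorem hom_ext_of_injective {X' Y' Z : Scheme.{u}} (q : X' ⟶ Y') (hs : Function.Surjective q.base)
    (hi : ∀ U : Y'.Opens, Function.Injective (q.app U).hom) (a b : Y' ⟶ Z) (h : q ≫ a = q ≫ b) :
    a = b := by
  have hbase : ∀ y, a.base y = b.base y := fun y => by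
    obtain ⟨x, rfl⟩ := hs y
    rw [← Scheme.Hom.comp_apply, h, Scheme.Hom.comp_apply]
  choose W hW hyW _ using fun y : Y' => exists_isAffineOpen_mem_and_subset
    (TopologicalSpace.Opens.mem_top (a.base y))
  choose U hU hyU hUW using fun y : Y' => exists_isAffineOpen_mem_and_subset
    (x := y) (U := a ⁻¹ᵁ W y) (hyW y)
  let 𝒰 : Y'.OpenCover := Y'.openCoverOfIsOpenCover U
    (.mk (eq_top_iff.2 fun y _ => TopologicalSpace.Opens.mem_iSup.2 ⟨y, hyU y⟩))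
  refine 𝒰.hom_ext a b fun y => ?_
  have hb : U y ≤ b ⁻¹ᵁ W y := fun z hz => by
    change b.base z ∈ W y
    rw [← hbase]; exact hUW y hz
  have e : a.appLE (W y) (U y) (hUW y) = b.appLE (W y) (U y) hb := by
    ext s
    refine hi (U y) ?_
    have h1 := Scheme.Hom.appLE_comp_appLE q a (W y) (U y) (q ⁻¹ᵁ U y) (hUW y) le_rfl
    have h2 := Scheme.Hom.appLE_comp_appLE q b (W y) (U y) (q ⁻¹ᵁ U y) hb le_rfl
    simp only [← Scheme.Hom.app_eq_appLE, h] at h1 h2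
    have := congrArg (fun m => m.hom s) (h1.trans h2.symm)
    exact this
  change (U y).ι ≫ a = (U y).ι ≫ b
  rw [← cancel_epi (hU y).isoSpec.inv, ← Category.assoc, ← Category.assoc, (hU y).isoSpec_inv_ι,
    ← IsAffineOpen.SpecMap_appLE_fromSpec a (hW y) (hU y) (hUW y),
    ← IsAffineOpen.SpecMap_appLE_fromSpec b (hW y) (hU y) hb, e]

theorem injective_restrict (hp : SGA1.IsQuot ρ p) (V : Y.Opens) (W : V.toScheme.Opens) :
    Function.Injective ((p ∣_ V).app W).hom := by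
  rw [morphismRestrict_app]
  exact ((ConcreteCategory.bijective_of_isIso
    (X.presheaf.map (eqToHom (image_morphismRestrict_preimage p V W)).op)).1).comp (hp.injective _)

theorem hom_ext_of_openImmersion [Finite G] (hp : SGA1.IsQuot ρ p) {V Z : Scheme.{u}} (j : V ⟶ Y)
    [IsOpenImmersion j] (a b : V ⟶ Z) (h : pullback.snd p j ≫ a = pullback.snd p j ≫ b) : a = b := by
  rw [← cancel_epi j.isoOpensRange.inv]
  refine hom_ext_of_injective (p ∣_ j.opensRange) (fun y => ?_) (injective_restrict hp _) _ _ ?_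
  · obtain ⟨x, hx⟩ := surjective hp y.1
    have hxV : x ∈ p ⁻¹ᵁ j.opensRange := by
      show p.base x ∈ j.opensRange
      rw [hx]; exact y.2
    refine ⟨⟨x, hxV⟩, Subtype.ext ?_⟩
    simp [hx]
  · let L : (p ⁻¹ᵁ j.opensRange).toScheme ⟶ pullback p j :=
      pullback.lift (p ⁻¹ᵁ j.opensRange).ι (p ∣_ j.opensRange ≫ j.isoOpensRange.inv)
        (by rw [Category.assoc, Scheme.Hom.isoOpensRange_inv_comp, morphismRestrict_ι])
    have hL : L ≫ pullback.snd p j = p ∣_ j.opensRange ≫ j.isoOpensRange.inv := pullback.lift_snd _ _ _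
    rw [← Category.assoc, ← Category.assoc, ← hL, Category.assoc, Category.assoc, h]

theorem hom_ext [Finite G] (hp : SGA1.IsQuot ρ p) {Z : Scheme.{u}} (a b : Y ⟶ Z)
    (h : p ≫ a = p ≫ b) : a = b :=
  hom_ext_of_injective p (surjective hp) hp.injective a b h

theorem exists_desc [Finite G] (hp : SGA1.IsQuot ρ p) {Z : Scheme.{u}} (h : X ⟶ Z)
    (hh : ∀ g : G, (ρ g).hom ≫ h = h) : ∃ h' : Y ⟶ Z, p ≫ h' = h := by
  classical
  haveI := hp.affine
  haveI := isIntegralHom hp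
  choose x hx using surjective hp
  choose W hW hyW _ using fun y : Y => exists_isAffineOpen_mem_and_subset
    (TopologicalSpace.Opens.mem_top (h.base (x y)))
  have hsat : ∀ y, p.base ⁻¹' (p.base '' ((h ⁻¹ᵁ W y : X.Opens) : Set X)ᶜ) =
      ((h ⁻¹ᵁ W y : X.Opens) : Set X)ᶜ := fun y => preimage_image_eq hp _ fun g z hz hgz => hz (by
    change h.base ((ρ g).hom.base z) ∈ W y at hgz
    rw [← Scheme.Hom.comp_apply, hh] at hgz
    exact hgz)
  let V : Y → Y.Opens := fun y => ⟨(p.base '' ((h ⁻¹ᵁ W y : X.Opens) : Set X)ᶜ)ᶜ,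
    (p.isClosedMap _ (h ⁻¹ᵁ W y).isOpen.isClosed_compl).isOpen_compl⟩
  have hyV : ∀ y, y ∈ V y := fun y hy => by
    have h1 : x y ∈ p.base ⁻¹' (p.base '' ((h ⁻¹ᵁ W y : X.Opens) : Set X)ᶜ) := by
      rw [Set.mem_preimage, hx]; exact hy
    rw [hsat] at h1
    exact h1 (hyW y)
  choose U hU hyU hUV using fun y : Y => exists_isAffineOpen_mem_and_subset (x := y) (U := V y) (hyV y)
  have hPW : ∀ y, p ⁻¹ᵁ U y ≤ h ⁻¹ᵁ W y := fun y z hz => by
    by_contra hc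
    exact hUV y hz ⟨z, hc, rfl⟩
  have hinv : ∀ y (s : Γ(Z, W y)), (h.appLE (W y) (p ⁻¹ᵁ U y) (hPW y)).hom s ∈ (p.app (U y)).hom.range := by
    intro y s
    refine (hp.range_iff (U y) _).2 fun g => ?_
    rw [← RingHom.comp_apply, ← CommRingCat.hom_comp, Scheme.Hom.appLE_comp_appLE]
    simp only [hh g]
  let e : ∀ y, Γ(Y, U y) ≃+* (p.app (U y)).hom.range := fun y =>
    RingEquiv.ofBijective (p.app (U y)).hom.rangeRestrict
      ⟨fun a b hab => hp.injective _ (congrArg Subtype.val hab), (p.app (U y)).hom.rangeRestrict_surjective⟩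
  let φ : ∀ y, Γ(Z, W y) ⟶ Γ(Y, U y) := fun y => CommRingCat.ofHom
    ((e y).symm.toRingHom.comp ((h.appLE (W y) (p ⁻¹ᵁ U y) (hPW y)).hom.codRestrict _ (hinv y)))
  have hφ : ∀ y, φ y ≫ p.app (U y) = h.appLE (W y) (p ⁻¹ᵁ U y) (hPW y) := fun y => by
    ext s
    exact congrArg Subtype.val ((e y).apply_symm_apply _)
  let 𝒰 : Y.OpenCover := Y.openCoverOfIsOpenCover U
    (.mk (eq_top_iff.2 fun y _ => TopologicalSpace.Opens.mem_iSup.2 ⟨y, hyU y⟩))
  let F : ∀ y, (U y).toScheme ⟶ Z := fun y =>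
    (hU y).isoSpec.hom ≫ Spec.map (φ y) ≫ (hW y).fromSpec
  have hF : ∀ y, (p ∣_ U y) ≫ F y = (p ⁻¹ᵁ U y).ι ≫ h := fun y => by
    have hP := (hU y).preimage p
    have hfac : hP.isoSpec.hom ≫ hP.fromSpec = (p ⁻¹ᵁ U y).ι := by
      rw [← hP.isoSpec_inv_ι, Iso.hom_inv_id_assoc]
    have e1 : (p ∣_ U y) ≫ (hU y).isoSpec.hom = hP.isoSpec.hom ≫ Spec.map (p.app (U y)) := by
      rw [← cancel_mono (hU y).fromSpec, Category.assoc, Category.assoc, Scheme.Hom.app_eq_appLE,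
        IsAffineOpen.SpecMap_appLE_fromSpec p (hU y) hP le_rfl, reassoc_of% hfac,
        ← (hU y).isoSpec_inv_ι, Iso.hom_inv_id_assoc, morphismRestrict_ι]
    simp only [F]
    rw [reassoc_of% e1, ← Spec.map_comp_assoc, hφ,
      IsAffineOpen.SpecMap_appLE_fromSpec h (hW y) hP (hPW y), reassoc_of% hfac]
  have hcompat : ∀ i j, pullback.fst (𝒰.f i) (𝒰.f j) ≫ F i = pullback.snd (𝒰.f i) (𝒰.f j) ≫ F j := by
    intro i j
    let k : pullback (U i).ι (U j).ι ⟶ Y := pullback.fst (U i).ι (U j).ι ≫ (U i).ι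
    have key : ∀ (y : Y) (c : pullback (U i).ι (U j).ι ⟶ (U y).toScheme), c ≫ (U y).ι = k →
        pullback.snd p k ≫ c ≫ F y = pullback.fst p k ≫ h := fun y c hc => by
      have hr : Set.range (pullback.fst p k) ⊆ Set.range (p ⁻¹ᵁ U y).ι := by
        rw [Scheme.Opens.range_ι]
        rintro _ ⟨z, rfl⟩
        change p.base (pullback.fst p k z) ∈ U y
        have e : pullback.fst p k ≫ p = (pullback.snd p k ≫ c) ≫ (U y).ι :=
          pullback.condition.trans ((congrArg (pullback.snd p k ≫ ·) hc.symm).trans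
            (Category.assoc _ _ _).symm)
        rw [← Scheme.Hom.comp_apply, e, Scheme.Hom.comp_apply]
        exact ((pullback.snd p k ≫ c) z).2
      let L := IsOpenImmersion.lift (p ⁻¹ᵁ U y).ι _ hr
      have e1 : L ≫ (p ⁻¹ᵁ U y).ι = pullback.fst p k := IsOpenImmersion.lift_fac _ _ hr
      have e2 : L ≫ (p ∣_ U y) = pullback.snd p k ≫ c := by
        rw [← cancel_mono (U y).ι, Category.assoc, morphismRestrict_ι, reassoc_of% e1,
          Category.assoc, hc, pullback.condition]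
      rw [← reassoc_of% e2, hF, reassoc_of% e1]
    exact hom_ext_of_openImmersion hp k _ _
      ((key i _ rfl).trans (key j _ pullback.condition.symm).symm)
  refine ⟨𝒰.glueMorphisms F hcompat, ?_⟩
  let 𝒱 : X.OpenCover := X.openCoverOfIsOpenCover (fun y => p ⁻¹ᵁ U y)
    (.mk (eq_top_iff.2 fun z _ => TopologicalSpace.Opens.mem_iSup.2 ⟨p.base z, hyU _⟩))
  refine 𝒱.hom_ext _ _ fun y => ?_
  change (p ⁻¹ᵁ U y).ι ≫ p ≫ 𝒰.glueMorphisms F hcompat = (p ⁻¹ᵁ U y).ι ≫ h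
  rw [← morphismRestrict_ι_assoc, ← hF]
  exact congrArg ((p ∣_ U y) ≫ ·) (𝒰.ι_glueMorphisms F hcompat y)

theorem isQuot_restrict [Finite G] (hp : SGA1.IsQuot ρ p) (U : Y.Opens)
    (ρU : G →* Aut (p ⁻¹ᵁ U).toScheme)
    (hρU : ∀ g : G, (ρU g).hom ≫ (p ⁻¹ᵁ U).ι = (p ⁻¹ᵁ U).ι ≫ (ρ g).hom) :
    SGA1.IsQuot ρU (p ∣_ U) := by
  haveI := hp.affine
  have hinv : ∀ g, (ρU g).hom ≫ (p ∣_ U) = p ∣_ U := fun g => by
    rw [← cancel_mono U.ι, Category.assoc, morphismRestrict_ι, reassoc_of% (hρU g), hp.inv g]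
  refine ⟨IsZariskiLocalAtTarget.restrict hp.affine U, hinv, fun V => injective_restrict hp U V, fun V s => ?_⟩
  let P : (p ⁻¹ᵁ U).toScheme.Opens := (p ∣_ U) ⁻¹ᵁ V
  have hW : (p ⁻¹ᵁ U).ι ''ᵁ P = p ⁻¹ᵁ U.ι ''ᵁ V := image_morphismRestrict_preimage p U V
  let m := X.presheaf.map (eqToHom hW).op
  have hm : Function.Bijective m.hom := ConcreteCategory.bijective_of_isIso m
  have hP : P ≤ (p ⁻¹ᵁ U).ι ⁻¹ᵁ (p ⁻¹ᵁ U.ι ''ᵁ V) := by
    rw [← hW, Scheme.Hom.preimage_image_eq]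
  have hι : (p ⁻¹ᵁ U).ι.appLE (p ⁻¹ᵁ U.ι ''ᵁ V) P hP = m := by
    rw [Scheme.Opens.ι_appLE]
    rfl
  have hcomm : ∀ g : G, (ρ g).hom.appLE (p ⁻¹ᵁ U.ι ''ᵁ V) (p ⁻¹ᵁ U.ι ''ᵁ V)
        (SGA1.preimage_le_of_inv ρ p hp.inv g _) ≫ m =
      m ≫ (ρU g).hom.appLE P P (SGA1.preimage_le_of_inv ρU (p ∣_ U) hinv g V) := fun g => by
    rw [← hι]
    erw [Scheme.Hom.appLE_comp_appLE, Scheme.Hom.appLE_comp_appLE]
    simp only [hρU g]
  have happ : (p ∣_ U).app V = p.app (U.ι ''ᵁ V) ≫ m := morphismRestrict_app p U V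
  obtain ⟨t, rfl⟩ := hm.2 s
  rw [happ]
  have hr : m.hom t ∈ Set.range (p.app (U.ι ''ᵁ V) ≫ m).hom ↔ t ∈ Set.range (p.app (U.ι ''ᵁ V)).hom :=
    ⟨fun ⟨z, hz⟩ => ⟨z, hm.1 hz⟩, fun ⟨z, hz⟩ => ⟨z, congrArg m.hom hz⟩⟩
  refine hr.trans ((hp.range_iff _ _).trans ?_)
  refine forall_congr' fun g => ?_
  have e1 := congrArg (fun f => f.hom t) (hcomm g)
  simp only [CommRingCat.hom_comp, RingHom.comp_apply] at e1
  rw [← hm.1.eq_iff, e1]
  exact Iff.rfl

end Groth.Agent.SGA1QuotLib
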