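import Mathlib
import Groth.Prelude.Def_SGA1
import Groth.Agent.SGA1QuotLib.Basic

/-! Affine quotients by finite groups. -/

universe u
open CategoryTheory CategoryTheory.Limits AlgebraicGeometry Opposite TopologicalSpace

namespace Groth.Agent.SGA1QuotLib

variable {X Y : Scheme.{u}} {G : Type u} [Group G] {ρ : G →* Aut X} {p : X ⟶ Y}

theorem app_map_apply (f : X ⟶ Y) {U V : Y.Opens} (h : V ≤ U) (s : Γ(Y, U)) :
    (f.app V).hom ((Y.presheaf.map (homOfLE h).op).hom s) =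
      (X.presheaf.map (homOfLE ((Opens.map f.base).map (homOfLE h)).le).op).hom ((f.app U).hom s) := by
  have := f.naturality (homOfLE h).op
  exact congrArg (fun m => m.hom s) this

theorem appLE_map_apply (f : X ⟶ X) {W W' : X.Opens} (h : W' ≤ W) (e : W ≤ f ⁻¹ᵁ W)
    (e' : W' ≤ f ⁻¹ᵁ W') (s : Γ(X, W)) :
    (f.appLE W' W' e').hom ((X.presheaf.map (homOfLE h).op).hom s) =
      (X.presheaf.map (homOfLE h).op).hom ((f.appLE W W e).hom s) := by
  have h1 : X.presheaf.map (homOfLE h).op ≫ f.appLE W' W' e' =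
      f.appLE W W e ≫ X.presheaf.map (homOfLE h).op := by
    rw [Scheme.Hom.map_appLE, Scheme.Hom.appLE_map]
  exact congrArg (fun m => m.hom s) h1

/-- The criterion: invariance on global sections suffices for affine schemes. -/
theorem isQuot_of_isAffine [Finite G] [IsAffine X] [IsAffine Y]
    (hinv : ∀ g : G, (ρ g).hom ≫ p = p) (hinj : Function.Injective (p.app ⊤).hom)
    (hrange : ∀ s : Γ(X, p ⁻¹ᵁ ⊤), (∀ g : G, ((ρ g).hom.appLE (p ⁻¹ᵁ ⊤) (p ⁻¹ᵁ ⊤)
        (SGA1.preimage_le_of_inv ρ p hinv g ⊤)).hom s = s) → s ∈ Set.range (p.app ⊤).hom) :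
    SGA1.IsQuot ρ p := by
  classical
  cases nonempty_fintype G
  -- basic opens
  have hbasic : ∀ b : Γ(Y, ⊤), Function.Injective (p.app (Y.basicOpen b)).hom ∧
      ∀ s : Γ(X, p ⁻¹ᵁ Y.basicOpen b),
        (∀ g : G, ((ρ g).hom.appLE (p ⁻¹ᵁ Y.basicOpen b) (p ⁻¹ᵁ Y.basicOpen b)
          (SGA1.preimage_le_of_inv ρ p hinv g _)).hom s = s) →
        s ∈ Set.range (p.app (Y.basicOpen b)).hom := by
    intro b
    let β : Γ(X, p ⁻¹ᵁ ⊤) := (p.app ⊤).hom b
    have hβ : p ⁻¹ᵁ Y.basicOpen b = X.basicOpen β := Scheme.preimage_basicOpen p b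
    have hle : p ⁻¹ᵁ Y.basicOpen b ≤ p ⁻¹ᵁ ⊤ := le_top
    letI : Algebra Γ(X, p ⁻¹ᵁ ⊤) Γ(X, p ⁻¹ᵁ Y.basicOpen b) :=
      (X.presheaf.map (homOfLE hle).op).hom.toAlgebra
    haveI : IsLocalization.Away β Γ(X, p ⁻¹ᵁ Y.basicOpen b) :=
      ((isAffineOpen_top Y).preimage p).isLocalization_of_eq_basicOpen β (homOfLE hle) hβ
    letI : Algebra Γ(Y, ⊤) Γ(Y, Y.basicOpen b) := (Y.presheaf.map (homOfLE (Y.basicOpen_le b)).op).hom.toAlgebra
    haveI : IsLocalization.Away b Γ(Y, Y.basicOpen b) :=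
      (isAffineOpen_top Y).isLocalization_of_eq_basicOpen b (homOfLE (Y.basicOpen_le b)) rfl
    have hnat : ∀ a : Γ(Y, ⊤), (p.app (Y.basicOpen b)).hom (algebraMap _ _ a) =
        algebraMap _ Γ(X, p ⁻¹ᵁ Y.basicOpen b) ((p.app ⊤).hom a) := fun a =>
      app_map_apply p (Y.basicOpen_le b) a
    have hσ : ∀ (g : G) (a : Γ(X, p ⁻¹ᵁ ⊤)),
        ((ρ g).hom.appLE (p ⁻¹ᵁ Y.basicOpen b) (p ⁻¹ᵁ Y.basicOpen b)
          (SGA1.preimage_le_of_inv ρ p hinv g _)).hom (algebraMap _ _ a) =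
        algebraMap _ Γ(X, p ⁻¹ᵁ Y.basicOpen b) (((ρ g).hom.appLE (p ⁻¹ᵁ ⊤) (p ⁻¹ᵁ ⊤)
          (SGA1.preimage_le_of_inv ρ p hinv g ⊤)).hom a) := fun g a =>
      appLE_map_apply (ρ g).hom hle _ _ a
    have hσb : ∀ (g : G) (c : Γ(Y, ⊤)), ((ρ g).hom.appLE (p ⁻¹ᵁ ⊤) (p ⁻¹ᵁ ⊤)
          (SGA1.preimage_le_of_inv ρ p hinv g ⊤)).hom ((p.app ⊤).hom c) = (p.app ⊤).hom c := fun g c => by
      rw [← RingHom.comp_apply, ← CommRingCat.hom_comp, Scheme.Hom.app_eq_appLE,
        Scheme.Hom.appLE_comp_appLE]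
      simp only [hinv g]
    refine ⟨(injective_iff_map_eq_zero _).2 fun s hs => ?_, fun s hs => ?_⟩
    · obtain ⟨⟨a, ⟨_, n, rfl⟩⟩, ha⟩ := IsLocalization.surj (Submonoid.powers b) s
      have h0 := congrArg (p.app (Y.basicOpen b)).hom ha
      rw [map_mul, hs, zero_mul, hnat] at h0
      obtain ⟨⟨_, m, rfl⟩, hm⟩ :=
        (IsLocalization.map_eq_zero_iff (Submonoid.powers β) _ _).1 h0.symm
      have hm' : b ^ m * a = 0 := hinj (by rw [map_zero, map_mul, map_pow]; exact hm)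
      have h1 := congrArg (algebraMap Γ(Y, ⊤) Γ(Y, Y.basicOpen b)) hm'
      rw [map_mul, map_zero, map_pow] at h1
      rw [((IsLocalization.Away.algebraMap_isUnit b).pow m).mul_right_eq_zero] at h1
      rw [h1] at ha
      exact ((IsLocalization.map_units _ (⟨b ^ n, n, rfl⟩ : Submonoid.powers b))).mul_left_eq_zero.1 ha
    · obtain ⟨⟨a, ⟨_, n, rfl⟩⟩, ha⟩ := IsLocalization.surj (Submonoid.powers β) s
      have hfix : ∀ g : G, ∃ m : ℕ, β ^ m * ((((ρ g).hom.appLE (p ⁻¹ᵁ ⊤) (p ⁻¹ᵁ ⊤)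
          (SGA1.preimage_le_of_inv ρ p hinv g ⊤)).hom a) - a) = 0 := fun g => by
        have h0 := congrArg ((ρ g).hom.appLE (p ⁻¹ᵁ Y.basicOpen b) (p ⁻¹ᵁ Y.basicOpen b)
          (SGA1.preimage_le_of_inv ρ p hinv g _)).hom ha
        dsimp only at h0
        rw [map_mul, hs g, hσ, hσ, map_pow (((ρ g).hom.appLE (p ⁻¹ᵁ ⊤) (p ⁻¹ᵁ ⊤) _).hom),
          hσb g b] at h0
        obtain ⟨⟨_, m, rfl⟩, hm⟩ := (IsLocalization.map_eq_zero_iff (Submonoid.powers β)
          Γ(X, p ⁻¹ᵁ Y.basicOpen b) _).1 (show algebraMap _ _ ((((ρ g).hom.appLE (p ⁻¹ᵁ ⊤) (p ⁻¹ᵁ ⊤)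
            (SGA1.preimage_le_of_inv ρ p hinv g ⊤)).hom a) - a) = 0 by
            rw [map_sub, sub_eq_zero]; exact h0.symm.trans ha)
        exact ⟨m, hm⟩
      choose m hm using hfix
      let M := ∑ g : G, m g
      have hM : ∀ g : G, β ^ M * ((((ρ g).hom.appLE (p ⁻¹ᵁ ⊤) (p ⁻¹ᵁ ⊤)
          (SGA1.preimage_le_of_inv ρ p hinv g ⊤)).hom a) - a) = 0 := fun g => by
        obtain ⟨d, hd⟩ := Nat.exists_eq_add_of_le
          (Finset.single_le_sum (fun i _ => Nat.zero_le (m i)) (Finset.mem_univ g) : m g ≤ M)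
        rw [show M = m g + d from hd, pow_add, mul_right_comm, hm, zero_mul]
      obtain ⟨c, hc⟩ := hrange (β ^ M * a) fun g => by
        rw [map_mul, map_pow, hσb g b]
        exact sub_eq_zero.1 (by rw [← mul_sub]; exact hM g)
      obtain ⟨u, hu⟩ := ((IsLocalization.Away.algebraMap_isUnit (S := Γ(Y, Y.basicOpen b)) b).pow (n + M)).exists_left_inv
      refine ⟨algebraMap _ _ c * u, ?_⟩
      have h1 := congrArg (p.app (Y.basicOpen b)).hom hu
      rw [map_mul, map_pow, hnat, map_one] at h1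
      dsimp only at ha
      rw [map_mul, hnat, hc, map_mul, map_pow, ← ha, map_pow]
      linear_combination s * h1
  -- all opens
  have hinjU : ∀ U : Y.Opens, Function.Injective (p.app U).hom := fun U => by
    intro s t hst
    choose b hb hyb using fun y : U => (isAffineOpen_top Y).exists_basicOpen_le (V := U) y trivial
    refine Y.sheaf.eq_of_locally_eq' (fun y : U => Y.basicOpen (b y)) U (fun y => homOfLE (hb y))
      (fun y hy => TopologicalSpace.Opens.mem_iSup.2 ⟨⟨y, hy⟩, hyb _⟩) s t fun y => (hbasic (b y)).1 ?_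
    change (p.app _).hom ((Y.presheaf.map _).hom s) = (p.app _).hom ((Y.presheaf.map _).hom t)
    rw [app_map_apply, app_map_apply, hst]
  refine ⟨inferInstance, hinv, hinjU, fun U s => ⟨?_, fun hs => ?_⟩⟩
  · rintro ⟨t, rfl⟩ g
    rw [← RingHom.comp_apply, ← CommRingCat.hom_comp, Scheme.Hom.app_eq_appLE,
      Scheme.Hom.appLE_comp_appLE]
    simp only [hinv g]
  · choose b hb hyb using fun y : U => (isAffineOpen_top Y).exists_basicOpen_le (V := U) y trivial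
    have hloc : ∀ y : U, ∃ t, (p.app (Y.basicOpen (b y))).hom t =
        (X.presheaf.map (homOfLE ((Opens.map p.base).map (homOfLE (hb y))).le).op).hom s := fun y =>
      (hbasic (b y)).2 _ fun g => by
        rw [appLE_map_apply (ρ g).hom _ (SGA1.preimage_le_of_inv ρ p hinv g U), hs g]
    choose t ht using hloc
    obtain ⟨r, hr, -⟩ := Y.sheaf.existsUnique_gluing' (fun y : U => Y.basicOpen (b y)) U
      (fun y => homOfLE (hb y))
      (fun y hy => TopologicalSpace.Opens.mem_iSup.2 ⟨⟨y, hy⟩, hyb _⟩) t fun i j => hinjU _ (by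
        change (p.app _).hom ((Y.presheaf.map (homOfLE _).op).hom (t i)) =
          (p.app _).hom ((Y.presheaf.map (homOfLE _).op).hom (t j))
        rw [app_map_apply, app_map_apply, ht, ht, ← RingHom.comp_apply, ← RingHom.comp_apply,
          ← CommRingCat.hom_comp, ← CommRingCat.hom_comp, ← Functor.map_comp, ← Functor.map_comp]
        rfl)
    refine ⟨r, ?_⟩
    refine X.sheaf.eq_of_locally_eq' (fun y : U => p ⁻¹ᵁ Y.basicOpen (b y)) (p ⁻¹ᵁ U)
      (fun y => homOfLE ((Opens.map p.base).map (homOfLE (hb y))).le)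
      (fun x hx => TopologicalSpace.Opens.mem_iSup.2 ⟨⟨p.base x, hx⟩, hyb ⟨p.base x, hx⟩⟩) _ _ fun y => ?_
    change (X.presheaf.map _).hom ((p.app U).hom r) = (X.presheaf.map _).hom s
    rw [← app_map_apply p (hb y), ← ht y]
    exact congrArg (p.app _).hom (hr y)

end Groth.Agent.SGA1QuotLib
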