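import Mathlib
import Groth.Prelude.Def_SGA1
import Groth.Agent.SGA1QuotLib.Basic
import Groth.Agent.SGA1QuotLib.Affine

/-! Quotients by finite groups: locality and flat base change. -/

universe u
open CategoryTheory CategoryTheory.Limits AlgebraicGeometry Opposite TopologicalSpace
open scoped TensorProduct

namespace Groth.Agent.SGA1QuotLib

set_option linter.style.haveILetI false

/-- Invariants commute with flat base change. -/
theorem invariants_of_isPushout (A B A' B' : Type u) [CommRing A] [CommRing B] [CommRing A']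
    [CommRing B'] [Algebra A B] [Algebra A A'] [Algebra A' B'] [Algebra B B'] [Algebra A B']
    [IsScalarTower A A' B'] [IsScalarTower A B B'] [Algebra.IsPushout A A' B B'] [Module.Flat A A']
    {G : Type u} [Finite G] (σ : G → (B →+* B)) (σ' : G → (B' →+* B'))
    (hσA : ∀ g a, σ g (algebraMap A B a) = algebraMap A B a)
    (hσA' : ∀ g a, σ' g (algebraMap A' B' a) = algebraMap A' B' a)
    (hcomm : ∀ g b, σ' g (algebraMap B B' b) = algebraMap B B' (σ g b))
    (hinj : Function.Injective (algebraMap A B))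
    (hrange : ∀ b, (∀ g, σ g b = b) → b ∈ Set.range (algebraMap A B)) :
    Function.Injective (algebraMap A' B') ∧
      ∀ s, (∀ g, σ' g s = s) → s ∈ Set.range (algebraMap A' B') := by
  classical
  cases nonempty_fintype G
  let e := Algebra.IsPushout.equiv A A' B B'
  let d : G → (B →ₗ[A] B) := fun g =>
    { toFun := fun b => σ g b - b
      map_add' := fun x y => by simp only [map_add]; ring
      map_smul' := fun a x => by
        simp only [Algebra.smul_def, map_mul, hσA, RingHom.id_apply]; ring }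
  let L : B →ₗ[A] (G → B) := LinearMap.pi d
  have hex : Function.Exact (Algebra.linearMap A B) L := fun b => by
    refine ⟨fun hb => hrange b fun g => sub_eq_zero.1 (congrFun hb g), ?_⟩
    rintro ⟨a, rfl⟩
    exact funext fun g => sub_eq_zero.2 (hσA g a)
  have hl : ∀ a : A', e ((Algebra.linearMap A B).lTensor A' (a ⊗ₜ (1 : A))) = algebraMap A' B' a :=
    fun a => by
      rw [LinearMap.lTensor_tmul, Algebra.linearMap_apply, map_one]
      exact (Algebra.IsPushout.equiv_tmul ..).trans (by rw [map_one, mul_one])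
  have hone : ∀ w : A' ⊗[A] A, ∃ a : A', w = a ⊗ₜ (1 : A) := fun w =>
    ⟨TensorProduct.rid A A' w, ((TensorProduct.rid A A').symm_apply_apply w).symm⟩
  refine ⟨(injective_iff_map_eq_zero _).2 fun a ha => ?_, fun s hs => ?_⟩
  · rw [← hl, map_eq_zero_iff e e.injective, map_eq_zero_iff _
      (Module.Flat.lTensor_preserves_injective_linearMap (M := A') (Algebra.linearMap A B) hinj)] at ha
    simpa using congrArg (TensorProduct.rid A A') ha
  · have hd : ∀ g z, e ((d g).lTensor A' z) = σ' g (e z) - e z := fun g z => by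
      induction z with
      | zero => simp
      | add x y hx hy => simp only [map_add, hx, hy]; ring
      | tmul a b =>
        rw [LinearMap.lTensor_tmul]
        change Algebra.IsPushout.equiv A A' B B' _ = σ' g (Algebra.IsPushout.equiv A A' B B' _) -
          Algebra.IsPushout.equiv A A' B B' _
        rw [Algebra.IsPushout.equiv_tmul, Algebra.IsPushout.equiv_tmul, map_mul, hσA', hcomm]
        change _ * algebraMap B B' (σ g b - b) = _
        rw [map_sub, mul_sub]
    have hz : L.lTensor A' (e.symm s) = 0 := by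
      apply (TensorProduct.piRight A A A' fun _ : G => B).injective
      rw [map_zero]
      funext g
      have : ∀ z, TensorProduct.piRight A A A' (fun _ : G => B) (L.lTensor A' z) g = (d g).lTensor A' z :=
        fun z => by
          induction z with
          | zero => simp
          | add x y hx hy => simp only [map_add, Pi.add_apply, hx, hy]
          | tmul a b => simp [L]
      rw [this, Pi.zero_apply, ← map_eq_zero_iff e e.injective, hd, e.apply_symm_apply, hs, sub_self]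
    obtain ⟨w, hw⟩ := (Module.Flat.lTensor_exact A' hex _).1 hz
    obtain ⟨a, rfl⟩ := hone w
    exact ⟨a, by rw [← hl, hw, e.apply_symm_apply]⟩

variable {X Y : Scheme.{u}} {G : Type u} [Group G] {ρ : G →* Aut X} {p : X ⟶ Y}

/-- Being a quotient can be checked on sufficiently many opens. -/
theorem isQuot_of_forall_exists [IsAffineHom p] (hinv : ∀ g : G, (ρ g).hom ≫ p = p)
    (h : ∀ (U : Y.Opens), ∀ y ∈ U, ∃ V : Y.Opens, y ∈ V ∧ V ≤ U ∧
      Function.Injective (p.app V).hom ∧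
      ∀ s : Γ(X, p ⁻¹ᵁ V), (∀ g : G, ((ρ g).hom.appLE (p ⁻¹ᵁ V) (p ⁻¹ᵁ V)
        (SGA1.preimage_le_of_inv ρ p hinv g V)).hom s = s) → s ∈ Set.range (p.app V).hom) :
    SGA1.IsQuot ρ p := by
  choose V hyV hVU hVi hVr using h
  have hinjU : ∀ U : Y.Opens, Function.Injective (p.app U).hom := fun U => by
    intro s t hst
    refine Y.sheaf.eq_of_locally_eq' (fun y : U => V U y.1 y.2) U (fun y => homOfLE (hVU _ _ y.2))
      (fun y hy => Opens.mem_iSup.2 ⟨⟨y, hy⟩, hyV _ _ _⟩) s t fun y => hVi U y.1 y.2 ?_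
    change (p.app _).hom ((Y.presheaf.map _).hom s) = (p.app _).hom ((Y.presheaf.map _).hom t)
    rw [app_map_apply, app_map_apply, hst]
  refine ⟨inferInstance, hinv, hinjU, fun U s => ⟨?_, fun hs => ?_⟩⟩
  · rintro ⟨t, rfl⟩ g
    rw [← RingHom.comp_apply, ← CommRingCat.hom_comp, Scheme.Hom.app_eq_appLE,
      Scheme.Hom.appLE_comp_appLE]
    simp only [hinv g]
  · have hloc : ∀ y : U, ∃ t, (p.app (V U y.1 y.2)).hom t =
        (X.presheaf.map (homOfLE ((Opens.map p.base).map (homOfLE (hVU U y.1 y.2))).le).op).hom s :=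
      fun y => hVr U y.1 y.2 _ fun g => by
        rw [appLE_map_apply (ρ g).hom _ (SGA1.preimage_le_of_inv ρ p hinv g U), hs g]
    choose t ht using hloc
    obtain ⟨r, hr, -⟩ := Y.sheaf.existsUnique_gluing' (fun y : U => V U y.1 y.2) U
      (fun y => homOfLE (hVU U y.1 y.2))
      (fun y hy => Opens.mem_iSup.2 ⟨⟨y, hy⟩, hyV _ _ _⟩) t fun i j => hinjU _ (by
        change (p.app _).hom ((Y.presheaf.map (homOfLE _).op).hom (t i)) =
          (p.app _).hom ((Y.presheaf.map (homOfLE _).op).hom (t j))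
        rw [app_map_apply, app_map_apply, ht, ht, ← RingHom.comp_apply, ← RingHom.comp_apply,
          ← CommRingCat.hom_comp, ← CommRingCat.hom_comp, ← Functor.map_comp, ← Functor.map_comp]
        rfl)
    refine ⟨r, ?_⟩
    refine X.sheaf.eq_of_locally_eq' (fun y : U => p ⁻¹ᵁ V U y.1 y.2) (p ⁻¹ᵁ U)
      (fun y => homOfLE ((Opens.map p.base).map (homOfLE (hVU U y.1 y.2))).le)
      (fun x hx => Opens.mem_iSup.2 ⟨⟨p.base x, hx⟩, hyV _ _ _⟩) _ _ fun y => ?_
    change (X.presheaf.map _).hom ((p.app U).hom r) = (X.presheaf.map _).hom s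
    rw [← app_map_apply p (hVU U y.1 y.2), ← ht y]
    exact congrArg (p.app _).hom (hr y)

/-- Quotients commute with flat base change. -/
theorem isQuot_of_isPullback_of_flat [Finite G] (hp : SGA1.IsQuot ρ p) {X' Y' : Scheme.{u}}
    (qY : Y' ⟶ Y) [Flat qY] (pX : X' ⟶ X) (p' : X' ⟶ Y') (hX : IsPullback pX p' p qY)
    (ρ' : G →* Aut X') (hρ₁ : ∀ g : G, (ρ' g).hom ≫ pX = pX ≫ (ρ g).hom)
    (hρ₂ : ∀ g : G, (ρ' g).hom ≫ p' = p') : SGA1.IsQuot ρ' p' := by
  haveI := hp.affine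
  haveI : IsAffineHom p' := MorphismProperty.of_isPullback hX inferInstance
  refine isQuot_of_forall_exists hρ₂ fun W y hy => ?_
  obtain ⟨U, hU, hyU, -⟩ := exists_isAffineOpen_mem_and_subset (Opens.mem_top (qY.base y))
  obtain ⟨V, hV, hyV, hVW⟩ := exists_isAffineOpen_mem_and_subset (x := y) (U := W ⊓ qY ⁻¹ᵁ U) ⟨hy, hyU⟩
  have e1 : V ≤ qY ⁻¹ᵁ U := hVW.trans inf_le_right
  refine ⟨V, hyV, hVW.trans inf_le_left, ?_⟩
  have e2 : p' ⁻¹ᵁ V ≤ pX ⁻¹ᵁ p ⁻¹ᵁ U := fun z hz => by
    change (pX ≫ p) z ∈ U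
    rw [hX.w]
    exact e1 hz
  have hUY : p' ⁻¹ᵁ V = pX ⁻¹ᵁ (p ⁻¹ᵁ U) ⊓ p' ⁻¹ᵁ V := (inf_eq_right.2 e2).symm
  have hpo := (isIso_pushoutSection_iff hX e1 le_rfl hUY).1
    (isIso_pushoutSection_of_isAffineOpen hX e1 le_rfl hUY hU hV (hU.preimage p))
  simp only [← Scheme.Hom.app_eq_appLE] at hpo
  algebraize [(p.app U).hom, (qY.appLE U V e1).hom, (p'.app V).hom, (pX.appLE _ _ e2).hom,
    ((p'.app V).hom.comp (qY.appLE U V e1).hom)]
  haveI : IsScalarTower Γ(Y, U) Γ(X, p ⁻¹ᵁ U) Γ(X', p' ⁻¹ᵁ V) :=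
    IsScalarTower.of_algebraMap_eq' (congrArg CommRingCat.Hom.hom hpo.w).symm
  haveI : Algebra.IsPushout Γ(Y, U) Γ(Y', V) Γ(X, p ⁻¹ᵁ U) Γ(X', p' ⁻¹ᵁ V) :=
    CommRingCat.isPushout_iff_isPushout.mp hpo.flip
  haveI : Module.Flat Γ(Y, U) Γ(Y', V) := qY.flat_appLE hU hV e1
  exact invariants_of_isPushout Γ(Y, U) Γ(X, p ⁻¹ᵁ U) Γ(Y', V) Γ(X', p' ⁻¹ᵁ V)
    (fun g => act hp U g)
    (fun g => ((ρ' g).hom.appLE (p' ⁻¹ᵁ V) (p' ⁻¹ᵁ V) (SGA1.preimage_le_of_inv ρ' p' hρ₂ g V)).hom)
    (act_app hp U)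
    (fun g a => by
      change (p'.app V ≫ (ρ' g).hom.appLE _ _ _).hom a = (p'.app V).hom a
      rw [Scheme.Hom.app_eq_appLE, Scheme.Hom.appLE_comp_appLE]
      simp only [hρ₂ g])
    (fun g b => by
      change (pX.appLE _ _ e2 ≫ (ρ' g).hom.appLE _ _ _).hom b =
        ((ρ g).hom.appLE _ _ _ ≫ pX.appLE _ _ e2).hom b
      rw [Scheme.Hom.appLE_comp_appLE, Scheme.Hom.appLE_comp_appLE]
      simp only [hρ₁ g])
    (hp.injective U) (fun b hb => (hp.range_iff U b).2 hb)

/-- Quotients in stages for a product of groups. -/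
theorem isQuot_comp_prod {Z : Scheme.{u}} {H : Type u} [Group H] {θ : G × H →* Aut X}
    {ρ : G →* Aut X} (hθ : ∀ g, θ (g, 1) = ρ g) (hp : SGA1.IsQuot ρ p) {σ : H →* Aut Y} {q : Y ⟶ Z}
    (hq : SGA1.IsQuot σ q) (hσ : ∀ h, (θ (1, h)).hom ≫ p = p ≫ (σ h).hom) :
    SGA1.IsQuot θ (p ≫ q) := by
  haveI := hp.affine
  haveI := hq.affine
  have hsplit : ∀ g h, (θ (g, h)).hom = (θ (1, h)).hom ≫ (ρ g).hom := fun g h => by
    rw [← hθ, show ((g, h) : G × H) = (g, 1) * (1, h) by simp, map_mul]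
    rfl
  have hinv : ∀ gh, (θ gh).hom ≫ p ≫ q = p ≫ q := fun ⟨g, h⟩ => by
    rw [hsplit, Category.assoc, reassoc_of% (hp.inv g), reassoc_of% (hσ h), hq.inv]
  refine ⟨inferInstance, hinv, fun U => ?_, fun U s => ⟨?_, fun hs => ?_⟩⟩
  · rw [Scheme.Hom.comp_app]
    exact (hp.injective _).comp (hq.injective U)
  · rintro ⟨t, rfl⟩ gh
    rw [← RingHom.comp_apply, ← CommRingCat.hom_comp, Scheme.Hom.app_eq_appLE,
      Scheme.Hom.appLE_comp_appLE]
    simp only [hinv gh]
  · obtain ⟨t, ht⟩ := (hp.range_iff (q ⁻¹ᵁ U) s).2 fun g => by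
      have := hs (g, 1)
      simp only [hθ] at this
      exact this
    obtain ⟨r, hr⟩ := (hq.range_iff U t).2 fun h => by
      apply hp.injective
      refine Eq.trans ?_ ((hs (1, h)).trans ht.symm)
      rw [← ht]
      have e : (σ h).hom.appLE (q ⁻¹ᵁ U) (q ⁻¹ᵁ U) (SGA1.preimage_le_of_inv σ q hq.inv h U) ≫
            p.app (q ⁻¹ᵁ U) =
          p.app (q ⁻¹ᵁ U) ≫ (θ (1, h)).hom.appLE ((p ≫ q) ⁻¹ᵁ U) ((p ≫ q) ⁻¹ᵁ U)
            (SGA1.preimage_le_of_inv θ (p ≫ q) hinv (1, h) U) := by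
        rw [Scheme.Hom.app_eq_appLE, Scheme.Hom.appLE_comp_appLE]
        erw [Scheme.Hom.appLE_comp_appLE]
        simp only [hσ h]
        rfl
      exact congrArg (fun m => m.hom t) e
    exact ⟨r, ((congrArg (fun m => m.hom r) (Scheme.Hom.comp_app p q U)).trans
      (congrArg (p.app (q ⁻¹ᵁ U)).hom hr)).trans ht⟩

end Groth.Agent.SGA1QuotLib
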