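import Mathlib
import Groth.Prelude.Def_SGA1
import Groth.Agent.SGA1QuotLib.Affine

/-! Properties of the morphism induced on a quotient by a finite group. -/

universe u
open CategoryTheory CategoryTheory.Limits AlgebraicGeometry

namespace Groth.Agent.SGA1QuotLib

variable {X Y Z : Scheme.{u}} {G : Type u} [Group G] {ρ : G →* Aut X} {p : X ⟶ Y}

theorem range_restrict_le (hp : SGA1.IsQuot ρ p) (U : Y.Opens) (g : G) :
    Set.range ((p ⁻¹ᵁ U).ι ≫ (ρ g).hom) ⊆ Set.range (p ⁻¹ᵁ U).ι := by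
  rw [Scheme.Opens.range_ι]
  rintro _ ⟨z, rfl⟩
  exact SGA1.preimage_le_of_inv ρ p hp.inv g U z.2

/-- The endomorphism of an invariant open induced by `g`. -/
noncomputable def restrictHom (hp : SGA1.IsQuot ρ p) (U : Y.Opens) (g : G) :
    (p ⁻¹ᵁ U).toScheme ⟶ (p ⁻¹ᵁ U).toScheme :=
  IsOpenImmersion.lift (p ⁻¹ᵁ U).ι ((p ⁻¹ᵁ U).ι ≫ (ρ g).hom) (range_restrict_le hp U g)

theorem restrictHom_ι (hp : SGA1.IsQuot ρ p) (U : Y.Opens) (g : G) :
    restrictHom hp U g ≫ (p ⁻¹ᵁ U).ι = (p ⁻¹ᵁ U).ι ≫ (ρ g).hom :=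
  IsOpenImmersion.lift_fac _ _ _

theorem restrictHom_mul (hp : SGA1.IsQuot ρ p) (U : Y.Opens) (g h : G) :
    restrictHom hp U (g * h) = restrictHom hp U h ≫ restrictHom hp U g := by
  rw [← cancel_mono (p ⁻¹ᵁ U).ι, Category.assoc, restrictHom_ι, restrictHom_ι,
    reassoc_of% (restrictHom_ι hp U h), hom_mul]

theorem restrictHom_one (hp : SGA1.IsQuot ρ p) (U : Y.Opens) : restrictHom hp U 1 = 𝟙 _ := by
  rw [← cancel_mono (p ⁻¹ᵁ U).ι, restrictHom_ι, map_one]
  exact (Category.comp_id _).trans (Category.id_comp _).symm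

/-- The action restricted to an invariant open. -/
noncomputable def restrictAut (hp : SGA1.IsQuot ρ p) (U : Y.Opens) :
    G →* Aut (p ⁻¹ᵁ U).toScheme where
  toFun g :=
    { hom := restrictHom hp U g
      inv := restrictHom hp U g⁻¹
      hom_inv_id := by rw [← restrictHom_mul, inv_mul_cancel, restrictHom_one]
      inv_hom_id := by rw [← restrictHom_mul, mul_inv_cancel, restrictHom_one] }
  map_one' := Iso.ext (restrictHom_one hp U)
  map_mul' g h := Iso.ext (restrictHom_mul hp U g h)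

theorem restrictAut_ι (hp : SGA1.IsQuot ρ p) (U : Y.Opens) (g : G) :
    (restrictAut hp U g).hom ≫ (p ⁻¹ᵁ U).ι = (p ⁻¹ᵁ U).ι ≫ (ρ g).hom :=
  restrictHom_ι hp U g

theorem isAffine_of_isAffine [Finite G] (hp : SGA1.IsQuot ρ p) [IsAffine X] : IsAffine Y := by
  let p'' : X ⟶ Spec Γ(Y, ⊤) := p ≫ Y.toSpecΓ
  have hinv : ∀ g : G, (ρ g).hom ≫ p'' = p'' := fun g => by
    simp only [p'', ← Category.assoc, hp.inv g]
  have hbij : Function.Bijective (Y.toSpecΓ.app ⊤).hom := by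
    have : IsIso (Y.toSpecΓ.appTop) := by rw [Scheme.toSpecΓ_appTop]; infer_instance
    exact ConcreteCategory.bijective_of_isIso Y.toSpecΓ.appTop
  have hinj : Function.Injective (p''.app ⊤).hom := by
    rw [Scheme.Hom.comp_app]
    exact (hp.injective ⊤).comp hbij.1
  have hp'' : SGA1.IsQuot ρ p'' := isQuot_of_isAffine hinv hinj fun s hs => by
    obtain ⟨t, ht⟩ := (hp.range_iff ⊤ s).2 hs
    obtain ⟨r, hr⟩ := hbij.2 t
    refine ⟨r, ?_⟩
    rw [Scheme.Hom.comp_app]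
    exact (congrArg (p.app ⊤).hom hr).trans ht
  obtain ⟨k, hk⟩ := exists_desc hp'' p hp.inv
  have h1 : Y.toSpecΓ ≫ k = 𝟙 Y := hom_ext hp _ _ (by rw [← Category.assoc, Category.comp_id]; exact hk)
  have h2 : k ≫ Y.toSpecΓ = 𝟙 _ := hom_ext hp'' _ _ (by
    rw [← Category.assoc, hk, Category.comp_id])
  exact ⟨⟨k, h1, h2⟩⟩

theorem isAffineHom_of_comp [Finite G] (hp : SGA1.IsQuot ρ p) (f : X ⟶ Z) (q : Y ⟶ Z) (hq : p ≫ q = f)
    [IsAffineHom f] : IsAffineHom q := by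
  refine ⟨fun W hW => ?_⟩
  have hP : IsAffineOpen (p ⁻¹ᵁ q ⁻¹ᵁ W) := by
    rw [← Scheme.Hom.comp_preimage, hq]; exact hW.preimage f
  haveI : IsAffine (p ⁻¹ᵁ q ⁻¹ᵁ W).toScheme := hP
  exact isAffine_of_isAffine (isQuot_restrict hp (q ⁻¹ᵁ W) (restrictAut hp (q ⁻¹ᵁ W))
    (restrictAut_ι hp (q ⁻¹ᵁ W)))

theorem isSeparated_of_comp [Finite G] (hp : SGA1.IsQuot ρ p) (f : X ⟶ Z) (q : Y ⟶ Z) (hq : p ≫ q = f)
    [IsSeparated f] : IsSeparated q := by
  haveI := isIntegralHom hp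
  refine ⟨?_⟩
  subst hq
  let m : pullback (p ≫ q) (p ≫ q) ⟶ pullback q q :=
    pullback.map _ _ _ _ p p (𝟙 Z) (Category.comp_id _) (Category.comp_id _)
  haveI : IsIntegralHom m :=
    MorphismProperty.pullbackMap (P := @IsIntegralHom) (f := p ≫ q) (g := p ≫ q) (f' := q) (g' := q)
      (isIntegralHom hp) (isIntegralHom hp) rfl rfl
  have hcomm : p ≫ pullback.diagonal q = pullback.diagonal (p ≫ q) ≫ m := by
    apply pullback.hom_ext
    · rw [Category.assoc, pullback.diagonal_fst, Category.comp_id, Category.assoc,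
        show m ≫ pullback.fst q q = pullback.fst (p ≫ q) (p ≫ q) ≫ p from pullback.lift_fst _ _ _,
        pullback.diagonal_fst_assoc]
    · rw [Category.assoc, pullback.diagonal_snd, Category.comp_id, Category.assoc,
        show m ≫ pullback.snd q q = pullback.snd (p ≫ q) (p ≫ q) ≫ p from pullback.lift_snd _ _ _,
        pullback.diagonal_snd_assoc]
  refine IsClosedImmersion.of_isPreimmersion _ ?_
  have hr : Set.range (pullback.diagonal q) = m '' Set.range (pullback.diagonal (p ≫ q)) := by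
    rw [← Set.range_comp, ← Set.image_univ, ← Set.range_eq_univ.2 (surjective hp), ← Set.range_comp,
      ← TopCat.coe_comp, ← Scheme.Hom.comp_base, hcomm]
    rfl
  rw [hr]
  exact m.isClosedMap _ (pullback.diagonal (p ≫ q)).isClosedEmbedding.isClosed_range

theorem isFinite_of_comp [Finite G] (hp : SGA1.IsQuot ρ p) (f : X ⟶ Z) (q : Y ⟶ Z) (hq : p ≫ q = f)
    [LocallyOfFiniteType f] : IsFinite p := by
  subst hq
  rw [IsFinite.iff_isIntegralHom_and_locallyOfFiniteType]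
  exact ⟨isIntegralHom hp, locallyOfFiniteType_of_comp p q⟩

theorem quasiCompact_of_comp [Finite G] (hp : SGA1.IsQuot ρ p) (f : X ⟶ Z) (q : Y ⟶ Z) (hq : p ≫ q = f)
    [QuasiCompact f] : QuasiCompact q := by
  refine ⟨fun U hU hc => ?_⟩
  have h := (QuasiCompact.isCompact_preimage (f := f) U hU hc).image p.continuous
  subst hq
  rw [Scheme.Hom.comp_base, TopCat.coe_comp, Set.preimage_comp,
    Set.image_preimage_eq _ (surjective hp)] at h
  exact h

theorem locallyOfFiniteType_of_quot [Finite G] (hp : SGA1.IsQuot ρ p) (f : X ⟶ Z) (q : Y ⟶ Z)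
    (hq : p ≫ q = f) [LocallyOfFiniteType f] [IsLocallyNoetherian Z] : LocallyOfFiniteType q := by
  haveI := isFinite_of_comp hp f q hq
  rw [HasRingHomProperty.iff_appLE (P := @LocallyOfFiniteType)]
  intro W V e
  haveI : IsNoetherianRing Γ(Z, W.1) := IsLocallyNoetherian.component_noetherian W
  subst hq
  let A := Γ(X, p ⁻¹ᵁ V.1)
  have e' : p ⁻¹ᵁ V.1 ≤ (p ≫ q) ⁻¹ᵁ W.1 := fun z hz => e hz
  letI := (q.appLE W.1 V.1 e).hom.toAlgebra
  letI := ((p ≫ q).appLE W.1 (p ⁻¹ᵁ V.1) e').hom.toAlgebra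
  letI := (p.app V.1).hom.toAlgebra
  haveI : IsScalarTower Γ(Z, W.1) Γ(Y, V.1) A := IsScalarTower.of_algebraMap_eq' (by
    change ((p ≫ q).appLE W.1 (p ⁻¹ᵁ V.1) e').hom = (p.app V.1).hom.comp (q.appLE W.1 V.1 e).hom
    rw [← CommRingCat.hom_comp, Scheme.Hom.app_eq_appLE, Scheme.Hom.appLE_comp_appLE])
  have h1 : Algebra.FiniteType Γ(Z, W.1) A :=
    HasRingHomProperty.appLE @LocallyOfFiniteType (p ≫ q) inferInstance W ⟨_, V.2.preimage p⟩ e'
  have h2 : Module.Finite Γ(Y, V.1) A := IsFinite.finite_app p V.1 V.2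
  exact ⟨fg_of_fg_of_fg Γ(Z, W.1) Γ(Y, V.1) A h1.out h2.fg_top (hp.injective V.1)⟩

end Groth.Agent.SGA1QuotLib
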