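import Mathlib
import Groth.Prelude.Def_SGA1
import Groth.Agent.SGA1QuotLib.Basic

/-! Residue fields at points of quotients by finite groups. -/

universe u
open CategoryTheory CategoryTheory.Limits AlgebraicGeometry
open scoped Pointwise

namespace Groth.Agent.SGA1QuotLib

set_option linter.style.haveILetI false

theorem exists_evaluation_div {X : Scheme.{u}} {W : X.Opens} (hW : IsAffineOpen W) {x : X}
    (hx : x ∈ W) (z : X.residueField x) :
    ∃ a b : Γ(X, W), (X.evaluation W x hx).hom b ≠ 0 ∧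
      z = (X.evaluation W x hx).hom a / (X.evaluation W x hx).hom b := by
  obtain ⟨t, rfl⟩ := X.residue_surjective x z
  letI : Algebra Γ(X, W) (X.presheaf.stalk x) := (X.presheaf.germ W x hx).hom.toAlgebra
  haveI := hW.isLocalization_stalk ⟨x, hx⟩
  obtain ⟨⟨a, s⟩, hs⟩ := IsLocalization.surj (hW.primeIdealOf ⟨x, hx⟩).asIdeal.primeCompl t
  have hu : IsUnit ((X.evaluation W x hx).hom s.1) :=
    (IsLocalization.map_units (X.presheaf.stalk x) s).map (X.residue x).hom
  refine ⟨a, s.1, hu.ne_zero, ?_⟩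
  rw [eq_div_iff hu.ne_zero]
  have h1 := congrArg (X.residue x).hom hs
  rw [map_mul] at h1
  exact h1

theorem eq_of_evaluation {X : Scheme.{u}} {W : X.Opens} (hW : IsAffineOpen W) {x x' : X}
    (hx : x ∈ W) (hx' : x' ∈ W)
    (h : ∀ b : Γ(X, W), (X.evaluation W x hx).hom b = 0 ↔ (X.evaluation W x' hx').hom b = 0) :
    x = x' := by
  have hb : ∀ b : Γ(X, W), x ∈ X.basicOpen b ↔ x' ∈ X.basicOpen b := fun b => by
    rw [← X.evaluation_ne_zero_iff_mem_basicOpen x hx b,
      ← X.evaluation_ne_zero_iff_mem_basicOpen x' hx' b]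
    exact (h b).not
  refine (inseparable_iff_forall_isOpen.2 fun S hS => ⟨fun hm => ?_, fun hm => ?_⟩).eq
  · obtain ⟨b, hb1, hb2⟩ := hW.exists_basicOpen_le (V := ⟨S, hS⟩) ⟨x, hm⟩ hx
    exact hb1 ((hb b).1 hb2)
  · obtain ⟨b, hb1, hb2⟩ := hW.exists_basicOpen_le (V := ⟨S, hS⟩) ⟨x', hm⟩ hx'
    exact hb1 ((hb b).2 hb2)

theorem residueFieldMap_evaluation {X X' : Scheme.{u}} (f : X ⟶ X') {V : X'.Opens} {W : X.Opens}
    (e : W ≤ f ⁻¹ᵁ V) (x : X) (hx : x ∈ W) (b : Γ(X', V)) :
    (f.residueFieldMap x).hom ((X'.evaluation V (f x) (e hx)).hom b) =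
      (X.evaluation W x hx).hom ((f.appLE V W e).hom b) := by
  refine (Scheme.evaluation_naturality_apply f x (e hx) b).trans ?_
  change (X.residue x).hom ((X.presheaf.germ _ x _).hom _) =
    (X.residue x).hom ((X.presheaf.germ W x hx).hom _)
  rw [Scheme.Hom.appLE, CommRingCat.hom_comp, RingHom.comp_apply]
  exact congrArg (X.residue x).hom (X.presheaf.germ_res_apply (homOfLE e) x hx _).symm

variable {X Y : Scheme.{u}} {G : Type u} [Group G] {ρ : G →* Aut X} {p : X ⟶ Y}

theorem normal_and_exists_stabilizer [Finite G] (hp : SGA1.IsQuot ρ p) (x : X) :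
    (letI := (p.residueFieldMap x).hom.toAlgebra
     Normal (Y.residueField (p.base x)) (X.residueField x)) ∧
    ∀ τ : X.residueField x ≅ X.residueField x,
      p.residueFieldMap x ≫ τ.hom = p.residueFieldMap x →
      ∃ (g : G) (e : (ρ g).hom.base x = x),
        τ.hom = (X.residueFieldCongr e).inv ≫ (ρ g).hom.residueFieldMap x := by
  haveI := hp.affine
  obtain ⟨U, hU, hyU, -⟩ := exists_isAffineOpen_mem_and_subset
    (TopologicalSpace.Opens.mem_top (p.base x))
  have hW := hU.preimage p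
  letI := action hp U
  letI : Algebra Γ(Y, U) Γ(X, p ⁻¹ᵁ U) := (p.app U).hom.toAlgebra
  haveI : Algebra.IsInvariant Γ(Y, U) Γ(X, p ⁻¹ᵁ U) G :=
    ⟨fun a ha => (hp.range_iff U a).2 fun g => by
      have := ha g⁻¹
      change act hp U (g⁻¹)⁻¹ a = a at this
      rwa [inv_inv] at this⟩
  haveI : SMulCommClass G Γ(Y, U) Γ(X, p ⁻¹ᵁ U) := ⟨fun g b a => by
    rw [Algebra.smul_def, Algebra.smul_def, smul_mul']
    exact congrArg (· * g • a) (act_app hp U g⁻¹ b)⟩
  let εx := (X.evaluation (p ⁻¹ᵁ U) x hyU).hom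
  let εy := (Y.evaluation U (p x) hyU).hom
  let P := RingHom.ker εx
  let P0 := RingHom.ker εy
  haveI : P.IsPrime := RingHom.ker_isPrime εx
  haveI : P0.IsPrime := RingHom.ker_isPrime εy
  letI : Algebra (Y.residueField (p.base x)) (X.residueField x) :=
    (p.residueFieldMap x).hom.toAlgebra
  have hnat : ∀ a, (p.residueFieldMap x).hom (εy a) = εx ((p.app U).hom a) := fun a =>
    Scheme.evaluation_naturality_apply p x hyU a
  haveI : P.LiesOver P0 := ⟨Ideal.ext fun a => by
    change εy a = 0 ↔ εx ((p.app U).hom a) = 0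
    rw [← hnat, map_eq_zero_iff _ (p.residueFieldMap x).hom.injective]⟩
  letI : Algebra (Γ(Y, U) ⧸ P0) (Y.residueField (p.base x)) :=
    (Ideal.Quotient.lift P0 εy fun _ h => h).toAlgebra
  letI : Algebra (Γ(X, p ⁻¹ᵁ U) ⧸ P) (X.residueField x) :=
    (Ideal.Quotient.lift P εx fun _ h => h).toAlgebra
  letI : Algebra (Γ(Y, U) ⧸ P0) (X.residueField x) :=
    ((p.residueFieldMap x).hom.comp (Ideal.Quotient.lift P0 εy fun _ h => h)).toAlgebra
  haveI : IsScalarTower (Γ(Y, U) ⧸ P0) (Y.residueField (p.base x)) (X.residueField x) :=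
    .of_algebraMap_eq fun _ => rfl
  haveI : IsScalarTower (Γ(Y, U) ⧸ P0) (Γ(X, p ⁻¹ᵁ U) ⧸ P) (X.residueField x) :=
    .of_algebraMap_eq fun q => by
      obtain ⟨a, rfl⟩ := Ideal.Quotient.mk_surjective q
      exact hnat a
  haveI : FaithfulSMul (Γ(Y, U) ⧸ P0) (Y.residueField (p.base x)) :=
    (faithfulSMul_iff_algebraMap_injective _ _).2
      (RingHom.lift_injective_of_ker_le_ideal P0 (fun _ h => h) le_rfl)
  haveI : FaithfulSMul (Γ(X, p ⁻¹ᵁ U) ⧸ P) (X.residueField x) :=
    (faithfulSMul_iff_algebraMap_injective _ _).2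
      (RingHom.lift_injective_of_ker_le_ideal P (fun _ h => h) le_rfl)
  haveI : IsFractionRing (Γ(Y, U) ⧸ P0) (Y.residueField (p.base x)) :=
    IsFractionRing.of_field _ _ fun z => by
      obtain ⟨a, b, -, h⟩ := exists_evaluation_div hU hyU z
      exact ⟨Ideal.Quotient.mk _ a, Ideal.Quotient.mk _ b, h⟩
  haveI : IsFractionRing (Γ(X, p ⁻¹ᵁ U) ⧸ P) (X.residueField x) :=
    IsFractionRing.of_field _ _ fun z => by
      obtain ⟨a, b, -, h⟩ := exists_evaluation_div hW hyU z
      exact ⟨Ideal.Quotient.mk _ a, Ideal.Quotient.mk _ b, h⟩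
  refine ⟨Ideal.IsFractionRing.normal G P0 P _ _, fun τ hτ => ?_⟩
  let f : Gal(X.residueField x/Y.residueField (p.base x)) :=
    AlgEquiv.ofRingEquiv (f := τ.commRingCatIsoToRingEquiv) fun a =>
      congrArg (fun m => m.hom a) hτ
  obtain ⟨⟨g', hg'⟩, hg'f⟩ := IsFractionRing.stabilizerHom_surjective G P0 P
    (Y.residueField (p.base x)) (X.residueField x) f
  have hf : ∀ b, τ.hom.hom (εx b) = εx (act hp U g'⁻¹ b) := fun b => by
    have h1 := IsFractionRing.stabilizerHom_apply_apply_mk G P0 P (Y.residueField (p.base x))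
      (X.residueField x) ⟨g', hg'⟩ b
    rw [hg'f] at h1
    exact h1
  have hxW' : (ρ g'⁻¹).hom.base x ∈ p ⁻¹ᵁ U :=
    SGA1.preimage_le_of_inv ρ p hp.inv g'⁻¹ U hyU
  have hev : ∀ b, ((ρ g'⁻¹).hom.residueFieldMap x).hom
      ((X.evaluation (p ⁻¹ᵁ U) _ hxW').hom b) = εx (act hp U g'⁻¹ b) := fun b =>
    residueFieldMap_evaluation (ρ g'⁻¹).hom (SGA1.preimage_le_of_inv ρ p hp.inv g'⁻¹ U) x hyU b
  have e : (ρ g'⁻¹).hom.base x = x := eq_of_evaluation hW hxW' hyU fun b => by
    rw [← map_eq_zero_iff _ ((ρ g'⁻¹).hom.residueFieldMap x).hom.injective, hev, ← hf]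
    exact map_eq_zero_iff _ τ.hom.hom.injective
  refine ⟨g'⁻¹, e, CommRingCat.hom_ext (RingHom.ext fun z => ?_)⟩
  have hgen : ∀ b, τ.hom.hom (εx b) =
      ((X.residueFieldCongr e).inv ≫ (ρ g'⁻¹).hom.residueFieldMap x).hom (εx b) := fun b => by
    rw [hf, ← hev, CommRingCat.hom_comp, RingHom.comp_apply]
    refine congrArg _ ?_
    have key : ∀ (x' : X) (hx' : x' ∈ p ⁻¹ᵁ U) (e' : x' = x),
        (X.evaluation (p ⁻¹ᵁ U) x' hx').hom b = (X.residueFieldCongr e').inv.hom (εx b) := by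
      rintro x' hx' rfl; rfl
    exact key _ hxW' e
  obtain ⟨a, b, -, rfl⟩ := exists_evaluation_div hW hyU z
  rw [map_div₀, map_div₀, hgen, hgen]

/-- In a normal extension the elements fixed by all automorphisms are purely inseparable. -/
theorem isPurelyInseparable_of_fixed {K E L : Type*} [Field K] [Field E] [Field L] [Algebra K E]
    [Algebra K L] [Algebra E L] [IsScalarTower K E L] [Normal K L]
    (h : ∀ (f : L ≃ₐ[K] L) (a : E), f (algebraMap E L a) = algebraMap E L a) :
    IsPurelyInseparable K E := by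
  classical
  rw [isPurelyInseparable_iff_natSepDegree_eq_one]
  intro a
  have hm : minpoly K a = minpoly K (algebraMap E L a) :=
    (minpoly.algebraMap_eq (algebraMap E L).injective a).symm
  rw [hm, Polynomial.natSepDegree_eq_of_splits _ (Normal.splits inferInstance _),
    Finset.card_eq_one]
  refine ⟨algebraMap E L a, Finset.eq_singleton_iff_unique_mem.2 ⟨?_, fun y hy => ?_⟩⟩
  · rw [Multiset.mem_toFinset, Polynomial.mem_aroots]
    exact ⟨minpoly.ne_zero (Normal.isIntegral inferInstance _), minpoly.aeval _ _⟩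
  · rw [Multiset.mem_toFinset, Polynomial.mem_aroots] at hy
    have he : minpoly K (algebraMap E L a) = minpoly K y :=
      minpoly.eq_of_irreducible_of_monic (minpoly.irreducible (Normal.isIntegral inferInstance _))
        hy.2 (minpoly.monic (Normal.isIntegral inferInstance _))
    obtain ⟨f, hf⟩ := (Normal.minpoly_eq_iff_mem_orbit (F := K) (E := L)).1 he.symm
    rw [← hf]
    exact h f a

end Groth.Agent.SGA1QuotLib
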