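import Mathlib
import Groth.Prelude.Def_SGA1
import Groth.Prelude.Def_Flat
import Groth.Agent.SGA1QuotLib.Basic
import Groth.Agent.SGA1QuotLib.Finite
import Groth.Agent.SGA1QuotLib.Residue
import Groth.Agent.AWN.Criterion

/-! Universal homeomorphisms out of quotients by finite groups. -/

universe u
open CategoryTheory CategoryTheory.Limits AlgebraicGeometry

namespace Groth.Agent.SGA1QuotLib

set_option linter.style.haveILetI false

variable {X Y : Scheme.{u}} {G : Type u} [Group G] {ρ : G →* Aut X} {p : X ⟶ Y}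

/-- Geometric points of `X` with the same image in the quotient differ by a group element. -/
theorem exists_geom_of_isQuot [Finite G] (hp : SGA1.IsQuot ρ p) {K : Type u} [Field K]
    (a b : Spec (CommRingCat.of K) ⟶ X) (h : a ≫ p = b ≫ p) : ∃ g : G, a ≫ (ρ g).hom = b := by
  obtain ⟨⟨x₀, α₀⟩, rfl⟩ := (X.SpecToEquivOfField K).symm.surjective a
  obtain ⟨⟨x, β⟩, rfl⟩ := (X.SpecToEquivOfField K).symm.surjective b
  simp only [Scheme.SpecToEquivOfField_symm_apply] at h ⊢
  have hpts : p.base x₀ = p.base x := by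
    have := congrArg (fun f => f.base (IsLocalRing.closedPoint K)) h
    simp only [Scheme.Hom.comp_base, TopCat.coe_comp, Function.comp_apply] at this
    erw [Scheme.fromSpecResidueField_apply, Scheme.fromSpecResidueField_apply] at this
    exact this
  obtain ⟨g₀, hg₀⟩ := exists_orbit hp hpts
  let α : X.residueField x ⟶ CommRingCat.of K :=
    (X.residueFieldCongr hg₀).inv ≫ (ρ g₀).hom.residueFieldMap x₀ ≫ α₀
  have hα : (Spec.map α₀ ≫ X.fromSpecResidueField x₀) ≫ (ρ g₀).hom =
      Spec.map α ≫ X.fromSpecResidueField x := by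
    simp only [α, Spec.map_comp, Category.assoc]
    rw [← Scheme.Hom.SpecMap_residueFieldMap_fromSpecResidueField (ρ g₀).hom x₀]
    congr 1
    congr 1
    rw [Scheme.residueFieldCongr_inv, Scheme.residueFieldCongr_fromSpecResidueField]
  have hK : p.residueFieldMap x ≫ α = p.residueFieldMap x ≫ β := by
    have h' : (Spec.map α ≫ X.fromSpecResidueField x) ≫ p =
        (Spec.map β ≫ X.fromSpecResidueField x) ≫ p := by
      rw [← hα, Category.assoc, hp.inv, h]
    simp only [Category.assoc, ← Scheme.Hom.SpecMap_residueFieldMap_fromSpecResidueField,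
      ← Spec.map_comp_assoc] at h'
    rwa [cancel_mono (Y.fromSpecResidueField _), Spec.map_inj] at h'
  obtain ⟨hn, hstab⟩ := normal_and_exists_stabilizer hp x
  letI : Algebra (Y.residueField (p.base x)) (X.residueField x) := (p.residueFieldMap x).hom.toAlgebra
  haveI : Normal (Y.residueField (p.base x)) (X.residueField x) := hn
  letI : Algebra (X.residueField x) K := α.hom.toAlgebra
  letI : Algebra (Y.residueField (p.base x)) K := (α.hom.comp (p.residueFieldMap x).hom).toAlgebra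
  haveI : IsScalarTower (Y.residueField (p.base x)) (X.residueField x) K :=
    .of_algebraMap_eq fun _ => rfl
  let βA : X.residueField x →ₐ[Y.residueField (p.base x)] K :=
    { β.hom with commutes' := fun r => (congrArg (fun f => f.hom r) hK).symm }
  let τ := AlgHom.restrictNormal' βA (X.residueField x)
  have hτ : ∀ z, α.hom (τ z) = β.hom z := fun z => AlgHom.restrictNormal_commutes βA (X.residueField x) z
  obtain ⟨g, e, hg⟩ := hstab τ.toRingEquiv.toCommRingCatIso (CommRingCat.hom_ext (RingHom.ext τ.commutes))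
  have hβ : β = (X.residueFieldCongr e).inv ≫ (ρ g).hom.residueFieldMap x ≫ α := by
    rw [← Category.assoc, ← hg]
    ext z
    exact (hτ z).symm
  refine ⟨g * g₀, ?_⟩
  rw [hom_mul, ← Category.assoc, hα, hβ, Category.assoc]
  simp only [Spec.map_comp, Category.assoc]
  rw [← Scheme.Hom.SpecMap_residueFieldMap_fromSpecResidueField (ρ g).hom x]
  congr 1
  congr 1
  rw [Scheme.residueFieldCongr_inv, Scheme.residueFieldCongr_fromSpecResidueField]

/-- Lifting field-valued points along surjective integral morphisms. -/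
theorem exists_lift_algClosed {X Y : Scheme.{u}} (r : X ⟶ Y) [IsIntegralHom r] [Surjective r]
    {K : Type u} [Field K] (b : Spec (CommRingCat.of K) ⟶ Y) :
    ∃ a : Spec (CommRingCat.of (AlgebraicClosure K)) ⟶ X,
      a ≫ r = Spec.map (CommRingCat.ofHom (algebraMap K (AlgebraicClosure K))) ≫ b := by
  let T := pullback r b
  let t : T ⟶ Spec (CommRingCat.of K) := pullback.snd r b
  haveI : IsAffine T := isAffine_of_isAffineHom t
  haveI : IsIntegralHom t := inferInstanceAs (IsIntegralHom (pullback.snd r b))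
  obtain ⟨z, -⟩ := t.surjective (IsLocalRing.closedPoint K)
  haveI : Nonempty T := ⟨z⟩
  let φ : CommRingCat.of K ⟶ Γ(T, ⊤) := (Scheme.ΓSpecIso (CommRingCat.of K)).inv ≫ t.appTop
  have ht : Spec.map φ = T.isoSpec.inv ≫ t := by
    rw [← Scheme.isoSpec_inv_naturality, Spec.map_comp]
    congr 1
    simp only [Scheme.isoSpec, asIso_inv]
    apply IsIso.eq_inv_of_hom_inv_id
    rw [← SpecMap_ΓSpecIso_hom, ← Spec.map_comp, Iso.inv_hom_id, Spec.map_id]
  letI : Algebra K Γ(T, ⊤) := φ.hom.toAlgebra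
  haveI : Algebra.IsIntegral K Γ(T, ⊤) := by
    rw [← algebraMap_isIntegral_iff]
    exact RingHom.IsIntegral.trans _ _
      (RingHom.isIntegral_of_surjective _
        (ConcreteCategory.bijective_of_isIso (Scheme.ΓSpecIso (CommRingCat.of K)).inv).2)
      (t.isIntegral_app ⊤ (isAffineOpen_top _))
  haveI : Nontrivial Γ(T, ⊤) := by
    haveI : Nonempty (PrimeSpectrum Γ(T, ⊤)) := ⟨T.isoSpec.hom z⟩
    exact PrimeSpectrum.nonempty_iff_nontrivial.1 inferInstance
  obtain ⟨M, hM⟩ := Ideal.exists_maximal Γ(T, ⊤)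
  letI : Field (Γ(T, ⊤) ⧸ M) := Ideal.Quotient.field M
  haveI : Algebra.IsIntegral K (Γ(T, ⊤) ⧸ M) :=
    Algebra.IsIntegral.of_surjective (Ideal.Quotient.mkₐ K M) Ideal.Quotient.mk_surjective
  let ψ : (Γ(T, ⊤) ⧸ M) →ₐ[K] AlgebraicClosure K := IsAlgClosed.lift
  let χ : Γ(T, ⊤) ⟶ CommRingCat.of (AlgebraicClosure K) :=
    CommRingCat.ofHom (ψ.toRingHom.comp (Ideal.Quotient.mk M))
  refine ⟨Spec.map χ ≫ T.isoSpec.inv ≫ pullback.fst r b, ?_⟩
  rw [Category.assoc, Category.assoc, pullback.condition]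
  change Spec.map χ ≫ T.isoSpec.inv ≫ t ≫ b = _
  rw [← reassoc_of% ht, ← Spec.map_comp_assoc]
  congr 2
  ext c
  exact ψ.commutes c

/-- Criterion for a universal homeomorphism out of a quotient. -/
theorem isUnivHomeo_of_isQuot [Finite G] {X' W P : Scheme.{u}} {σ : G →* Aut X'} {r : X' ⟶ W}
    (hr : SGA1.IsQuot σ r) (m : W ⟶ P) [IsIntegralHom (r ≫ m)] [Surjective (r ≫ m)]
    (h : ∀ (K : Type u) [Field K] (a b : Spec (CommRingCat.of K) ⟶ X'),
      a ≫ r ≫ m = b ≫ r ≫ m → ∃ g : G, a ≫ (σ g).hom = b) :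
    FlatMor.IsUnivHomeo m := by
  rw [AWN.isUnivHomeo_iff]
  haveI := isIntegralHom hr
  haveI : Surjective r := ⟨surjective hr⟩
  haveI : IsAffineHom m := isAffineHom_of_comp hr (r ≫ m) m rfl
  refine ⟨⟨fun U hU => ?_⟩, ?_, Surjective.of_comp r m⟩
  · have h1 := (r ≫ m).isIntegral_app U hU
    letI : Algebra Γ(P, U) Γ(W, m ⁻¹ᵁ U) := (m.app U).hom.toAlgebra
    letI : Algebra Γ(P, U) Γ(X', (r ≫ m) ⁻¹ᵁ U) := ((r ≫ m).app U).hom.toAlgebra
    intro w
    let f : Γ(W, m ⁻¹ᵁ U) →ₐ[Γ(P, U)] Γ(X', (r ≫ m) ⁻¹ᵁ U) :=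
      { (r.app (m ⁻¹ᵁ U)).hom with
        commutes' := fun c => (congrArg (fun f => f.hom c) (Scheme.Hom.comp_app r m U)).symm }
    exact (isIntegral_algHom_iff f (hr.injective (m ⁻¹ᵁ U))).1 (h1 (f w))
  · refine ((tfae_universallyInjective m).out 1 0).1 ?_
    intro K _ b₁ b₂ hb
    obtain ⟨a₁, ha₁⟩ := exists_lift_algClosed r b₁
    obtain ⟨a₂, ha₂⟩ := exists_lift_algClosed r b₂
    obtain ⟨g, hg⟩ := h _ a₁ a₂ (by
      rw [reassoc_of% ha₁, reassoc_of% ha₂]
      exact congrArg (_ ≫ ·) hb)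
    let ι := Spec.map (CommRingCat.ofHom (algebraMap K (AlgebraicClosure K)))
    haveI : Surjective ι := ⟨fun p => ⟨IsLocalRing.closedPoint _, Subsingleton.elim _ _⟩⟩
    haveI : Flat ι := inferInstance
    haveI : Epi ι := Flat.epi_of_flat_of_surjective _
    refine (cancel_epi ι).1 ?_
    rw [← ha₁, ← ha₂, ← hg, Category.assoc, hr.inv]

end Groth.Agent.SGA1QuotLib
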