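import Mathlib
import Groth.Prelude.Def_SGA1
import Groth.Agent.SGA1QuotLib.Basic
import Groth.Agent.SGA1QuotLib.BaseChange

/-! Quotients by groups of invertible order commute with every base change. -/

universe u
open CategoryTheory CategoryTheory.Limits AlgebraicGeometry Opposite TopologicalSpace
open scoped TensorProduct

namespace Groth.Agent.SGA1QuotLib

set_option linter.style.haveILetI false

/-- Invariants of a group of invertible order commute with base change (averaging), the order being invertible after base change. -/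
theorem invariants_of_isPushout_of_isUnit' (A B A' B' : Type u) [CommRing A] [CommRing B] [CommRing A']
    [CommRing B'] [Algebra A B] [Algebra A A'] [Algebra A' B'] [Algebra B B'] [Algebra A B']
    [IsScalarTower A A' B'] [IsScalarTower A B B'] [Algebra.IsPushout A A' B B']
    {G : Type u} [Fintype G] (hcard : IsUnit ((Fintype.card G : ℕ) : A'))
    (σ : G → (B →+* B)) (σ' : G → (B' →+* B'))
    (hσA : ∀ g a, σ g (algebraMap A B a) = algebraMap A B a)
    (hσA' : ∀ g a, σ' g (algebraMap A' B' a) = algebraMap A' B' a)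
    (hcomm : ∀ g b, σ' g (algebraMap B B' b) = algebraMap B B' (σ g b))
    (hinj : Function.Injective (algebraMap A B))
    (hrange : ∀ b, (∀ g, σ g b = b) → b ∈ Set.range (algebraMap A B))
    (hgrp : ∀ g b, σ g (∑ h, σ h b) = ∑ h, σ h b) :
    Function.Injective (algebraMap A' B') ∧
      ∀ s, (∀ g, σ' g s = s) → s ∈ Set.range (algebraMap A' B') := by
  obtain ⟨v, hv⟩ := hcard.exists_left_inv
  let e := Algebra.IsPushout.equiv A A' B B'
  choose ev hev using fun b => hrange (∑ h, σ h b) (fun g => hgrp g b)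
  let E : B →ₗ[A] A' :=
    { toFun := fun b => v * algebraMap A A' (ev b)
      map_add' := fun x y => by
        rw [← mul_add, ← map_add]
        refine congrArg (v * algebraMap A A' ·) (hinj ?_)
        simp only [map_add, hev, Finset.sum_add_distrib]
      map_smul' := fun r x => by
        rw [RingHom.id_apply, Algebra.smul_def r (v * algebraMap A A' (ev x)), mul_left_comm, ← map_mul]
        refine congrArg (v * algebraMap A A' ·) (hinj ?_)
        simp only [map_mul, hev, Algebra.smul_def, hσA, Finset.mul_sum] }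
  have hE1 : E 1 = 1 := by
    change v * algebraMap A A' (ev 1) = 1
    rw [show ev 1 = ((Fintype.card G : ℕ) : A) from hinj (by
      rw [hev, map_natCast]; simp), map_natCast, hv]
  let E' : A' ⊗[A] B →ₗ[A] A' := TensorProduct.lift ((LinearMap.mul A A').compl₂ E)
  have hE' : ∀ z, ∑ g, σ' g (e z) = ((Fintype.card G : ℕ) : B') * algebraMap A' B' (E' z) := fun z => by
    induction z with
    | zero => simp
    | add x y hx hy => simp only [map_add, Finset.sum_add_distrib, hx, hy, mul_add]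
    | tmul a b =>
      simp only [e, Algebra.IsPushout.equiv_tmul, map_mul, hσA', hcomm, ← Finset.mul_sum, ← map_sum,
        ← hev b]
      change algebraMap A' B' a * algebraMap B B' (algebraMap A B (ev b)) =
        ((Fintype.card G : ℕ) : B') * algebraMap A' B' (a * (v * algebraMap A A' (ev b)))
      rw [map_mul (algebraMap A' B'), map_mul (algebraMap A' B'), ← IsScalarTower.algebraMap_apply A A' B',
        ← IsScalarTower.algebraMap_apply A B B']
      have hv' : algebraMap A' B' v * ((Fintype.card G : ℕ) : B') = 1 := by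
        rw [← map_natCast (algebraMap A' B'), ← map_mul, hv, map_one]
      linear_combination (-(algebraMap A B' (ev b) * algebraMap A' B' a)) * hv'
  have hcard' : IsUnit ((Fintype.card G : ℕ) : B') := by
    rw [← map_natCast (algebraMap A' B')]; exact hcard.map _
  refine ⟨fun a a' h => ?_, fun s hs => ⟨E' (e.symm s), ?_⟩⟩
  · have h1 : ∀ a : A', e (a ⊗ₜ (1 : B)) = algebraMap A' B' a := fun a =>
      (Algebra.IsPushout.equiv_tmul ..).trans (by rw [map_one, mul_one])
    rw [← h1, ← h1] at h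
    have := congrArg E' (e.injective h)
    simpa [E', hE1] using this
  · refine hcard'.mul_left_cancel ?_
    rw [← hE', e.apply_symm_apply]
    simp [hs, Finset.card_univ]

/-- Invariants of a group of invertible order commute with base change (averaging). -/
theorem invariants_of_isPushout_of_isUnit (A B A' B' : Type u) [CommRing A] [CommRing B] [CommRing A']
    [CommRing B'] [Algebra A B] [Algebra A A'] [Algebra A' B'] [Algebra B B'] [Algebra A B']
    [IsScalarTower A A' B'] [IsScalarTower A B B'] [Algebra.IsPushout A A' B B']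
    {G : Type u} [Fintype G] (hcard : IsUnit ((Fintype.card G : ℕ) : A))
    (σ : G → (B →+* B)) (σ' : G → (B' →+* B'))
    (hσA : ∀ g a, σ g (algebraMap A B a) = algebraMap A B a)
    (hσA' : ∀ g a, σ' g (algebraMap A' B' a) = algebraMap A' B' a)
    (hcomm : ∀ g b, σ' g (algebraMap B B' b) = algebraMap B B' (σ g b))
    (hinj : Function.Injective (algebraMap A B))
    (hrange : ∀ b, (∀ g, σ g b = b) → b ∈ Set.range (algebraMap A B))
    (hgrp : ∀ g b, σ g (∑ h, σ h b) = ∑ h, σ h b) :
    Function.Injective (algebraMap A' B') ∧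
      ∀ s, (∀ g, σ' g s = s) → s ∈ Set.range (algebraMap A' B') := by
  refine invariants_of_isPushout_of_isUnit' A B A' B' ?_ σ σ' hσA hσA' hcomm hinj hrange hgrp
  rw [← map_natCast (algebraMap A A')]
  exact hcard.map _

variable {X Y : Scheme.{u}} {G : Type u} [Group G] {ρ : G →* Aut X} {p : X ⟶ Y}

theorem isUnit_natCast_of_top {Z : Scheme.{u}} {n : ℕ} (h : IsUnit ((n : ℕ) : Γ(Z, ⊤))) (U : Z.Opens) :
    IsUnit ((n : ℕ) : Γ(Z, U)) := by
  have := h.map (Z.presheaf.map (homOfLE le_top).op : Γ(Z, ⊤) ⟶ Γ(Z, U)).hom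
  rwa [map_natCast] at this

/-- Quotients by groups of invertible order commute with base change, the order being invertible after base change. -/
theorem isQuot_of_isPullback_of_isUnit' [Finite G] (hp : SGA1.IsQuot ρ p)
    {X' Y' : Scheme.{u}} (hcard : IsUnit ((Nat.card G : ℕ) : Γ(Y', ⊤)))
    (qY : Y' ⟶ Y) (pX : X' ⟶ X) (p' : X' ⟶ Y') (hX : IsPullback pX p' p qY)
    (ρ' : G →* Aut X') (hρ₁ : ∀ g : G, (ρ' g).hom ≫ pX = pX ≫ (ρ g).hom)
    (hρ₂ : ∀ g : G, (ρ' g).hom ≫ p' = p') : SGA1.IsQuot ρ' p' := by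
  classical
  cases nonempty_fintype G
  haveI := hp.affine
  haveI : IsAffineHom p' := MorphismProperty.of_isPullback hX inferInstance
  refine isQuot_of_forall_exists hρ₂ fun W y hy => ?_
  obtain ⟨U, hU, hyU, -⟩ := exists_isAffineOpen_mem_and_subset (Opens.mem_top (qY.base y))
  obtain ⟨V, hV, hyV, hVW⟩ := exists_isAffineOpen_mem_and_subset (x := y) (U := W ⊓ qY ⁻¹ᵁ U) ⟨hy, hyU⟩
  have e1 : V ≤ qY ⁻¹ᵁ U := hVW.trans inf_le_right
  refine ⟨V, hyV, hVW.trans inf_le_left, ?_⟩
  have e2 : p' ⁻¹ᵁ V ≤ pX ⁻¹ᵁ p ⁻¹ᵁ U := fun z hz => by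
    change (pX ≫ p) z ∈ U
    rw [hX.w]
    exact e1 hz
  have hUY : p' ⁻¹ᵁ V = pX ⁻¹ᵁ (p ⁻¹ᵁ U) ⊓ p' ⁻¹ᵁ V := (inf_eq_right.2 e2).symm
  have hpo := (isIso_pushoutSection_iff hX e1 le_rfl hUY).1
    (isIso_pushoutSection_of_isAffineOpen hX e1 le_rfl hUY hU hV (hU.preimage p))
  simp only [← Scheme.Hom.app_eq_appLE] at hpo
  algebraize [(p.app U).hom, (qY.appLE U V e1).hom, (p'.app V).hom, (pX.appLE _ _ e2).hom,
    ((p'.app V).hom.comp (qY.appLE U V e1).hom)]
  haveI : IsScalarTower Γ(Y, U) Γ(X, p ⁻¹ᵁ U) Γ(X', p' ⁻¹ᵁ V) :=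
    IsScalarTower.of_algebraMap_eq' (congrArg CommRingCat.Hom.hom hpo.w).symm
  haveI : Algebra.IsPushout Γ(Y, U) Γ(Y', V) Γ(X, p ⁻¹ᵁ U) Γ(X', p' ⁻¹ᵁ V) :=
    CommRingCat.isPushout_iff_isPushout.mp hpo.flip
  refine invariants_of_isPushout_of_isUnit' Γ(Y, U) Γ(X, p ⁻¹ᵁ U) Γ(Y', V) Γ(X', p' ⁻¹ᵁ V)
    (by rw [← Nat.card_eq_fintype_card]; exact isUnit_natCast_of_top hcard V)
    (fun g => act hp U g)
    (fun g => ((ρ' g).hom.appLE (p' ⁻¹ᵁ V) (p' ⁻¹ᵁ V) (SGA1.preimage_le_of_inv ρ' p' hρ₂ g V)).hom)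
    (act_app hp U)
    (fun g a => by
      change (p'.app V ≫ (ρ' g).hom.appLE _ _ _).hom a = (p'.app V).hom a
      rw [Scheme.Hom.app_eq_appLE, Scheme.Hom.appLE_comp_appLE]
      simp only [hρ₂ g])
    (fun g b => by
      change (pX.appLE _ _ e2 ≫ (ρ' g).hom.appLE _ _ _).hom b =
        ((ρ g).hom.appLE _ _ _ ≫ pX.appLE _ _ e2).hom b
      rw [Scheme.Hom.appLE_comp_appLE, Scheme.Hom.appLE_comp_appLE]
      simp only [hρ₁ g])
    (hp.injective U) (fun b hb => (hp.range_iff U b).2 hb) (fun g b => ?_)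
  rw [map_sum]
  refine Fintype.sum_equiv (Equiv.mulRight g) _ _ fun h => ?_
  change act hp U g (act hp U h b) = act hp U (h * g) b
  rw [act_mul]
  rfl

/-- Quotients by groups of invertible order commute with base change. -/
theorem isQuot_of_isPullback_of_isUnit [Finite G] (hp : SGA1.IsQuot ρ p)
    (hcard : IsUnit ((Nat.card G : ℕ) : Γ(Y, ⊤))) {X' Y' : Scheme.{u}}
    (qY : Y' ⟶ Y) (pX : X' ⟶ X) (p' : X' ⟶ Y') (hX : IsPullback pX p' p qY)
    (ρ' : G →* Aut X') (hρ₁ : ∀ g : G, (ρ' g).hom ≫ pX = pX ≫ (ρ g).hom)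
    (hρ₂ : ∀ g : G, (ρ' g).hom ≫ p' = p') : SGA1.IsQuot ρ' p' := by
  refine isQuot_of_isPullback_of_isUnit' hp ?_ qY pX p' hX ρ' hρ₁ hρ₂
  rw [← map_natCast qY.appTop.hom]
  exact hcard.map _

end Groth.Agent.SGA1QuotLib
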