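import Mathlib

/-! Flatness of rings of invariants by transfer from stabilisers of points. -/

universe u
open scoped TensorProduct Pointwise

namespace Groth.Agent.SGA1QuotLib

set_option linter.style.haveILetI false

variable {R M L : Type u} [CommRing R] [CommRing M] [Algebra R M] [CommRing L] [Algebra R L]

/-- Linear relations between elements fixed by `τ` are trivial after multiplying by a power of `c`. -/
def TrivFix {ι : Type*} (τ : ι → (M →ₐ[R] M)) (c : M) : Prop :=
  ∀ (n : ℕ) (f : Fin n → R) (x : Fin n → M), (∀ i t, τ t (x i) = x i) → ∑ i, f i • x i = 0 →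
    ∃ (N k : ℕ) (a : Fin n → Fin k → R) (y : Fin k → M), (∀ j t, τ t (y j) = y j) ∧
      (∀ i, c ^ N * x i = ∑ j, a i j • y j) ∧ ∀ j, ∑ i, f i * a i j = 0

/-- The fixed subalgebra of a family of endomorphisms. -/
def fixAlg {ι : Type*} (τ : ι → (M →ₐ[R] M)) : Subalgebra R M where
  carrier := {x | ∀ t, τ t x = x}
  mul_mem' hx hy t := by rw [map_mul, hx t, hy t]
  one_mem' t := map_one _
  add_mem' hx hy t := by rw [map_add, hx t, hy t]
  zero_mem' t := map_zero _
  algebraMap_mem' r t := (τ t).commutes r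

theorem trivFix_one_of_flat {ι : Type*} {τ : ι → (M →ₐ[R] M)} [Module.Flat R (fixAlg τ)] :
    TrivFix τ 1 := fun n f x hx hfx => by
  obtain ⟨k, a, y, h1, h2⟩ := Module.Flat.iff_forall_isTrivialRelation.mp (inferInstance)
    (f := f) (x := fun i => (⟨x i, hx i⟩ : fixAlg τ))
    (Subtype.ext (by simpa [AddSubmonoidClass.coe_finsetSum] using hfx))
  refine ⟨0, k, a, fun j => y j, fun j => (y j).2, fun i => ?_, h2⟩
  rw [pow_zero, one_mul]
  simpa [AddSubmonoidClass.coe_finsetSum] using congrArg Subtype.val (h1 i)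

section Loc

variable {ι : Type*} [Finite ι] {τ : ι → (M →ₐ[R] M)} {τ' : ι → (L →ₐ[R] L)} (φ : M →ₐ[R] L)
  {c : M}

theorem exists_pow_mul_eq_zero (hloc : ∀ z, φ z = 0 → ∃ j : ℕ, c ^ j * z = 0) {κ : Type*} [Finite κ]
    (z : κ → M) (h : ∀ k, φ (z k) = 0) : ∃ j : ℕ, ∀ k, c ^ j * z k = 0 := by
  cases nonempty_fintype κ
  choose j hj using fun k => hloc _ (h k)
  refine ⟨∑ k, j k, fun k => ?_⟩
  have hk : j k ≤ ∑ k, j k := Finset.single_le_sum (fun k _ => Nat.zero_le (j k)) (Finset.mem_univ k)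
  rw [← Nat.sub_add_cancel hk, pow_add, mul_assoc, hj, mul_zero]

/-- A fixed element of a localisation is a fraction with fixed numerator. -/
theorem exists_fixed_num (hc : ∀ t, τ t c = c) (heq : ∀ t m, φ (τ t m) = τ' t (φ m))
    (hloc : ∀ z, φ z = 0 → ∃ j : ℕ, c ^ j * z = 0)
    (hsurj : ∀ l, ∃ (e : ℕ) (y : M), φ c ^ e * l = φ y) {κ : Type*} [Finite κ]
    (l : κ → L) (hl : ∀ k t, τ' t (l k) = l k) :
    ∃ (e : ℕ) (y : κ → M), (∀ k t, τ t (y k) = y k) ∧ ∀ k, φ c ^ e * l k = φ (y k) := by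
  cases nonempty_fintype κ
  choose e y hy using fun k => hsurj (l k)
  let E := ∑ k, e k
  have hE : ∀ k, e k ≤ E := fun k =>
    Finset.single_le_sum (fun k _ => Nat.zero_le (e k)) (Finset.mem_univ k)
  let Y : κ → M := fun k => c ^ (E - e k) * y k
  have hY : ∀ k, φ c ^ E * l k = φ (Y k) := fun k => by
    simp only [Y, map_mul, map_pow, ← hy k, ← mul_assoc, ← pow_add, Nat.sub_add_cancel (hE k)]
  obtain ⟨j, hj⟩ := exists_pow_mul_eq_zero φ hloc (κ := κ × ι) (fun p => τ p.2 (Y p.1) - Y p.1)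
    fun p => by
      rw [map_sub, heq, ← hY, map_mul, map_pow, ← heq, hc, hl, sub_self]
  refine ⟨j + E, fun k => c ^ j * Y k, fun k t => ?_, fun k => ?_⟩
  · rw [map_mul, map_pow, hc]
    exact sub_eq_zero.1 (by rw [← mul_sub]; exact hj (k, t))
  · rw [map_mul, map_pow, ← hY, pow_add, mul_assoc]

/-- From a localisation back. -/
theorem trivFix_of_loc (hc : ∀ t, τ t c = c) (heq : ∀ t m, φ (τ t m) = τ' t (φ m))
    (hloc : ∀ z, φ z = 0 → ∃ j : ℕ, c ^ j * z = 0)
    (hsurj : ∀ l, ∃ (e : ℕ) (y : M), φ c ^ e * l = φ y) (h : TrivFix τ' (1 : L)) :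
    TrivFix τ c := fun n f x hx hfx => by
  obtain ⟨N, k, a, l, hl, h1, h2⟩ := h n f (fun i => φ (x i))
    (fun i t => by rw [← heq, hx i t]) (by simpa [map_sum, map_smul] using congrArg φ hfx)
  obtain ⟨e, y, hy, hly⟩ := exists_fixed_num φ hc heq hloc hsurj l hl
  obtain ⟨j, hj⟩ := exists_pow_mul_eq_zero φ hloc (fun i => c ^ e * x i - ∑ m, a i m • y m)
    fun i => by
      have h1' : φ (x i) = ∑ m, a i m • l m := by simpa using h1 i
      simp only [map_sub, map_mul, map_pow, map_sum, map_smul, h1', ← hly, Finset.mul_sum,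
        mul_smul_comm, sub_self]
  refine ⟨j + e, k, a, fun m => c ^ j * y m, fun m t => by rw [map_mul, map_pow, hc, hy m t],
    fun i => ?_, h2⟩
  have := sub_eq_zero.1 ((mul_sub (c ^ j) _ _).symm.trans (hj i))
  rw [pow_add, mul_assoc, this, Finset.mul_sum]
  simp only [mul_smul_comm]

/-- To a localisation. -/
theorem trivFix_loc (hc : ∀ t, τ t c = c) (heq : ∀ t m, φ (τ t m) = τ' t (φ m))
    (hloc : ∀ z, φ z = 0 → ∃ j : ℕ, c ^ j * z = 0)
    (hsurj : ∀ l, ∃ (e : ℕ) (y : M), φ c ^ e * l = φ y) (hunit : IsUnit (φ c))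
    (h : TrivFix τ (1 : M)) : TrivFix τ' (1 : L) := fun n f l hl hfl => by
  obtain ⟨e, y, hy, hly⟩ := exists_fixed_num φ hc heq hloc hsurj l hl
  obtain ⟨j, hj⟩ := exists_pow_mul_eq_zero φ hloc (κ := Unit) (fun _ => ∑ i, f i • y i) fun _ => by
    have := congrArg (φ c ^ e * ·) hfl
    simpa [map_sum, map_smul, Finset.mul_sum, mul_smul_comm, hly] using this
  obtain ⟨N, k, a, w, hw, h1, h2⟩ := h n f (fun i => c ^ j * y i)
    (fun i t => by rw [map_mul, map_pow, hc, hy i t])
    (by simpa [Finset.mul_sum, mul_smul_comm] using hj ())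
  obtain ⟨v, hv⟩ := hunit.exists_left_inv
  have hvfix : ∀ t, τ' t v = v := fun t => by
    refine hunit.mul_right_cancel ?_
    conv_lhs => rw [← hc t, heq, ← map_mul, hv, map_one]
    rw [hv]
  refine ⟨0, k, a, fun m => v ^ (j + e) * φ (w m), fun m t => by
    rw [map_mul, map_pow, hvfix, ← heq, hw m t], fun i => ?_, h2⟩
  have h1' : φ c ^ (j + e) * l i = ∑ m, a i m • φ (w m) := by
    have := congrArg φ (h1 i)
    simpa [map_sum, map_smul, pow_add, mul_assoc, hly] using this
  simp only [pow_zero, one_mul, ← mul_smul_comm, ← Finset.mul_sum, ← h1', ← mul_assoc, ← mul_pow,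
    hv, one_pow]

end Loc

variable {G : Type*} [Group G] [MulSemiringAction G M] [SMulCommClass G R M]

/-- The action of a group element as an algebra endomorphism. -/
def smulAlgHom (g : G) : M →ₐ[R] M :=
  { MulSemiringAction.toRingHom G M g with commutes' := fun r => smul_algebraMap g r }

@[simp]
theorem smulAlgHom_apply (g : G) (m : M) : (smulAlgHom g : M →ₐ[R] M) m = g • m := rfl

/-- Transfer: flatness of the invariants from flatness near each point of the invariants of a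
subgroup containing the stabiliser. -/
theorem flat_fixed [Finite G]
    (h : ∀ Q : PrimeSpectrum M, ∃ (H : Subgroup G) (c : M), (∀ g ∈ H, g • c = c) ∧ c ∉ Q.asIdeal ∧
      (∀ g ∉ H, g • c ∈ Q.asIdeal) ∧
      TrivFix (fun t : H => (smulAlgHom (t : G) : M →ₐ[R] M)) c) :
    Module.Flat R (FixedPoints.subalgebra R M G) := by
  classical
  cases nonempty_fintype G
  let A := FixedPoints.subalgebra R M G
  haveI : Algebra.IsInvariant A M G := ⟨fun x hx => ⟨⟨x, hx⟩, rfl⟩⟩
  haveI : Algebra.IsIntegral A M := Algebra.IsInvariant.isIntegral A M G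
  rw [Module.Flat.iff_forall_isTrivialRelation]
  intro n f x hfx
  have hfx' : ∑ i, f i • (x i : M) = 0 := by
    have := congrArg Subtype.val hfx
    simpa [AddSubmonoidClass.coe_finsetSum] using this
  let P : A → Prop := fun b => ∃ (k : ℕ) (a : Fin n → Fin k → R) (y : Fin k → A),
    (∀ i, b * x i = ∑ j, a i j • y j) ∧ ∀ j, ∑ i, f i * a i j = 0
  let J : Ideal A :=
    { carrier := {b | P b}
      zero_mem' := ⟨0, fun _ => Fin.elim0, Fin.elim0, fun i => by simp, fun j => j.elim0⟩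
      add_mem' := by
        rintro b b' ⟨k, a, y, h1, h2⟩ ⟨k', a', y', h1', h2'⟩
        refine ⟨k + k', fun i => Fin.append (a i) (a' i), Fin.append y y', fun i => ?_, fun j => ?_⟩
        · rw [add_mul, h1, h1', Fin.sum_univ_add]
          simp
        · refine Fin.addCases (fun j => ?_) (fun j => ?_) j
          · simpa using h2 j
          · simpa using h2' j
      smul_mem' := by
        rintro r b ⟨k, a, y, h1, h2⟩
        refine ⟨k, a, fun j => r * y j, fun i => ?_, h2⟩
        rw [smul_eq_mul, mul_assoc, h1, Finset.mul_sum]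
        simp only [mul_smul_comm] }
  suffices hJ : J = ⊤ by
    have h1J : (1 : A) ∈ J := by rw [hJ]; trivial
    obtain ⟨k, a, y, h1, h2⟩ : P 1 := h1J
    exact ⟨k, a, y, fun i => by rw [← h1 i, one_mul], h2⟩
  by_contra hJ
  obtain ⟨m, hm, hJm⟩ := Ideal.exists_le_maximal J hJ
  obtain ⟨Q, hQmax, hQm⟩ := Ideal.exists_ideal_over_maximal_of_isIntegral (S := M) m (by
      rw [(RingHom.injective_iff_ker_eq_bot (algebraMap A M)).1 Subtype.val_injective]; exact bot_le)
  have hQ : Q.IsPrime := hQmax.isPrime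
  obtain ⟨H, c, hcH, hcQ, hcg, hT⟩ := h ⟨Q, hQ⟩
  obtain ⟨N, k, a, y, hy, h1, h2⟩ := hT n f (fun i => (x i : M))
    (fun i t => (x i).2 (t : G)) hfx'
  cases nonempty_fintype (G ⧸ H)
  -- the transfer
  let T : M → M := fun z => ∑ q : G ⧸ H, q.out • z
  have hTfix : ∀ z : M, (∀ g ∈ H, g • z = z) → ∀ g : G, g • T z = T z := fun z hz g => by
    simp only [T, Finset.smul_sum, ← mul_smul]
    refine Fintype.sum_equiv (MulAction.toPerm g) _ _ fun q => ?_
    obtain ⟨t, ht⟩ := QuotientGroup.mk_out_eq_mul H (g * q.out)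
    have hq : (g * q.out : G) = g • q := by
      conv_rhs => rw [← q.out_eq]
      rfl
    rw [MulAction.toPerm_apply, ← hq, ht, mul_smul (g * q.out), hz t t.2, mul_smul]
  have hTx : ∀ z i, T (z * (x i : M)) = T z * (x i : M) := fun z i => by
    simp only [T, Finset.sum_mul, smul_mul', (x i).2 _]
  have hcy : ∀ j, ∀ g ∈ H, g • (c * y j) = c * y j := fun j g hg => by
    rw [smul_mul', hcH g hg]; exact congrArg (c * ·) (hy j ⟨g, hg⟩)
  let u : A := ⟨T (c ^ (N + 1)), hTfix _ fun g hg => by rw [smul_pow', hcH g hg]⟩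
  have hu : u ∈ J := by
    refine ⟨k, a, fun j => ⟨T (c * y j), hTfix _ (hcy j)⟩, fun i => Subtype.ext ?_, h2⟩
    simp only [MulMemClass.coe_mul, AddSubmonoidClass.coe_finsetSum, SetLike.val_smul]
    rw [← hTx, pow_succ', mul_assoc, h1 i, Finset.mul_sum]
    simp only [T, mul_smul_comm, Finset.smul_sum, smul_comm _ (a i _)]
    rw [Finset.sum_comm]
  have huQ : (u : M) ∈ Q := by
    have := hJm hu
    rw [← hQm] at this
    exact this
  refine hcQ ((Ideal.IsPrime.pow_mem_iff_mem hQ (N + 1) (Nat.succ_pos N)).1 ?_)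
  let q₀ : G ⧸ H := (1 : G)
  have hrest : ∑ q ∈ Finset.univ.erase q₀, q.out • c ^ (N + 1) ∈ Q := by
    refine Ideal.sum_mem _ fun q hq => ?_
    rw [smul_pow']
    refine Ideal.pow_mem_of_mem _ (hcg _ fun hqH => (Finset.ne_of_mem_erase hq) ?_) _ (Nat.succ_pos N)
    rw [← q.out_eq]
    exact (QuotientGroup.eq).2 (by simpa using H.inv_mem hqH)
  have h0 : q₀.out • c ^ (N + 1) = c ^ (N + 1) := by
    rw [smul_pow', hcH _ ?_]
    obtain ⟨t, ht⟩ := QuotientGroup.mk_out_eq_mul H (1 : G)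
    rw [show q₀.out = 1 * (t : G) from ht, one_mul]
    exact t.2
  have hsum := Finset.add_sum_erase Finset.univ (fun q : G ⧸ H => q.out • c ^ (N + 1)) (Finset.mem_univ q₀)
  rw [h0] at hsum
  have := Ideal.sub_mem _ huQ hrest
  rwa [show (u : M) = c ^ (N + 1) + ∑ q ∈ Finset.univ.erase q₀, q.out • c ^ (N + 1) from hsum.symm,
    add_sub_cancel_right] at this

end Groth.Agent.SGA1QuotLib
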