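import Mathlib
import Groth.Agent.SGA1QuotLib.FlatInvariants

/-! Invariants after base change are spanned by invariants: transfer from stabilisers of points. -/

universe u
open scoped TensorProduct Pointwise

namespace Groth.Agent.SGA1QuotLib

set_option linter.style.haveILetI false

variable {R : Type u} [CommRing R] (R' : Type u) [CommRing R'] [Algebra R R'] {M L : Type u}
  [CommRing M] [Algebra R M] [CommRing L] [Algebra R L]

/-- The span of the fixed elements in a base change. -/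
noncomputable def fixSpan {ι : Type*} (τ : ι → (M →ₐ[R] M)) : Submodule R' (R' ⊗[R] M) :=
  Submodule.span R' ((fun y => (1 : R') ⊗ₜ[R] y) '' {y | ∀ t, τ t y = y})

/-- Fixed elements of the base change lie in the span of fixed elements, up to powers of `c`. -/
def SpanFix {ι : Type*} (τ : ι → (M →ₐ[R] M)) (c : M) : Prop :=
  ∀ z : R' ⊗[R] M, (∀ t, (τ t).toLinearMap.lTensor R' z = z) →
    ∃ N : ℕ, ((1 : R') ⊗ₜ[R] (c ^ N)) * z ∈ fixSpan R' τ

variable {R'}

theorem lTensor_algHom_mul (σ : M →ₐ[R] L) (x y : R' ⊗[R] M) :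
    σ.toLinearMap.lTensor R' (x * y) = σ.toLinearMap.lTensor R' x * σ.toLinearMap.lTensor R' y :=
  map_mul (Algebra.TensorProduct.map (AlgHom.id R R') σ) x y

theorem mul_mem_fixSpan {ι : Type*} {τ : ι → (M →ₐ[R] M)} {c : M} (hc : ∀ t, τ t c = c)
    {z : R' ⊗[R] M} (hz : z ∈ fixSpan R' τ) : ((1 : R') ⊗ₜ[R] c) * z ∈ fixSpan R' τ := by
  induction hz using Submodule.span_induction with
  | mem x hx =>
    obtain ⟨y, hy, rfl⟩ := hx
    rw [Algebra.TensorProduct.tmul_mul_tmul, one_mul]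
    exact Submodule.subset_span ⟨c * y, fun t => by rw [map_mul, hc, hy t], rfl⟩
  | zero => rw [mul_zero]; exact zero_mem _
  | add x y _ _ hx hy => rw [mul_add]; exact add_mem hx hy
  | smul r x _ hx => rw [mul_smul_comm]; exact Submodule.smul_mem _ _ hx

theorem SpanFix.comp {ι ι' : Type*} {τ : ι → (M →ₐ[R] M)} {c : M} (h : SpanFix R' τ c) (e : ι' → ι)
    (he : Function.Surjective e) : SpanFix R' (fun t => τ (e t)) c := fun z hz => by
  obtain ⟨N, hN⟩ := h z fun t => by obtain ⟨t', rfl⟩ := he t; exact hz t'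
  exact ⟨N, Submodule.span_mono (Set.image_mono fun y (hy : ∀ t, τ t y = y) t => hy (e t)) hN⟩

section Loc

variable {ι : Type*} [Finite ι] {τ : ι → (M →ₐ[R] M)} {τ' : ι → (L →ₐ[R] L)} [Algebra M L]
  [IsScalarTower R M L] {c : M} [IsLocalization.Away c L]

theorem loc_surj (z : R' ⊗[R] L) : ∃ (e : ℕ) (y : R' ⊗[R] M),
    ((1 : R') ⊗ₜ[R] (algebraMap M L c ^ e)) * z =
      (IsScalarTower.toAlgHom R M L).toLinearMap.lTensor R' y := by
  induction z with
  | zero => exact ⟨0, 0, by simp⟩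
  | tmul r l =>
    obtain ⟨e, y, hy⟩ := IsLocalization.Away.surj c l
    refine ⟨e, r ⊗ₜ y, ?_⟩
    rw [Algebra.TensorProduct.tmul_mul_tmul, one_mul, LinearMap.lTensor_tmul, mul_comm, hy]
    rfl
  | add x y hx hy =>
    obtain ⟨e, a, ha⟩ := hx
    obtain ⟨e', b, hb⟩ := hy
    refine ⟨e + e', ((1 : R') ⊗ₜ[R] (c ^ e')) * a + ((1 : R') ⊗ₜ[R] (c ^ e)) * b, ?_⟩
    rw [map_add, lTensor_algHom_mul, lTensor_algHom_mul, ← ha, ← hb, LinearMap.lTensor_tmul,
      LinearMap.lTensor_tmul, AlgHom.toLinearMap_apply, AlgHom.toLinearMap_apply,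
      IsScalarTower.coe_toAlgHom', map_pow, map_pow, ← mul_assoc, ← mul_assoc, mul_add]
    simp only [Algebra.TensorProduct.tmul_mul_tmul, one_mul, ← pow_add, add_comm e e']

theorem loc_ker {z : R' ⊗[R] M} (hz : (IsScalarTower.toAlgHom R M L).toLinearMap.lTensor R' z = 0) :
    ∃ j : ℕ, ((1 : R') ⊗ₜ[R] (c ^ j)) * z = 0 := by
  let C := Localization.Away ((1 : R') ⊗ₜ[R] c)
  let j : M →+* C := (algebraMap (R' ⊗[R] M) C).comp Algebra.TensorProduct.includeRight.toRingHom
  have hj : IsUnit (j c) := IsLocalization.Away.algebraMap_isUnit ((1 : R') ⊗ₜ[R] c)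
  let ψ : L →+* C := IsLocalization.Away.lift c hj
  have hψ : ∀ m, ψ (algebraMap M L m) = j m := fun m => IsLocalization.Away.lift_eq c hj m
  let ψa : L →ₐ[R] C := AlgHom.mk ψ fun r => by
    change ψ (algebraMap R L r) = _
    rw [IsScalarTower.algebraMap_apply R M L, hψ, IsScalarTower.algebraMap_apply R (R' ⊗[R] M) C]
    exact congrArg (algebraMap (R' ⊗[R] M) C) (Algebra.TensorProduct.includeRight.commutes r)
  let r : R' →ₐ[R] C :=
    { (algebraMap (R' ⊗[R] M) C).comp Algebra.TensorProduct.includeLeftRingHom with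
      commutes' := fun r => by
        rw [IsScalarTower.algebraMap_apply R (R' ⊗[R] M) C]
        rfl }
  have key : ((Algebra.TensorProduct.lift r ψa fun _ _ => Commute.all _ _).comp
      (Algebra.TensorProduct.map (AlgHom.id R R') (IsScalarTower.toAlgHom R M L))) =
      IsScalarTower.toAlgHom R (R' ⊗[R] M) C := by
    ext m
    · simp only [AlgHom.comp_apply, Algebra.TensorProduct.includeLeft_apply,
        Algebra.TensorProduct.map_tmul, map_one, AlgHom.id_apply, Algebra.TensorProduct.lift_tmul,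
        mul_one]
      rfl
    · simp only [AlgHom.comp_apply, AlgHom.coe_restrictScalars', Algebra.TensorProduct.includeRight_apply,
        Algebra.TensorProduct.map_tmul, map_one, Algebra.TensorProduct.lift_tmul, one_mul]
      exact hψ m
  have h0 : algebraMap (R' ⊗[R] M) C z = 0 := by
    have := AlgHom.congr_fun key z
    rw [IsScalarTower.coe_toAlgHom'] at this
    rw [← this, AlgHom.comp_apply]
    exact (congrArg _ hz).trans (map_zero _)
  obtain ⟨⟨_, k, rfl⟩, hk⟩ := (IsLocalization.map_eq_zero_iff (Submonoid.powers ((1 : R') ⊗ₜ[R] c)) C z).1 h0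
  exact ⟨k, by simpa [Algebra.TensorProduct.tmul_pow] using hk⟩

variable (L) in
theorem hloc_of_away : ∀ z : M, (IsScalarTower.toAlgHom R M L) z = 0 → ∃ j : ℕ, c ^ j * z = 0 := by
  intro z hz
  obtain ⟨⟨_, j, rfl⟩, hj⟩ := (IsLocalization.map_eq_zero_iff (Submonoid.powers c) L z).1 hz
  exact ⟨j, hj⟩

variable (L) in
theorem hsurj_of_away : ∀ l : L, ∃ (e : ℕ) (y : M),
    (IsScalarTower.toAlgHom R M L) c ^ e * l = (IsScalarTower.toAlgHom R M L) y := fun l => by
  obtain ⟨e, y, hy⟩ := IsLocalization.Away.surj c l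
  exact ⟨e, y, by rw [mul_comm]; exact hy⟩

/-- From a localisation back. -/
theorem spanFix_of_loc (hc : ∀ t, τ t c = c)
    (heq : ∀ t m, algebraMap M L (τ t m) = τ' t (algebraMap M L m)) (h : SpanFix R' τ' (1 : L)) :
    SpanFix R' τ c := by
  intro z hz
  let φ := IsScalarTower.toAlgHom R M L
  obtain ⟨N, hN⟩ := h (φ.toLinearMap.lTensor R' z) fun t => by
    rw [← LinearMap.comp_apply, ← LinearMap.lTensor_comp,
      show (τ' t).toLinearMap ∘ₗ φ.toLinearMap = φ.toLinearMap ∘ₗ (τ t).toLinearMap from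
        LinearMap.ext fun m => (heq t m).symm,
      LinearMap.lTensor_comp, LinearMap.comp_apply, hz]
  rw [one_pow, ← Algebra.TensorProduct.one_def, one_mul] at hN
  have key : ∀ w ∈ fixSpan R' τ', ∃ e : ℕ, ∃ y ∈ fixSpan R' τ,
      ((1 : R') ⊗ₜ[R] (φ c ^ e)) * w = φ.toLinearMap.lTensor R' y := by
    intro w hw
    induction hw using Submodule.span_induction with
    | mem x hx =>
      obtain ⟨l, hl, rfl⟩ := hx
      obtain ⟨e, y, hy, hly⟩ := exists_fixed_num (τ' := τ') φ hc heq (hloc_of_away L)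
        (hsurj_of_away L) (κ := Unit) (fun _ => l) (fun _ t => hl t)
      refine ⟨e, (1 : R') ⊗ₜ y (), Submodule.subset_span ⟨_, hy (), rfl⟩, ?_⟩
      rw [Algebra.TensorProduct.tmul_mul_tmul, one_mul, LinearMap.lTensor_tmul, hly ()]
      rfl
    | zero => exact ⟨0, 0, zero_mem _, by simp⟩
    | add x y _ _ hx hy =>
      obtain ⟨e, a, ham, ha⟩ := hx
      obtain ⟨e', b, hbm, hb⟩ := hy
      refine ⟨e + e', ((1 : R') ⊗ₜ[R] (c ^ e')) * a + ((1 : R') ⊗ₜ[R] (c ^ e)) * b,
        add_mem (mul_mem_fixSpan (fun t => by rw [map_pow, hc]) ham)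
          (mul_mem_fixSpan (fun t => by rw [map_pow, hc]) hbm), ?_⟩
      rw [map_add, lTensor_algHom_mul, lTensor_algHom_mul, ← ha, ← hb, LinearMap.lTensor_tmul,
        LinearMap.lTensor_tmul, AlgHom.toLinearMap_apply, AlgHom.toLinearMap_apply, map_pow, map_pow,
        ← mul_assoc, ← mul_assoc, mul_add]
      simp only [Algebra.TensorProduct.tmul_mul_tmul, one_mul, ← pow_add, add_comm e e']
    | smul r x _ hx =>
      obtain ⟨e, a, ham, ha⟩ := hx
      refine ⟨e, r • a, Submodule.smul_mem _ _ ham, ?_⟩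
      rw [mul_smul_comm, ha]
      exact ((φ.toLinearMap.baseChange R').map_smul r a).symm
  obtain ⟨e, y, hym, hy⟩ := key _ hN
  obtain ⟨j, hj⟩ := loc_ker (L := L) (c := c) (z := ((1 : R') ⊗ₜ[R] (c ^ e)) * z - y) (by
    rw [map_sub, lTensor_algHom_mul, LinearMap.lTensor_tmul, AlgHom.toLinearMap_apply, map_pow,
      sub_eq_zero]
    exact hy)
  refine ⟨j + e, ?_⟩
  rw [mul_sub, sub_eq_zero, ← mul_assoc, Algebra.TensorProduct.tmul_mul_tmul, one_mul, ← pow_add] at hj
  rw [hj]
  exact mul_mem_fixSpan (fun t => by rw [map_pow, hc]) hym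

/-- To a localisation. -/
theorem spanFix_loc (hc : ∀ t, τ t c = c)
    (heq : ∀ t m, algebraMap M L (τ t m) = τ' t (algebraMap M L m)) (h : SpanFix R' τ (1 : M)) :
    SpanFix R' τ' (1 : L) := by
  intro z hz
  cases nonempty_fintype ι
  let φ := IsScalarTower.toAlgHom R M L
  obtain ⟨e, y, hy⟩ := loc_surj (M := M) (c := c) z
  have hφτ : ∀ t w, φ.toLinearMap.lTensor R' ((τ t).toLinearMap.lTensor R' w) =
      (τ' t).toLinearMap.lTensor R' (φ.toLinearMap.lTensor R' w) := fun t w => by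
    rw [← LinearMap.comp_apply, ← LinearMap.lTensor_comp, ← LinearMap.comp_apply, ← LinearMap.lTensor_comp,
      show φ.toLinearMap ∘ₗ (τ t).toLinearMap = (τ' t).toLinearMap ∘ₗ φ.toLinearMap from
        LinearMap.ext fun m => heq t m]
  have hker : ∀ t, ∃ j : ℕ, ((1 : R') ⊗ₜ[R] (c ^ j)) * ((τ t).toLinearMap.lTensor R' y - y) = 0 :=
    fun t => loc_ker (L := L) (c := c) (by
      rw [map_sub, hφτ, ← hy, lTensor_algHom_mul, hz t, LinearMap.lTensor_tmul,
        AlgHom.toLinearMap_apply, map_pow, ← heq, hc, sub_self])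
  choose j hj using hker
  let J := ∑ t, j t
  have hJ : ∀ t, ((1 : R') ⊗ₜ[R] (c ^ J)) * ((τ t).toLinearMap.lTensor R' y - y) = 0 := fun t => by
    have hk : j t ≤ J := Finset.single_le_sum (fun k _ => Nat.zero_le (j k)) (Finset.mem_univ t)
    rw [show ((1 : R') ⊗ₜ[R] (c ^ J)) = ((1 : R') ⊗ₜ[R] (c ^ (J - j t))) * ((1 : R') ⊗ₜ[R] (c ^ j t)) by
      rw [Algebra.TensorProduct.tmul_mul_tmul, one_mul, ← pow_add, Nat.sub_add_cancel hk],
      mul_assoc, hj, mul_zero]
  obtain ⟨N, hN⟩ := h (((1 : R') ⊗ₜ[R] (c ^ J)) * y) fun t => by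
    rw [lTensor_algHom_mul, LinearMap.lTensor_tmul, AlgHom.toLinearMap_apply, map_pow, hc,
      ← sub_eq_zero, ← mul_sub]
    exact hJ t
  rw [one_pow, ← Algebra.TensorProduct.one_def, one_mul] at hN
  obtain ⟨v, hv⟩ := (IsLocalization.Away.algebraMap_isUnit (S := L) c).exists_left_inv
  have hvfix : ∀ t, τ' t v = v := fun t => by
    refine (IsLocalization.Away.algebraMap_isUnit (S := L) c).mul_right_cancel ?_
    conv_lhs => rw [← hc t, heq, ← map_mul, hv, map_one]
    rw [hv]
  have hmap : ∀ w ∈ fixSpan R' τ, φ.toLinearMap.lTensor R' w ∈ fixSpan R' τ' := by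
    intro w hw
    induction hw using Submodule.span_induction with
    | mem x hx =>
      obtain ⟨m, hm, rfl⟩ := hx
      exact Submodule.subset_span ⟨φ m, fun t => by
        change τ' t (algebraMap M L m) = algebraMap M L m
        rw [← heq, hm t], rfl⟩
    | zero => rw [map_zero]; exact zero_mem _
    | add x y _ _ hx hy => rw [map_add]; exact add_mem hx hy
    | smul r x _ hx =>
      exact ((φ.toLinearMap.baseChange R').map_smul r x).symm ▸ Submodule.smul_mem _ _ hx
  refine ⟨0, ?_⟩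
  have := mul_mem_fixSpan (c := v ^ (J + e)) (fun t => by rw [map_pow, hvfix]) (hmap _ hN)
  rw [lTensor_algHom_mul, ← hy, LinearMap.lTensor_tmul, AlgHom.toLinearMap_apply, map_pow,
    show φ c = algebraMap M L c from rfl, ← mul_assoc, ← mul_assoc, Algebra.TensorProduct.tmul_mul_tmul, Algebra.TensorProduct.tmul_mul_tmul,
    one_mul, one_mul, mul_assoc, ← pow_add, ← mul_pow] at this
  change (((1 : R') ⊗ₜ[R] ((v * algebraMap M L c) ^ (J + e))) * z) ∈ _ at this
  rw [hv, one_pow] at this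
  simpa using this

end Loc

variable (R') {G : Type*} [Group G] [MulSemiringAction G M] [SMulCommClass G R M]

/-- Transfer: invariants of the base change are spanned by invariants if this holds near each point for
a subgroup containing the stabiliser. -/
theorem span_fixed [Finite G]
    (h : ∀ Q : PrimeSpectrum M, ∃ (H : Subgroup G) (c : M), (∀ g ∈ H, g • c = c) ∧ c ∉ Q.asIdeal ∧
      (∀ g ∉ H, g • c ∈ Q.asIdeal) ∧
      SpanFix R' (fun t : H => (smulAlgHom (t : G) : M →ₐ[R] M)) c)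
    (z : R' ⊗[R] M) (hz : ∀ g : G, (smulAlgHom g : M →ₐ[R] M).toLinearMap.lTensor R' z = z) :
    z ∈ (Algebra.TensorProduct.map (AlgHom.id R R') (FixedPoints.subalgebra R M G).val).range := by
  classical
  cases nonempty_fintype G
  let A := FixedPoints.subalgebra R M G
  haveI : Algebra.IsInvariant A M G := ⟨fun x hx => ⟨⟨x, hx⟩, rfl⟩⟩
  haveI : Algebra.IsIntegral A M := Algebra.IsInvariant.isIntegral A M G
  let ψ := Algebra.TensorProduct.map (AlgHom.id R R') A.val
  letI := ψ.toRingHom.toAlgebra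
  haveI : Algebra.IsIntegral (R' ⊗[R] A) (R' ⊗[R] M) := ⟨fun x => by
    induction x with
    | zero => exact isIntegral_zero
    | add x y hx hy => exact hx.add hy
    | tmul r m =>
      have h1 : IsIntegral (R' ⊗[R] A) ((1 : R') ⊗ₜ[R] m) := by
        obtain ⟨p, hp, hpm⟩ := Algebra.IsIntegral.isIntegral (R := A) m
        refine ⟨p.map (Algebra.TensorProduct.includeRight : A →ₐ[R] R' ⊗[R] A).toRingHom, hp.map _, ?_⟩
        rw [Polynomial.eval₂_map]
        have : ψ.toRingHom.comp (Algebra.TensorProduct.includeRight : A →ₐ[R] R' ⊗[R] A).toRingHom =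
            (Algebra.TensorProduct.includeRight : M →ₐ[R] R' ⊗[R] M).toRingHom.comp (algebraMap A M) :=
          RingHom.ext fun a => by simp [ψ]
        rw [RingHom.algebraMap_toAlgebra, this,
          ← (Algebra.TensorProduct.includeRight (A := R') (B := M) (R := R)).toRingHom.comp_id,
          RingHom.comp_assoc, RingHom.id_comp]
        exact (Polynomial.hom_eval₂ p (algebraMap A M)
          (Algebra.TensorProduct.includeRight : M →ₐ[R] R' ⊗[R] M).toRingHom m).symm.trans (by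
            rw [hpm, map_zero])
      have : r ⊗ₜ[R] m = algebraMap (R' ⊗[R] A) (R' ⊗[R] M) (r ⊗ₜ 1) * ((1 : R') ⊗ₜ[R] m) := by
        change _ = ψ (r ⊗ₜ 1) * _
        simp [ψ]
      rw [this]
      exact isIntegral_algebraMap.mul h1⟩
  let J : Ideal (R' ⊗[R] A) :=
    { carrier := {u | ψ u * z ∈ ψ.range}
      zero_mem' := by
        change ψ 0 * z ∈ ψ.range
        rw [map_zero, zero_mul]; exact zero_mem _
      add_mem' := fun {a b} ha hb => by
        change ψ (a + b) * z ∈ ψ.range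
        rw [map_add, add_mul]; exact add_mem ha hb
      smul_mem' := fun r a ha => by
        change ψ (r * a) * z ∈ ψ.range
        rw [map_mul, mul_assoc]; exact mul_mem ⟨r, rfl⟩ ha }
  suffices hJ : J = ⊤ by
    have : (1 : R' ⊗[R] A) ∈ J := by rw [hJ]; trivial
    change ψ 1 * z ∈ ψ.range at this
    rwa [map_one, one_mul] at this
  by_contra hJ
  obtain ⟨m, hm, hJm⟩ := Ideal.exists_le_maximal J hJ
  obtain ⟨Q', hQ'max, hQ'm⟩ := Ideal.exists_ideal_over_maximal_of_isIntegral (S := R' ⊗[R] M) m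
    (fun u hu => hJm (show ψ u * z ∈ ψ.range by
      rw [show ψ u = 0 from hu, zero_mul]; exact zero_mem _))
  haveI := hQ'max.isPrime
  let inc : M →ₐ[R] R' ⊗[R] M := Algebra.TensorProduct.includeRight
  obtain ⟨H, c, hcH, hcQ, hcg, hS⟩ := h ⟨Q'.comap inc.toRingHom, inferInstance⟩
  obtain ⟨N, hN⟩ := hS z fun t => hz t
  cases nonempty_fintype (G ⧸ H)
  let T : M →ₗ[R] M := ∑ q : G ⧸ H, (smulAlgHom q.out : M →ₐ[R] M).toLinearMap
  have hT : ∀ w, T w = ∑ q : G ⧸ H, q.out • w := fun w => by simp [T]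
  have hTfix : ∀ w : M, (∀ g ∈ H, g • w = w) → ∀ g : G, g • T w = T w := fun w hw g => by
    simp only [hT, Finset.smul_sum, ← mul_smul]
    refine Fintype.sum_equiv (MulAction.toPerm g) _ _ fun q => ?_
    obtain ⟨t, ht⟩ := QuotientGroup.mk_out_eq_mul H (g * q.out)
    have hq : (g * q.out : G) = g • q := by
      conv_rhs => rw [← q.out_eq]
      rfl
    rw [MulAction.toPerm_apply, ← hq, ht, mul_smul (g * q.out), hw t t.2, mul_smul]
  have hTz : ∀ w, T.lTensor R' (((1 : R') ⊗ₜ[R] w) * z) = ((1 : R') ⊗ₜ[R] T w) * z := fun w => by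
    have hsum : T.lTensor R' = ∑ q : G ⧸ H, (smulAlgHom q.out : M →ₐ[R] M).toLinearMap.lTensor R' :=
      map_sum (LinearMap.lTensorHom R') _ _
    rw [hsum, LinearMap.sum_apply, hT, TensorProduct.tmul_sum, Finset.sum_mul]
    refine Finset.sum_congr rfl fun q _ => ?_
    rw [lTensor_algHom_mul, hz q.out, LinearMap.lTensor_tmul]
    rfl
  have hTspan : ∀ w ∈ fixSpan R' (fun t : H => (smulAlgHom (t : G) : M →ₐ[R] M)),
      T.lTensor R' w ∈ ψ.range := by
    intro w hw
    induction hw using Submodule.span_induction with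
    | mem x hx =>
      obtain ⟨y, hy, rfl⟩ := hx
      exact ⟨(1 : R') ⊗ₜ ⟨T y, hTfix y fun g hg => hy ⟨g, hg⟩⟩, by simp [ψ]⟩
    | zero => rw [map_zero]; exact zero_mem _
    | add x y _ _ hx hy => rw [map_add]; exact add_mem hx hy
    | smul r x _ hx =>
      rw [show T.lTensor R' (r • x) = r • T.lTensor R' x from (T.baseChange R').map_smul r x]
      obtain ⟨u, hu⟩ := hx
      refine ⟨(r ⊗ₜ 1) * u, ?_⟩
      change ψ ((r ⊗ₜ 1) * u) = _
      rw [map_mul, show ψ u = _ from hu, Algebra.smul_def]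
      simp [ψ, Algebra.TensorProduct.algebraMap_apply]
  have hpow : ∀ g ∈ H, g • c ^ (N + 1) = c ^ (N + 1) := fun g hg => by rw [smul_pow', hcH g hg]
  let u : R' ⊗[R] A := (1 : R') ⊗ₜ ⟨T (c ^ (N + 1)), hTfix _ hpow⟩
  have hu : u ∈ J := by
    change ψ u * z ∈ ψ.range
    rw [show ψ u = (1 : R') ⊗ₜ[R] T (c ^ (N + 1)) by simp [ψ, u], ← hTz]
    refine hTspan _ ?_
    rw [pow_succ', ← one_mul (1 : R'), ← Algebra.TensorProduct.tmul_mul_tmul, mul_assoc]
    exact mul_mem_fixSpan (fun t => hcH _ t.2) hN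
  have huQ : T (c ^ (N + 1)) ∈ Q'.comap inc.toRingHom := by
    have h1 := hJm hu
    rw [← hQ'm] at h1
    change ψ u ∈ Q' at h1
    change inc _ ∈ Q'
    simpa [ψ, u, inc] using h1
  refine hcQ ((Ideal.IsPrime.pow_mem_iff_mem (show (Q'.comap inc.toRingHom).IsPrime from inferInstance)
    (N + 1) (Nat.succ_pos N)).1 ?_)
  let q₀ : G ⧸ H := (1 : G)
  have hrest : ∑ q ∈ Finset.univ.erase q₀, q.out • c ^ (N + 1) ∈ Q'.comap inc.toRingHom := by
    refine Ideal.sum_mem _ fun q hq => ?_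
    rw [smul_pow']
    refine Ideal.pow_mem_of_mem _ (hcg _ fun hqH => (Finset.ne_of_mem_erase hq) ?_) _ (Nat.succ_pos N)
    rw [← q.out_eq]
    exact (QuotientGroup.eq).2 (by simpa using H.inv_mem hqH)
  have h0 : q₀.out • c ^ (N + 1) = c ^ (N + 1) := by
    obtain ⟨t, ht⟩ := QuotientGroup.mk_out_eq_mul H (1 : G)
    rw [show q₀.out = 1 * (t : G) from ht, one_mul]
    exact hpow t t.2
  have hsum := Finset.add_sum_erase Finset.univ (fun q : G ⧸ H => q.out • c ^ (N + 1)) (Finset.mem_univ q₀)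
  rw [h0, ← hT] at hsum
  have := Ideal.sub_mem _ huQ hrest
  rwa [← hsum, add_sub_cancel_right] at this

end Groth.Agent.SGA1QuotLib
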