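import Mathlib
import Groth.Prelude.Def_SymProd
import Groth.Agent.ZeroCyc.Flat
import Groth.Agent.SGA1QuotLib.FlatInvariants

/-! Affine charts of fibre powers adapted to a stabiliser, with flat invariants. -/

universe u
open CategoryTheory CategoryTheory.Limits AlgebraicGeometry Opposite TopologicalSpace
open scoped TensorProduct

noncomputable section

namespace Groth.Agent.SGA1QuotLib

set_option linter.style.haveILetI false

variable {X S : Scheme.{u}} (f : X ⟶ S) {d : ℕ} {κ : Type u} (W : κ → X.Opens) (U : S.Opens)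
  (a : Fin d → κ)

/-- The product-type open of the fibre power. -/
def chartOpen : (SymProd.fibPow f d).Opens :=
  ⟨((WidePullback.base (fun _ : Fin d => f)).base ⁻¹' U) ∩
      ⋂ i : Fin d, (WidePullback.π (fun _ : Fin d => f) i).base ⁻¹' W (a i),
    (U.isOpen.preimage (Scheme.Hom.continuous _)).inter
      (isOpen_iInter_of_finite fun i => (W (a i)).isOpen.preimage (Scheme.Hom.continuous _))⟩

theorem mem_chartOpen {x : ↥(SymProd.fibPow f d)} :
    x ∈ chartOpen f W U a ↔ (WidePullback.base (fun _ : Fin d => f)).base x ∈ U ∧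
      ∀ i, (WidePullback.π (fun _ : Fin d => f) i).base x ∈ W (a i) := by
  simp only [chartOpen]
  exact Iff.rfl.trans (and_congr Iff.rfl Set.mem_iInter)

theorem chartOpen_le_base : chartOpen f W U a ≤ (WidePullback.base (fun _ : Fin d => f)) ⁻¹ᵁ U :=
  fun _ hx => ((mem_chartOpen f W U a).1 hx).1

theorem chartOpen_le_π (i : Fin d) :
    chartOpen f W U a ≤ (WidePullback.π (fun _ : Fin d => f) i) ⁻¹ᵁ W (a i) :=
  fun _ hx => ((mem_chartOpen f W U a).1 hx).2 i

/-- The stabiliser of the colouring. -/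
def colourStab : Subgroup (Equiv.Perm (Fin d)) where
  carrier := {σ | ∀ i, a (σ i) = a i}
  mul_mem' {σ τ} hσ hτ i := by rw [Equiv.Perm.mul_apply, hσ, hτ]
  one_mem' _ := rfl
  inv_mem' {σ} hσ i := by
    have := hσ (σ⁻¹ i)
    rwa [← Equiv.Perm.mul_apply, mul_inv_cancel, Equiv.Perm.one_apply, eq_comm] at this

theorem chartOpen_stable {σ : Equiv.Perm (Fin d)} (hσ : σ ∈ colourStab a) :
    chartOpen f W U a ≤ SymProd.permHom f d σ ⁻¹ᵁ chartOpen f W U a := fun x hx => by
  refine (mem_chartOpen f W U a).2 ⟨?_, fun i => ?_⟩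
  · rw [← Scheme.Hom.comp_apply, SymProd.permHom_base]
    exact ((mem_chartOpen f W U a).1 hx).1
  · rw [← Scheme.Hom.comp_apply, SymProd.permHom_π]
    have := ((mem_chartOpen f W U a).1 hx).2 (σ.symm i)
    rwa [show a (σ.symm i) = a i from (colourStab a).inv_mem hσ i] at this

/-- The product of the coordinate rings of the charts. -/
abbrev ChartRing : Type u := ∀ k, Γ(X, W k)

theorem exists_chart_presentation_slot [Finite κ] (hU : IsAffineOpen U) (hW : ∀ k, IsAffineOpen (W k))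
    (hWU : ∀ k, W k ≤ f ⁻¹ᵁ U) :
    IsAffineOpen (chartOpen f W U a) ∧
    (letI := ((WidePullback.base (fun _ : Fin d => f)).appLE U (chartOpen f W U a)
        (chartOpen_le_base f W U a)).hom.toAlgebra
     letI : ∀ k, Algebra Γ(S, U) Γ(X, W k) := fun k => (f.appLE U (W k) (hWU k)).hom.toAlgebra
     ∃ (ε : _root_.ZeroCyc.Tp Γ(S, U) (ChartRing W) d)
       (χ : _root_.ZeroCyc.Tp Γ(S, U) (ChartRing W) d →ₐ[Γ(S, U)]
          Γ(SymProd.fibPow f d, chartOpen f W U a)),
       (∀ i b, χ (_root_.ZeroCyc.slot i b) = ((WidePullback.π (fun _ : Fin d => f) i).appLE (W (a i))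
          (chartOpen f W U a) (chartOpen_le_π f W U a i)).hom (b (a i))) ∧
       Function.Surjective χ ∧ χ ε = 1 ∧ ε * ε = ε ∧ (∀ u, χ u = 0 → ε * u = 0) ∧
       (∀ t : colourStab a, SymTen.perm Γ(S, U) (ChartRing W) d (t : Equiv.Perm (Fin d)) ε = ε) ∧
       (∀ σ, σ ∉ colourStab a → ε * SymTen.perm Γ(S, U) (ChartRing W) d σ ε = 0) ∧
       ∀ τ : colourStab a → (Γ(SymProd.fibPow f d, chartOpen f W U a) →ₐ[Γ(S, U)]
         Γ(SymProd.fibPow f d, chartOpen f W U a)),
        (∀ t s, τ t s = ((SymProd.permHom f d (t : Equiv.Perm (Fin d))).appLE _ _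
          (chartOpen_stable f W U a t.2)).hom s) →
        ∀ t u, τ t (χ u) =
          χ (SymTen.perm Γ(S, U) (ChartRing W) d ((t : Equiv.Perm (Fin d))⁻¹) u)) := by
  classical
  cases nonempty_fintype κ
  letI iO := ((WidePullback.base (fun _ : Fin d => f)).appLE U (chartOpen f W U a)
      (chartOpen_le_base f W U a)).hom.toAlgebra
  letI iW : ∀ k, Algebra Γ(S, U) Γ(X, W k) := fun k => (f.appLE U (W k) (hWU k)).hom.toAlgebra
  let O := chartOpen f W U a
  let e : Fin d → (ChartRing W) := fun l => Pi.single (a l) 1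
  have he : ∀ l, e l * e l = e l := fun l => by simp only [e]; rw [← Pi.single_mul, one_mul]
  have he0 : ∀ l l', a l ≠ a l' → e l * e l' = 0 := fun l l' h => by
    funext k
    by_cases hk : k = a l
    · subst hk; simp [e, Pi.single_eq_of_ne h]
    · simp [e, Pi.single_eq_of_ne hk]
  let ε : (_root_.ZeroCyc.Tp Γ(S, U) (ChartRing W) d) := PiTensorProduct.tprod Γ(S, U) e
  have hεe : ∀ l, _root_.ZeroCyc.slot l (e l) * ε = ε := fun l => by
    simp only [ε, _root_.ZeroCyc.slot_apply, PiTensorProduct.tprod_mul_tprod]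
    congr 1
    funext i
    by_cases hi : i = l
    · subst hi; simp [he]
    · simp [hi]
  have hεε : ε * ε = ε := by
    simp only [ε, PiTensorProduct.tprod_mul_tprod]
    exact congrArg _ (funext he)
  let I : Ideal (_root_.ZeroCyc.Tp Γ(S, U) (ChartRing W) d) := Ideal.span {1 - ε}
  let q : (_root_.ZeroCyc.Tp Γ(S, U) (ChartRing W) d) →ₐ[Γ(S, U)] (_root_.ZeroCyc.Tp Γ(S, U) (ChartRing W) d) ⧸ I := Ideal.Quotient.mkₐ Γ(S, U) I
  have hqε : q ε = 1 := by
    refine (sub_eq_zero.1 ?_).symm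
    rw [← map_one q, ← map_sub]
    exact Ideal.Quotient.eq_zero_iff_mem.2 (Ideal.subset_span rfl)
  have hqe : ∀ l, q (_root_.ZeroCyc.slot l (e l)) = 1 := fun l => by
    have := congrArg q (hεe l)
    rwa [map_mul, hqε, mul_one] at this
  have hq0 : ∀ w, q w = 0 → ε * w = 0 := fun w hw => by
    obtain ⟨v, rfl⟩ := Ideal.mem_span_singleton'.1 (Ideal.Quotient.eq_zero_iff_mem.1 hw)
    rw [mul_left_comm, mul_sub, mul_one, hεε, sub_self, mul_zero]
  -- the comparison map
  have hstr : ∀ i r, ((WidePullback.π (fun _ : Fin d => f) i).appLE (W (a i)) O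
      (chartOpen_le_π f W U a i)).hom (algebraMap Γ(S, U) Γ(X, W (a i)) r) =
      algebraMap Γ(S, U) Γ(SymProd.fibPow f d, O) r := fun i r => by
    change (f.appLE U (W (a i)) (hWU _) ≫ (WidePullback.π (fun _ : Fin d => f) i).appLE (W (a i)) O
      (chartOpen_le_π f W U a i)).hom r = ((WidePullback.base (fun _ : Fin d => f)).appLE U O _).hom r
    rw [Scheme.Hom.appLE_comp_appLE]
    simp only [WidePullback.π_arrow (fun _ : Fin d => f) i]
  let g : Fin d → ((ChartRing W) →ₐ[Γ(S, U)] Γ(SymProd.fibPow f d, O)) := fun i =>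
    { (((WidePullback.π (fun _ : Fin d => f) i).appLE (W (a i)) O
        (chartOpen_le_π f W U a i)).hom.comp (Pi.evalRingHom (fun k => Γ(X, W k)) (a i))) with
      commutes' := fun r => hstr i r }
  let χT : (_root_.ZeroCyc.Tp Γ(S, U) (ChartRing W) d) →ₐ[Γ(S, U)] Γ(SymProd.fibPow f d, O) :=
    PiTensorProduct.liftAlgHom
      ((MultilinearMap.mkPiAlgebra Γ(S, U) (Fin d) Γ(SymProd.fibPow f d, O)).compLinearMap
        fun i => (g i).toLinearMap)
      (by simp) (fun x y => by simp [Finset.prod_mul_distrib])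
  have hχs : ∀ i b, χT (_root_.ZeroCyc.slot i b) = g i b := fun i b => by
    simp only [χT, _root_.ZeroCyc.slot_apply, PiTensorProduct.liftAlgHom, AlgHom.ofLinearMap_apply,
      PiTensorProduct.lift.tprod, MultilinearMap.compLinearMap_apply, MultilinearMap.mkPiAlgebra_apply,
      AlgHom.toLinearMap_apply]
    rw [Finset.prod_eq_single i (fun j _ hj => by simp [hj]) (by simp)]
    simp
  have hge : ∀ i, g i (e i) = 1 := fun i => by simp [g, e]
  have hχε : χT ε = 1 := by
    rw [show ε = ∏ l, _root_.ZeroCyc.slot l (e l) from _root_.ZeroCyc.tprod_eq_prod e, map_prod]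
    exact Finset.prod_eq_one fun l _ => (hχs l _).trans (hge l)
  let χ : ((_root_.ZeroCyc.Tp Γ(S, U) (ChartRing W) d) ⧸ I) →ₐ[Γ(S, U)] Γ(SymProd.fibPow f d, O) := Ideal.Quotient.liftₐ I χT (by
    intro w hw
    obtain ⟨v, rfl⟩ := Ideal.mem_span_singleton'.1 hw
    rw [map_mul, map_sub, map_one, hχε, sub_self, mul_zero])
  have hχq : ∀ w, χ (q w) = χT w := fun w => rfl
  -- the inverse morphism
  have hsingle1 : ∀ i, q (_root_.ZeroCyc.slot i (Pi.single (a i) 1)) = 1 := hqe
  let z : ∀ i, Γ(X, W (a i)) →+* (_root_.ZeroCyc.Tp Γ(S, U) (ChartRing W) d) ⧸ I := fun i =>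
    { toFun := fun b => q (_root_.ZeroCyc.slot i (Pi.single (a i) b))
      map_one' := hqe i
      map_mul' := fun x y => by rw [← map_mul, ← map_mul, ← Pi.single_mul]
      map_zero' := by rw [Pi.single_zero, map_zero, map_zero]
      map_add' := fun x y => by rw [Pi.single_add, map_add, map_add] }
  have hzstr : ∀ i r, z i (algebraMap Γ(S, U) _ r) = algebraMap Γ(S, U) ((_root_.ZeroCyc.Tp Γ(S, U) (ChartRing W) d) ⧸ I) r := fun i r => by
    change q (_root_.ZeroCyc.slot i (Pi.single (a i) (algebraMap Γ(S, U) _ r))) = _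
    rw [show (Pi.single (a i) (algebraMap Γ(S, U) Γ(X, W (a i)) r) : (ChartRing W)) =
        algebraMap Γ(S, U) (ChartRing W) r * e i by
          funext k
          by_cases hk : k = a i
          · subst hk; simp [e]
          · simp [e, hk],
      map_mul, map_mul, hqe, mul_one, AlgHom.commutes, AlgHom.commutes]
  have hz : ∀ i b, q (_root_.ZeroCyc.slot i b) = z i (b (a i)) := fun i b => by
    change _ = q (_root_.ZeroCyc.slot i (Pi.single (a i) (b (a i))))
    rw [← mul_one (q (_root_.ZeroCyc.slot i b)), ← hqe i, ← map_mul, ← map_mul]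
    congr 2
    funext k
    by_cases hk : k = a i
    · subst hk; simp [e]
    · simp [e, hk]
  have hzχ : ∀ i, χ.toRingHom.comp (z i) = ((WidePullback.π (fun _ : Fin d => f) i).appLE (W (a i)) O
      (chartOpen_le_π f W U a i)).hom := fun i => RingHom.ext fun b => by
    change χT (_root_.ZeroCyc.slot i (Pi.single (a i) b)) = _
    rw [hχs]
    simp [g]
  let bS : Spec (.of ((_root_.ZeroCyc.Tp Γ(S, U) (ChartRing W) d) ⧸ I)) ⟶ S :=
    Spec.map (CommRingCat.ofHom (algebraMap Γ(S, U) ((_root_.ZeroCyc.Tp Γ(S, U) (ChartRing W) d) ⧸ I))) ≫ hU.fromSpec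
  let πS : ∀ _i : Fin d, Spec (.of ((_root_.ZeroCyc.Tp Γ(S, U) (ChartRing W) d) ⧸ I)) ⟶ X := fun i =>
    Spec.map (CommRingCat.ofHom (z i)) ≫ (hW (a i)).fromSpec
  have hπS : ∀ i, πS i ≫ f = bS := fun i => by
    simp only [πS, bS, Category.assoc]
    rw [← IsAffineOpen.SpecMap_appLE_fromSpec f hU (hW (a i)) (hWU _), ← Spec.map_comp_assoc]
    congr 2
    exact CommRingCat.hom_ext (RingHom.ext (hzstr i))
  let ψ : Spec (.of ((_root_.ZeroCyc.Tp Γ(S, U) (ChartRing W) d) ⧸ I)) ⟶ SymProd.fibPow f d := WidePullback.lift bS πS hπS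
  have hψr : Set.range ψ ⊆ Set.range O.ι := by
    rintro _ ⟨p, rfl⟩
    rw [Scheme.Opens.range_ι]
    refine (mem_chartOpen f W U a).2 ⟨?_, fun i => ?_⟩
    · rw [← Scheme.Hom.comp_apply, WidePullback.lift_base]
      exact hU.range_fromSpec.le ⟨_, (Scheme.Hom.comp_apply _ _ _).symm⟩
    · rw [← Scheme.Hom.comp_apply, WidePullback.lift_π]
      exact (hW (a i)).range_fromSpec.le ⟨_, (Scheme.Hom.comp_apply _ _ _).symm⟩
  let ψ' : Spec (.of ((_root_.ZeroCyc.Tp Γ(S, U) (ChartRing W) d) ⧸ I)) ⟶ O.toScheme := IsOpenImmersion.lift O.ι ψ hψr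
  let α : O.toScheme ⟶ Spec (.of ((_root_.ZeroCyc.Tp Γ(S, U) (ChartRing W) d) ⧸ I)) := O.toSpecΓ ≫ Spec.map (CommRingCat.ofHom χ.toRingHom)
  have hαπ : ∀ i, α ≫ πS i = O.ι ≫ WidePullback.π (fun _ : Fin d => f) i := fun i => by
    simp only [α, πS, Category.assoc]
    rw [← Spec.map_comp_assoc, show CommRingCat.ofHom (z i) ≫ CommRingCat.ofHom χ.toRingHom =
        (WidePullback.π (fun _ : Fin d => f) i).appLE (W (a i)) O (chartOpen_le_π f W U a i) from
      CommRingCat.hom_ext (hzχ i)]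
    rw [Scheme.Opens.toSpecΓ_SpecMap_appLE_assoc, (hW (a i)).toSpecΓ_fromSpec,
      Scheme.Hom.resLE_comp_ι]
  have hαb : α ≫ bS = O.ι ≫ WidePullback.base (fun _ : Fin d => f) := by
    simp only [α, bS, Category.assoc]
    rw [← Spec.map_comp_assoc, show CommRingCat.ofHom (algebraMap Γ(S, U) ((_root_.ZeroCyc.Tp Γ(S, U) (ChartRing W) d) ⧸ I)) ≫
        CommRingCat.ofHom χ.toRingHom =
        (WidePullback.base (fun _ : Fin d => f)).appLE U O (chartOpen_le_base f W U a) from
      CommRingCat.hom_ext (RingHom.ext fun r => χ.commutes r)]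
    rw [Scheme.Opens.toSpecΓ_SpecMap_appLE_assoc, hU.toSpecΓ_fromSpec, Scheme.Hom.resLE_comp_ι]
  have hαψ : α ≫ ψ' = 𝟙 _ := by
    rw [← cancel_mono O.ι, Category.assoc, IsOpenImmersion.lift_fac, Category.id_comp]
    refine WidePullback.hom_ext (fun _ : Fin d => f) _ _ (fun i => ?_) ?_
    · rw [Category.assoc, WidePullback.lift_π, hαπ]
    · rw [Category.assoc, WidePullback.lift_base, hαb]
  have hψα : ψ' ≫ α = 𝟙 _ := by
    obtain ⟨θ, hθ⟩ := Spec.map_surjective (ψ' ≫ α)
    have h1 : ∀ i, θ.hom.comp (z i) = z i := fun i => by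
      refine congrArg CommRingCat.Hom.hom (Spec.map_injective (?_ :
        Spec.map (CommRingCat.ofHom (z i) ≫ θ) = Spec.map (CommRingCat.ofHom (z i))))
      rw [← cancel_mono (hW (a i)).fromSpec, Spec.map_comp, Category.assoc, hθ, Category.assoc]
      change ψ' ≫ α ≫ πS i = πS i
      rw [hαπ, IsOpenImmersion.lift_fac_assoc, WidePullback.lift_π]
    have h2 : θ.hom.comp (algebraMap Γ(S, U) ((_root_.ZeroCyc.Tp Γ(S, U) (ChartRing W) d) ⧸ I)) = algebraMap Γ(S, U) ((_root_.ZeroCyc.Tp Γ(S, U) (ChartRing W) d) ⧸ I) := by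
      refine congrArg CommRingCat.Hom.hom (Spec.map_injective (?_ :
        Spec.map (CommRingCat.ofHom (algebraMap Γ(S, U) ((_root_.ZeroCyc.Tp Γ(S, U) (ChartRing W) d) ⧸ I)) ≫ θ) =
          Spec.map (CommRingCat.ofHom (algebraMap Γ(S, U) ((_root_.ZeroCyc.Tp Γ(S, U) (ChartRing W) d) ⧸ I)))))
      rw [← cancel_mono hU.fromSpec, Spec.map_comp, Category.assoc, hθ, Category.assoc]
      change ψ' ≫ α ≫ bS = bS
      rw [hαb, IsOpenImmersion.lift_fac_assoc, WidePullback.lift_base]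
    let θa : ((_root_.ZeroCyc.Tp Γ(S, U) (ChartRing W) d) ⧸ I) →ₐ[Γ(S, U)] (_root_.ZeroCyc.Tp Γ(S, U) (ChartRing W) d) ⧸ I := { θ.hom with commutes' := RingHom.congr_fun h2 }
    have h3 : θa.comp q = q := PiTensorProduct.algHom_ext fun i => AlgHom.ext fun b => by
      change θ.hom (q (_root_.ZeroCyc.slot i b)) = q (_root_.ZeroCyc.slot i b)
      rw [hz]
      exact RingHom.congr_fun (h1 i) _
    have h4 : θ = 𝟙 _ := CommRingCat.hom_ext (RingHom.ext fun w => by
      obtain ⟨w, rfl⟩ := Ideal.Quotient.mk_surjective w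
      exact AlgHom.congr_fun h3 w)
    rw [← hθ, h4, Spec.map_id]
  haveI : IsIso α := ⟨ψ', hαψ, hψα⟩
  have hO : IsAffineOpen O := IsAffine.of_isIso α
  haveI : IsIso O.toSpecΓ := by
    rw [← hO.isoSpec_hom]
    infer_instance
  haveI : IsIso (Spec.map (CommRingCat.ofHom χ.toRingHom)) :=
    IsIso.of_isIso_comp_left O.toSpecΓ _
  have hbij : Function.Bijective χ :=
    (isIso_SpecMap_iff (f := CommRingCat.ofHom χ.toRingHom)).1 inferInstance
  -- equivariance
  have hequiv : ∀ τ : colourStab a → (Γ(SymProd.fibPow f d, chartOpen f W U a) →ₐ[Γ(S, U)]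
      Γ(SymProd.fibPow f d, chartOpen f W U a)),
      (∀ t s, τ t s = ((SymProd.permHom f d (t : Equiv.Perm (Fin d))).appLE _ _
        (chartOpen_stable f W U a t.2)).hom s) →
      ∀ t u, τ t (χT u) =
        χT (SymTen.perm Γ(S, U) (ChartRing W) d ((t : Equiv.Perm (Fin d))⁻¹) u) := by
    intro τ hτ
    intro t
    refine AlgHom.congr_fun (φ₁ := (τ t).comp χT)
      (φ₂ := χT.comp (SymTen.perm Γ(S, U) (ChartRing W) d ((t : Equiv.Perm (Fin d))⁻¹)))
      (PiTensorProduct.algHom_ext fun i => AlgHom.ext fun b => ?_)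
    change τ t (χT (_root_.ZeroCyc.slot i b)) = χT (((SymTen.perm Γ(S, U) (ChartRing W) d _).comp (_root_.ZeroCyc.slot i)) b)
    rw [_root_.ZeroCyc.perm_slot, hχs, hχs, hτ]
    have hai : a ((t : Equiv.Perm (Fin d))⁻¹ i) = a i := (colourStab a).inv_mem t.2 i
    change (((WidePullback.π (fun _ : Fin d => f) i).appLE (W (a i)) O (chartOpen_le_π f W U a i)) ≫
        (SymProd.permHom f d (t : Equiv.Perm (Fin d))).appLE O O (chartOpen_stable f W U a t.2)).hom (b (a i)) =
      ((WidePullback.π (fun _ : Fin d => f) ((t : Equiv.Perm (Fin d))⁻¹ i)).appLE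
        (W (a ((t : Equiv.Perm (Fin d))⁻¹ i))) O
        (chartOpen_le_π f W U a ((t : Equiv.Perm (Fin d))⁻¹ i))).hom
          (b (a ((t : Equiv.Perm (Fin d))⁻¹ i)))
    rw [Scheme.Hom.appLE_comp_appLE]
    simp only [SymProd.permHom_π]
    have key : ∀ (k : κ) (_ : k = a i) (e1 : O ≤ WidePullback.π (fun _ : Fin d => f)
          ((t : Equiv.Perm (Fin d))⁻¹ i) ⁻¹ᵁ W k) (e2 : O ≤ WidePullback.π (fun _ : Fin d => f)
          ((t : Equiv.Perm (Fin d))⁻¹ i) ⁻¹ᵁ W (a i)),
        ((WidePullback.π (fun _ : Fin d => f) _).appLE (W (a i)) O e2).hom (b (a i)) =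
          ((WidePullback.π (fun _ : Fin d => f) _).appLE (W k) O e1).hom (b k) := by
      rintro k rfl e1 e2; rfl
    exact key _ hai _ _
  have hεfix : ∀ t : colourStab a, SymTen.perm Γ(S, U) (ChartRing W) d (t : Equiv.Perm (Fin d)) ε = ε := fun t => by
    simp only [ε, SymTen.perm_tprod]
    congr 1
    funext i
    simp only [e]
    rw [show a ((t : Equiv.Perm (Fin d)).symm i) = a i from (colourStab a).inv_mem t.2 i]
  have hεzero : ∀ σ, σ ∉ colourStab a → ε * SymTen.perm Γ(S, U) (ChartRing W) d σ ε = 0 := fun σ hσ => by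
    obtain ⟨i, hi⟩ : ∃ i, a (σ i) ≠ a i := not_forall.1 hσ
    simp only [ε, SymTen.perm_tprod, PiTensorProduct.tprod_mul_tprod]
    refine MultilinearMap.map_coord_zero _ (σ i) ?_
    rw [Pi.mul_apply, Equiv.symm_apply_apply]
    exact he0 _ _ hi
  refine ⟨hO, ε, χT, fun i b => hχs i b, fun l => ?_, hχε, hεε, fun u hu => ?_, hεfix, hεzero, hequiv⟩
  · obtain ⟨v, hv⟩ := hbij.2 l
    obtain ⟨u, hu⟩ := Ideal.Quotient.mk_surjective v
    exact ⟨u, by rw [← hχq, show q u = v from hu, hv]⟩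
  · rw [← hχq] at hu
    exact hq0 u (hbij.1 (hu.trans (map_zero χ).symm))

theorem exists_chart_presentation [Finite κ] (hU : IsAffineOpen U) (hW : ∀ k, IsAffineOpen (W k))
    (hWU : ∀ k, W k ≤ f ⁻¹ᵁ U) :
    IsAffineOpen (chartOpen f W U a) ∧
    (letI := ((WidePullback.base (fun _ : Fin d => f)).appLE U (chartOpen f W U a)
        (chartOpen_le_base f W U a)).hom.toAlgebra
     letI : ∀ k, Algebra Γ(S, U) Γ(X, W k) := fun k => (f.appLE U (W k) (hWU k)).hom.toAlgebra
     ∃ (ε : _root_.ZeroCyc.Tp Γ(S, U) (ChartRing W) d)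
       (χ : _root_.ZeroCyc.Tp Γ(S, U) (ChartRing W) d →ₐ[Γ(S, U)]
          Γ(SymProd.fibPow f d, chartOpen f W U a)),
       Function.Surjective χ ∧ χ ε = 1 ∧ ε * ε = ε ∧ (∀ u, χ u = 0 → ε * u = 0) ∧
       (∀ t : colourStab a, SymTen.perm Γ(S, U) (ChartRing W) d (t : Equiv.Perm (Fin d)) ε = ε) ∧
       (∀ σ, σ ∉ colourStab a → ε * SymTen.perm Γ(S, U) (ChartRing W) d σ ε = 0) ∧
       ∀ τ : colourStab a → (Γ(SymProd.fibPow f d, chartOpen f W U a) →ₐ[Γ(S, U)]
         Γ(SymProd.fibPow f d, chartOpen f W U a)),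
        (∀ t s, τ t s = ((SymProd.permHom f d (t : Equiv.Perm (Fin d))).appLE _ _
          (chartOpen_stable f W U a t.2)).hom s) →
        ∀ t u, τ t (χ u) =
          χ (SymTen.perm Γ(S, U) (ChartRing W) d ((t : Equiv.Perm (Fin d))⁻¹) u)) := by
  obtain ⟨hO, ε, χ, -, rest⟩ := exists_chart_presentation_slot f W U a hU hW hWU
  exact ⟨hO, ε, χ, rest⟩

theorem trivFix_of_chart [Finite κ] (hU : IsAffineOpen U) (hW : ∀ k, IsAffineOpen (W k))
    (hWU : ∀ k, W k ≤ f ⁻¹ᵁ U) [Flat f] :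
    IsAffineOpen (chartOpen f W U a) ∧
    (letI := ((WidePullback.base (fun _ : Fin d => f)).appLE U (chartOpen f W U a)
        (chartOpen_le_base f W U a)).hom.toAlgebra
     ∀ τ : colourStab a → (Γ(SymProd.fibPow f d, chartOpen f W U a) →ₐ[Γ(S, U)]
         Γ(SymProd.fibPow f d, chartOpen f W U a)),
      (∀ t s, τ t s = ((SymProd.permHom f d (t : Equiv.Perm (Fin d))).appLE _ _
        (chartOpen_stable f W U a t.2)).hom s) → TrivFix τ 1) := by
  classical
  cases nonempty_fintype κ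
  obtain ⟨hO, ε, χT, hsurj, hχε, hεε, hker, hεfix, hεzero, hequiv⟩ :=
    exists_chart_presentation f W U a hU hW hWU
  letI iW : ∀ k, Algebra Γ(S, U) Γ(X, W k) := fun k => (f.appLE U (W k) (hWU k)).hom.toAlgebra
  haveI : ∀ k, Module.Flat Γ(S, U) Γ(X, W k) := fun k => f.flat_appLE hU (hW k) (hWU k)
  haveI : Module.Flat Γ(S, U) (ChartRing W) :=
    Module.Flat.of_linearEquiv (DFinsupp.linearEquivFunOnFintype (R := Γ(S, U))
      (M := fun k => Γ(X, W k))).symm
  refine ⟨hO, fun τ hτ => ?_⟩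
  have hτχ := hequiv τ hτ
  intro n c l hl hcl
  choose w₀ hw₀ using fun i => hsurj (l i)
  let w : Fin n → (_root_.ZeroCyc.Tp Γ(S, U) (ChartRing W) d) := fun i => ε * w₀ i
  have hw : ∀ i, χT (w i) = l i := fun i => by
    rw [map_mul, hχε, one_mul, hw₀]
  have huniq : ∀ u : (_root_.ZeroCyc.Tp Γ(S, U) (ChartRing W) d), χT (ε * u) = 0 → ε * u = 0 :=
    fun u hu => by
      rw [map_mul, hχε, one_mul] at hu
      exact hker u hu
  have hwfix : ∀ i (t : colourStab a), SymTen.perm Γ(S, U) (ChartRing W) d (t : Equiv.Perm (Fin d)) (w i) = w i :=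
    fun i t => by
      refine sub_eq_zero.1 ?_
      have e1 : SymTen.perm Γ(S, U) (ChartRing W) d (t : Equiv.Perm (Fin d)) (w i) - w i =
          ε * (SymTen.perm Γ(S, U) (ChartRing W) d (t : Equiv.Perm (Fin d)) (w₀ i) - w₀ i) := by
        simp only [w, map_mul, hεfix, mul_sub]
      rw [e1]
      refine huniq _ ?_
      rw [← e1, map_sub]
      have := hτχ (t⁻¹) (w i)
      simp only [InvMemClass.coe_inv, inv_inv] at this
      rw [← this, hw, hl, sub_self]
  -- symmetrise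
  cases nonempty_fintype (Equiv.Perm (Fin d) ⧸ colourStab a)
  let sy : (_root_.ZeroCyc.Tp Γ(S, U) (ChartRing W) d) → (_root_.ZeroCyc.Tp Γ(S, U) (ChartRing W) d) := fun u => ∑ p : Equiv.Perm (Fin d) ⧸ colourStab a, SymTen.perm Γ(S, U) (ChartRing W) d p.out u
  have hpm : ∀ (σ τ : Equiv.Perm (Fin d)) (u : (_root_.ZeroCyc.Tp Γ(S, U) (ChartRing W) d)),
      SymTen.perm Γ(S, U) (ChartRing W) d (σ * τ) u =
        SymTen.perm Γ(S, U) (ChartRing W) d σ (SymTen.perm Γ(S, U) (ChartRing W) d τ u) := fun σ τ =>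
    AlgHom.congr_fun (φ₂ := (SymTen.perm Γ(S, U) (ChartRing W) d σ).comp (SymTen.perm Γ(S, U) (ChartRing W) d τ))
      (PiTensorProduct.algHom_ext fun i => AlgHom.ext fun b => by
        change ((SymTen.perm Γ(S, U) (ChartRing W) d (σ * τ)).comp (_root_.ZeroCyc.slot i)) b =
          SymTen.perm Γ(S, U) (ChartRing W) d σ (((SymTen.perm Γ(S, U) (ChartRing W) d τ).comp (_root_.ZeroCyc.slot i)) b)
        rw [_root_.ZeroCyc.perm_slot, _root_.ZeroCyc.perm_slot]
        change _ = ((SymTen.perm Γ(S, U) (ChartRing W) d σ).comp (_root_.ZeroCyc.slot (τ i))) b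
        rw [_root_.ZeroCyc.perm_slot]
        rfl)
  have hsy : ∀ i, sy (w i) ∈ SymTen.TS Γ(S, U) (ChartRing W) d := fun i => by
    refine _root_.ZeroCyc.mem_TS_of_perm fun σ => ?_
    simp only [sy, map_sum, ← hpm]
    refine Fintype.sum_equiv (MulAction.toPerm σ) _ _ fun p => ?_
    obtain ⟨t, ht⟩ := QuotientGroup.mk_out_eq_mul (colourStab a) (σ * p.out)
    have hq : (σ * p.out : Equiv.Perm (Fin d)) = σ • p := by
      conv_rhs => rw [← p.out_eq]
      rfl
    rw [MulAction.toPerm_apply, ← hq, ht, hpm (σ * p.out), hwfix]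
  have hεsy : ∀ i, χT (sy (w i)) = l i := fun i => by
    let p₀ : Equiv.Perm (Fin d) ⧸ colourStab a := (1 : Equiv.Perm (Fin d))
    rw [← one_mul (χT (sy (w i))), ← hχε, ← map_mul, Finset.mul_sum,
      Finset.sum_eq_single p₀ (fun p _ hp => ?_) (by simp)]
    · obtain ⟨t, ht⟩ := QuotientGroup.mk_out_eq_mul (colourStab a) (1 : Equiv.Perm (Fin d))
      rw [show p₀.out = 1 * (t : Equiv.Perm (Fin d)) from ht, one_mul, hwfix, map_mul, hχε,
        one_mul, hw]
    · rw [show w i = ε * w₀ i from rfl, map_mul, ← mul_assoc, hεzero p.out (fun hpH => hp ?_),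
        zero_mul]
      rw [← p.out_eq]
      exact (QuotientGroup.eq).2 (by simpa using (colourStab a).inv_mem hpH)
  have hrel : ∑ i, c i • (⟨sy (w i), hsy i⟩ : SymTen.TS Γ(S, U) (ChartRing W) d) = 0 := by
    refine Subtype.ext ?_
    have h0 : ∑ i, c i • w i = 0 := by
      have e1 : ∑ i, c i • w i = ε * ∑ i, c i • w₀ i := by simp [w, Finset.mul_sum, mul_smul_comm]
      rw [e1]
      refine huniq _ ?_
      rw [← e1, map_sum]
      simpa [hw, map_smul] using hcl
    have : ∑ i, c i • sy (w i) = sy (∑ i, c i • w i) := by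
      simp only [sy, map_sum, map_smul, Finset.smul_sum]
      rw [Finset.sum_comm]
    simp only [AddSubmonoidClass.coe_finsetSum, SetLike.val_smul, ZeroMemClass.coe_zero, this, h0]
    simp [sy]
  haveI := _root_.ZeroCyc.flat_TS (A := Γ(S, U)) (B := ChartRing W) (d := d)
  obtain ⟨k, m, y, h1, h2⟩ := Module.Flat.iff_forall_isTrivialRelation.mp inferInstance hrel
  refine ⟨0, k, m, fun j => χT (y j : (_root_.ZeroCyc.Tp Γ(S, U) (ChartRing W) d)), fun j t => ?_, fun i => ?_, h2⟩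
  · rw [hτχ, _root_.ZeroCyc.perm_eq_of_mem_TS (y j).2]
  · rw [pow_zero, one_mul, ← hεsy i]
    have := congrArg Subtype.val (h1 i)
    simp only [AddSubmonoidClass.coe_finsetSum, SetLike.val_smul] at this
    rw [this, map_sum]
    simp only [map_smul]

end Groth.Agent.SGA1QuotLib
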