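import Mathlib
import Groth.Prelude.Def_SymProd
import Groth.Agent.SGA1QuotLib.Basic
import Groth.Agent.SGA1QuotLib.SymChart

/-! Symmetric products of flat schemes are flat. -/

universe u
open CategoryTheory CategoryTheory.Limits AlgebraicGeometry Opposite TopologicalSpace

noncomputable section

namespace Groth.Agent.SGA1QuotLib

set_option linter.style.haveILetI false

theorem TrivFix.comp {R M : Type u} [CommRing R] [CommRing M] [Algebra R M] {ι ι' : Type*}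
    {τ : ι → (M →ₐ[R] M)} {c : M} (h : TrivFix τ c) (e : ι' → ι) (he : Function.Surjective e) :
    TrivFix (fun t => τ (e t)) c := fun n f x hx hfx => by
  obtain ⟨N, k, a, y, hy, h1, h2⟩ := h n f x (fun i t => by obtain ⟨t', rfl⟩ := he t; exact hx i t') hfx
  exact ⟨N, k, a, y, fun j t => hy j (e t), h1, h2⟩

variable {X : Scheme.{u}}

theorem mem_prime_iff {D : X.Opens} (hD : IsAffineOpen D) (Q : PrimeSpectrum Γ(X, D)) (f : Γ(X, D)) :
    f ∈ Q.asIdeal ↔ hD.fromSpec Q ∉ X.basicOpen f := by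
  change _ ↔ Q ∉ hD.fromSpec ⁻¹ᵁ X.basicOpen f
  rw [hD.fromSpec_preimage_basicOpen]
  exact not_not.symm

/-- Prime avoidance on an affine open. -/
theorem exists_avoid {D : X.Opens} (hD : IsAffineOpen D) (W : X.Opens) (T : Set X) (hT : T.Finite)
    (hTD : T ⊆ D) (hTW : T ⊆ W) : ∃ f : Γ(X, D), X.basicOpen f ≤ W ∧ T ⊆ X.basicOpen f := by
  classical
  rcases T.eq_empty_or_nonempty with rfl | ⟨x₀, hx₀⟩
  · exact ⟨0, by rw [Scheme.basicOpen_zero]; exact bot_le, Set.empty_subset _⟩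
  haveI : Nonempty ↥(Spec Γ(X, D)) := ⟨hD.primeIdealOf ⟨x₀, hTD hx₀⟩⟩
  choose! P hP using fun x (hx : x ∈ T) => (hD.range_fromSpec.ge (hTD hx) : x ∈ Set.range hD.fromSpec)
  obtain ⟨J, hJ⟩ := (PrimeSpectrum.isClosed_iff_zeroLocus_ideal _).1
    ((W.2.isClosed_compl).preimage hD.fromSpec.continuous)
  have hnot : ¬ ((J : Set Γ(X, D)) ⊆ ⋃ x ∈ (↑hT.toFinset : Set X), ((P x).asIdeal : Set Γ(X, D))) := by
    intro hc
    obtain ⟨x, hx, hle⟩ := (Ideal.subset_union_prime (s := hT.toFinset) (f := fun x => (P x).asIdeal)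
      x₀ x₀ fun x _ _ _ => (P x).isPrime).1 hc
    have hx' : x ∈ T := hT.mem_toFinset.1 hx
    have : P x ∈ PrimeSpectrum.zeroLocus (J : Set Γ(X, D)) := hle
    rw [← hJ] at this
    exact this (by rw [hP x hx']; exact hTW hx')
  obtain ⟨f, hfJ, hf⟩ := Set.not_subset.1 hnot
  refine ⟨f, fun x hx => by_contra fun hxW => ?_, fun x hx => ?_⟩
  · obtain ⟨Q, rfl⟩ := (hD.range_fromSpec.ge (X.basicOpen_le f hx) : x ∈ Set.range hD.fromSpec)
    have : Q ∈ PrimeSpectrum.zeroLocus (J : Set Γ(X, D)) := hJ ▸ hxW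
    exact (mem_prime_iff hD Q f).1 (this hfJ) hx
  · by_contra h
    refine hf (Set.mem_biUnion (hT.mem_toFinset.2 hx) ((mem_prime_iff hD (P x) f).2 ?_))
    rwa [hP x hx]

theorem mem_basicOpen_prod {D : X.Opens} (hD : IsAffineOpen D) {ι : Type*} (s : Finset ι)
    (f : ι → Γ(X, D)) {x : X} (hx : x ∈ D) :
    x ∈ X.basicOpen (∏ i ∈ s, f i) ↔ ∀ i ∈ s, x ∈ X.basicOpen (f i) := by
  obtain ⟨Q, rfl⟩ := (hD.range_fromSpec.ge hx : x ∈ Set.range hD.fromSpec)
  rw [← not_iff_not, ← mem_prime_iff hD, Q.isPrime.prod_mem_iff]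
  simp only [mem_prime_iff hD, not_forall, exists_prop]

variable {G : Type u} [Group G] (ρ : G →* Aut X)

/-- A stable open for a subgroup. -/
def StabBy (H : Subgroup G) (W : X.Opens) : Prop := ∀ g ∈ H, W ≤ (ρ g).hom ⁻¹ᵁ W

theorem appLE_hom_mul {W : X.Opens} (g h : G) (eg : W ≤ (ρ g).hom ⁻¹ᵁ W) (eh : W ≤ (ρ h).hom ⁻¹ᵁ W)
    (egh : W ≤ (ρ (g * h)).hom ⁻¹ᵁ W) (s : Γ(X, W)) :
    ((ρ h).hom.appLE W W eh).hom (((ρ g).hom.appLE W W eg).hom s) =
      ((ρ (g * h)).hom.appLE W W egh).hom s := by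
  change ((ρ g).hom.appLE W W eg ≫ (ρ h).hom.appLE W W eh).hom s = _
  rw [Scheme.Hom.appLE_comp_appLE]
  simp only [hom_mul]

theorem stable_basicOpen {D : X.Opens} {c : Γ(X, D)} (σ : X ⟶ X) (e : D ≤ σ ⁻¹ᵁ D)
    (h : (σ.appLE D D e).hom c = c) : X.basicOpen c ≤ σ ⁻¹ᵁ X.basicOpen c := by
  conv_lhs => rw [← h, Scheme.basicOpen_appLE]
  exact inf_le_right

/-- An invariant function on an affine stable open, nonzero at `x` with small basic open. -/
theorem exists_invariant [Finite G] (H : Subgroup G) {D : X.Opens} (hD : IsAffineOpen D)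
    (hDs : StabBy ρ H D) (W : X.Opens) (hWs : StabBy ρ H W) {x : X} (hxD : x ∈ D) (hxW : x ∈ W) :
    ∃ c : Γ(X, D), (∀ g (hg : g ∈ H), ((ρ g).hom.appLE D D (hDs g hg)).hom c = c) ∧
      x ∈ X.basicOpen c ∧ X.basicOpen c ≤ W := by
  classical
  cases nonempty_fintype H
  obtain ⟨f, hfW, hfT⟩ := exists_avoid hD W (Set.range fun h : H => (ρ (h : G)).hom.base x)
    (Set.finite_range _) (by rintro _ ⟨h, rfl⟩; exact hDs _ h.2 hxD)
    (by rintro _ ⟨h, rfl⟩; exact hWs _ h.2 hxW)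
  let F : H → Γ(X, D) := fun h => ((ρ (h : G)).hom.appLE D D (hDs _ h.2)).hom f
  refine ⟨∏ h : H, F h, fun g hg => ?_, ?_, fun y hy => ?_⟩
  · rw [map_prod]
    refine Fintype.prod_equiv (Equiv.mulRight ⟨g, hg⟩) _ _ fun h => ?_
    exact appLE_hom_mul ρ _ _ _ _ (hDs _ (mul_mem h.2 hg)) f
  · refine (mem_basicOpen_prod hD _ _ hxD).2 fun h _ => ?_
    rw [Scheme.basicOpen_appLE]
    exact ⟨hxD, hfT ⟨h, rfl⟩⟩
  · have h1 := (mem_basicOpen_prod hD _ _ (X.basicOpen_le _ hy)).1 hy 1 (Finset.mem_univ _)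
    rw [Scheme.basicOpen_appLE] at h1
    refine hfW ?_
    have e1 : (ρ ((1 : H) : G)).hom = 𝟙 X := by rw [OneMemClass.coe_one, map_one]; rfl
    have h2 : (ρ ((1 : H) : G)).hom.base y ∈ X.basicOpen f := h1.2
    rwa [e1] at h2

theorem eq_of_specializes [Finite G] (k : G) {x : X} (h : (ρ k).hom.base x ⤳ x) :
    (ρ k).hom.base x = x := by
  have hm : ∀ a b : G, (ρ a).hom.base ((ρ b).hom.base x) = (ρ (a * b)).hom.base x := fun a b => by
    rw [hom_mul]; rfl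
  have hn : ∀ n : ℕ, (ρ (k ^ n)).hom.base x ⤳ x := fun n => by
    induction n with
    | zero => rw [pow_zero, map_one]; exact specializes_rfl
    | succ n ih =>
      rw [pow_succ', ← hm]
      exact (ih.map (ρ k).hom.continuous).trans h
  obtain ⟨n, hn0, hn1⟩ := isOfFinOrder_iff_pow_eq_one.1 (isOfFinOrder_of_finite k)
  obtain ⟨m, rfl⟩ : ∃ m, n = m + 1 := ⟨n - 1, by omega⟩
  have h' := (hn m).map (ρ k).hom.continuous
  rw [hm, ← pow_succ', hn1, map_one] at h'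
  exact (h.antisymm h').eq

variable {S : Scheme.{u}} (b : X ⟶ S) {U : S.Opens}

/-- Sections over a stable open, as algebra endomorphisms. -/
def secHom {W : X.Opens} (hW : W ≤ b ⁻¹ᵁ U) (σ : X ⟶ X) (hσ : σ ≫ b = b) (e : W ≤ σ ⁻¹ᵁ W) :
    letI := (b.appLE U W hW).hom.toAlgebra
    Γ(X, W) →ₐ[Γ(S, U)] Γ(X, W) :=
  letI := (b.appLE U W hW).hom.toAlgebra
  { (σ.appLE W W e).hom with
    commutes' := fun r => by
      change (b.appLE U W hW ≫ σ.appLE W W e).hom r = (b.appLE U W hW).hom r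
      rw [Scheme.Hom.appLE_comp_appLE]
      simp only [hσ] }

theorem secHom_map {W W' : X.Opens} (h : W' ≤ W) (σ : X ⟶ X) (e : W ≤ σ ⁻¹ᵁ W) (e' : W' ≤ σ ⁻¹ᵁ W')
    (s : Γ(X, W)) :
    (X.presheaf.map (homOfLE h).op).hom ((σ.appLE W W e).hom s) =
      (σ.appLE W' W' e').hom ((X.presheaf.map (homOfLE h).op).hom s) := by
  have h1 : σ.appLE W W e ≫ X.presheaf.map (homOfLE h).op =
      X.presheaf.map (homOfLE h).op ≫ σ.appLE W' W' e' := by
    rw [Scheme.Hom.map_appLE, Scheme.Hom.appLE_map]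
  exact congrArg (fun m => m.hom s) h1

theorem exists_principal [Finite G] (H : Subgroup G) {O D : X.Opens} (hO : IsAffineOpen O)
    (hD : IsAffineOpen D) (hOs : StabBy ρ H O) (hDs : StabBy ρ H D) {x : X}
    (hxO : x ∈ O) (hxD : x ∈ D) (hstab : ∀ g, (ρ g).hom.base x = x → g ∈ H) :
    ∃ (c : Γ(X, D)) (n : Γ(X, O)),
      (∀ g (hg : g ∈ H), ((ρ g).hom.appLE D D (hDs g hg)).hom c = c) ∧
      (∀ g (hg : g ∈ H), ((ρ g).hom.appLE O O (hOs g hg)).hom n = n) ∧
      X.basicOpen c = X.basicOpen n ∧ x ∈ X.basicOpen c ∧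
      ∀ g ∉ H, (ρ g⁻¹).hom.base x ∉ X.basicOpen c := by
  classical
  cases nonempty_fintype G
  have hhm : ∀ a c : G, (ρ a).hom.base ((ρ c).hom.base x) = (ρ (a * c)).hom.base x := fun a c => by
    rw [hom_mul]; rfl
  let T : Set X := (fun g => (ρ g).hom.base x) '' {g | g ∉ H}
  have hT : T.Finite := Set.toFinite _
  let W₀ : X.Opens := ⟨((O : Set X)) ∩ ⋂ h : H, (ρ (h : G)).hom.base ⁻¹' (closure T)ᶜ,
    O.2.inter (isOpen_iInter_of_finite fun h => isClosed_closure.isOpen_compl.preimage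
      (Scheme.Hom.continuous _))⟩
  have hW₀ : StabBy ρ H W₀ := fun g hg y hy => by
    refine ⟨hOs g hg hy.1, Set.mem_iInter.2 fun h => ?_⟩
    have := Set.mem_iInter.1 hy.2 ⟨(h : G) * g, H.mul_mem h.2 hg⟩
    simp only [Set.mem_preimage] at this ⊢
    rwa [hom_mul, Scheme.Hom.comp_base, TopCat.coe_comp] at this
  have hxW₀ : x ∈ W₀ := ⟨hxO, Set.mem_iInter.2 fun h hcl => by
    rw [← Set.biUnion_of_singleton T, hT.closure_biUnion] at hcl
    obtain ⟨y, ⟨g, hg, rfl⟩, hy⟩ := Set.mem_iUnion₂.1 hcl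
    have hy' := ((specializes_iff_mem_closure).2 hy).map (ρ (h : G)⁻¹).hom.continuous
    rw [hhm, hhm, inv_mul_cancel, map_one] at hy'
    exact hg (by
      have := H.mul_mem h.2 (hstab _ (eq_of_specializes ρ _ hy'))
      rwa [mul_inv_cancel_left] at this)⟩
  obtain ⟨c₁, hc₁fix, hxc₁, hc₁⟩ := exists_invariant ρ H hD hDs W₀ hW₀ hxD hxW₀
  have hE : StabBy ρ H (X.basicOpen c₁) := fun g hg => stable_basicOpen _ (hDs g hg) (hc₁fix g hg)
  obtain ⟨n, hn, hxn, hnE⟩ := exists_invariant ρ H hO hOs (X.basicOpen c₁) hE hxO hxc₁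
  have hN : StabBy ρ H (X.basicOpen n) := fun g hg => stable_basicOpen _ (hOs g hg) (hn g hg)
  -- `D(n)` is principal in `D`
  letI : Algebra Γ(X, D) Γ(X, X.basicOpen c₁) :=
    (X.presheaf.map (homOfLE (X.basicOpen_le c₁)).op).hom.toAlgebra
  haveI : IsLocalization.Away c₁ Γ(X, X.basicOpen c₁) := hD.isLocalization_basicOpen c₁
  have hEO : X.basicOpen c₁ ≤ O := fun y hy => (hc₁ hy).1
  obtain ⟨k, y, hy⟩ := IsLocalization.Away.surj c₁ ((X.presheaf.map (homOfLE hEO).op).hom n)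
  have hcy : X.basicOpen (c₁ * y) = X.basicOpen n := by
    have e1 : X.basicOpen ((algebraMap Γ(X, D) Γ(X, X.basicOpen c₁)) y) =
        X.basicOpen c₁ ⊓ X.basicOpen y := Scheme.basicOpen_res X y (homOfLE (X.basicOpen_le c₁)).op
    have hu : IsUnit ((algebraMap Γ(X, D) Γ(X, X.basicOpen c₁)) c₁ ^ k) :=
      (IsLocalization.Away.algebraMap_isUnit c₁).pow k
    rw [Scheme.basicOpen_mul, ← e1, ← hy, Scheme.basicOpen_mul, Scheme.basicOpen_of_isUnit _ hu,
      Scheme.basicOpen_res]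
    rw [inf_eq_right.2 hnE, inf_eq_left.2 hnE]
  let c : Γ(X, D) := ∏ h : H, ((ρ (h : G)).hom.appLE D D (hDs _ h.2)).hom (c₁ * y)
  have hcfix : ∀ g (hg : g ∈ H), ((ρ g).hom.appLE D D (hDs g hg)).hom c = c := fun g hg => by
    rw [map_prod]
    refine Fintype.prod_equiv (Equiv.mulRight ⟨g, hg⟩) _ _ fun h => ?_
    exact appLE_hom_mul ρ _ _ _ _ (hDs _ (mul_mem h.2 hg)) _
  have hcn : X.basicOpen c = X.basicOpen n := by
    refine le_antisymm (fun z hz => ?_) fun z hz => ?_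
    · have h1 := (mem_basicOpen_prod hD _ _ (X.basicOpen_le _ hz)).1 hz 1 (Finset.mem_univ _)
      rw [Scheme.basicOpen_appLE, hcy] at h1
      have h2 : (ρ ((1 : H) : G)).hom.base z ∈ X.basicOpen n := h1.2
      have e1 : (ρ ((1 : H) : G)).hom = 𝟙 X := by rw [OneMemClass.coe_one, map_one]; rfl
      rwa [e1] at h2
    · refine (mem_basicOpen_prod hD _ _ (X.basicOpen_le _ (hnE hz))).2 fun h _ => ?_
      rw [Scheme.basicOpen_appLE, hcy]
      exact ⟨X.basicOpen_le _ (hnE hz), hN _ h.2 hz⟩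
  refine ⟨c, n, hcfix, hn, hcn, hcn ▸ hxn, fun g hg hmem => ?_⟩
  · have h1 := Set.mem_iInter.1 (hc₁ (hnE (hcn ▸ hmem))).2 1
    refine h1 (subset_closure ?_)
    refine ⟨g⁻¹, fun hgi => hg (by simpa using H.inv_mem hgi), ?_⟩
    rw [OneMemClass.coe_one, map_one]
    rfl

theorem trivFix_transport [Finite G] (H : Subgroup G) (hρ : ∀ g, (ρ g).hom ≫ b = b)
    {O D : X.Opens} (hO : IsAffineOpen O) (hD : IsAffineOpen D)
    (hOb : O ≤ b ⁻¹ᵁ U) (hDb : D ≤ b ⁻¹ᵁ U) (hOs : StabBy ρ H O) (hDs : StabBy ρ H D) {x : X}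
    (hxO : x ∈ O) (hxD : x ∈ D) (hstab : ∀ g, (ρ g).hom.base x = x → g ∈ H)
    (h : letI := (b.appLE U O hOb).hom.toAlgebra
      TrivFix (fun t : H => secHom b hOb (ρ t⁻¹).hom (hρ _) (hOs _ (t⁻¹).2)) 1) :
    letI := (b.appLE U D hDb).hom.toAlgebra
    ∃ c : Γ(X, D), (∀ g (hg : g ∈ H), ((ρ g⁻¹).hom.appLE D D (hDs _ (H.inv_mem hg))).hom c = c) ∧
      x ∈ X.basicOpen c ∧ (∀ g ∉ H, (ρ g⁻¹).hom.base x ∉ X.basicOpen c) ∧
      TrivFix (fun t : H => secHom b hDb (ρ t⁻¹).hom (hρ _) (hDs _ (t⁻¹).2)) c := by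
  classical
  letI := (b.appLE U O hOb).hom.toAlgebra
  letI := (b.appLE U D hDb).hom.toAlgebra
  obtain ⟨c, n, hcfix, hn, hcn, hxc, hgc⟩ := exists_principal ρ H hO hD hOs hDs hxO hxD hstab
  have hN : StabBy ρ H (X.basicOpen n) := fun g hg => stable_basicOpen _ (hOs g hg) (hn g hg)
  refine ⟨c, fun g hg => hcfix _ (H.inv_mem hg), hxc, hgc, ?_⟩
  -- transport
  have hNb : X.basicOpen n ≤ b ⁻¹ᵁ U := (X.basicOpen_le n).trans hOb
  have hND : X.basicOpen n ≤ D := hcn ▸ X.basicOpen_le c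
  letI := (b.appLE U (X.basicOpen n) hNb).hom.toAlgebra
  let φO : Γ(X, O) →ₐ[Γ(S, U)] Γ(X, X.basicOpen n) :=
    { (X.presheaf.map (homOfLE (X.basicOpen_le n)).op).hom with
      commutes' := fun r => by
        change (b.appLE U O hOb ≫ X.presheaf.map (homOfLE (X.basicOpen_le n)).op).hom r = _
        rw [Scheme.Hom.appLE_map]
        rfl }
  let φD : Γ(X, D) →ₐ[Γ(S, U)] Γ(X, X.basicOpen n) :=
    { (X.presheaf.map (homOfLE hND).op).hom with
      commutes' := fun r => by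
        change (b.appLE U D hDb ≫ X.presheaf.map (homOfLE hND).op).hom r = _
        rw [Scheme.Hom.appLE_map]
        rfl }
  let τN : H → (Γ(X, X.basicOpen n) →ₐ[Γ(S, U)] Γ(X, X.basicOpen n)) := fun t =>
    secHom b hNb (ρ (t : G)⁻¹).hom (hρ _) (hN _ (H.inv_mem t.2))
  have hloc : ∀ {V : X.Opens} (hV : IsAffineOpen V) (v : Γ(X, V)) (e : X.basicOpen n = X.basicOpen v)
      (hle : X.basicOpen n ≤ V) (φ : Γ(X, V) →+* Γ(X, X.basicOpen n)),
      φ = (X.presheaf.map (homOfLE hle).op).hom →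
      (∀ z, φ z = 0 → ∃ j : ℕ, v ^ j * z = 0) ∧
      (∀ l, ∃ (m : ℕ) (w : Γ(X, V)), φ v ^ m * l = φ w) ∧ IsUnit (φ v) := fun hV v e hle φ hφ => by
    letI := (X.presheaf.map (homOfLE hle).op).hom.toAlgebra
    haveI := hV.isLocalization_of_eq_basicOpen v (homOfLE hle) e
    subst hφ
    refine ⟨fun z hz => ?_, fun l => ?_, IsLocalization.Away.algebraMap_isUnit v⟩
    · obtain ⟨⟨_, j, rfl⟩, hj⟩ := (IsLocalization.map_eq_zero_iff (Submonoid.powers v) _ z).1 hz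
      exact ⟨j, hj⟩
    · obtain ⟨m, w, hw⟩ := IsLocalization.Away.surj v l
      exact ⟨m, w, by rw [mul_comm]; exact hw⟩
  obtain ⟨hO1, hO2, hO3⟩ := hloc hO n rfl (X.basicOpen_le n) φO.toRingHom rfl
  obtain ⟨hD1, hD2, -⟩ := hloc hD c hcn.symm hND φD.toRingHom rfl
  exact trivFix_of_loc φD (fun t => hcfix _ (H.inv_mem t.2)) (fun t m => secHom_map _ _ _ _ m) hD1 hD2
    (trivFix_loc (τ' := τN) φO (fun t => hn _ (H.inv_mem t.2)) (fun t m => secHom_map _ _ _ _ m)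
      hO1 hO2 hO3 h)

/-- Symmetric products of flat schemes are flat. -/
theorem flat_of_isSymProd {X S P : Scheme.{u}} (f : X ⟶ S) [Flat f] (d : ℕ)
    (q : SymProd.fibPow f d ⟶ P) (pP : P ⟶ S) (hq : SymProd.IsSymProd f d q pP) : Flat pP := by
  refine ⟨fun {U} hU {V} hV hVU => ?_⟩
  haveI := hq.isQuot.affine
  set b := WidePullback.base (fun _ : Fin d => f) with hb
  let ρ := SymProd.permActU f d
  have hD : IsAffineOpen (q ⁻¹ᵁ V) := hV.preimage q
  have hρb : ∀ g, (ρ g).hom ≫ b = b := fun g => SymProd.permHom_base f d g.down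
  have hDb : q ⁻¹ᵁ V ≤ b ⁻¹ᵁ U := fun z hz => by
    rw [hb, ← hq.over]
    exact hVU hz
  let D := q ⁻¹ᵁ V
  letI := (pP.appLE U V hVU).hom.toAlgebra
  letI := (b.appLE U D hDb).hom.toAlgebra
  letI := action hq.isQuot V
  have hcomp : ∀ r, algebraMap Γ(S, U) Γ(SymProd.fibPow f d, D) r =
      (q.app V).hom (algebraMap Γ(S, U) Γ(P, V) r) := fun r => by
    change (b.appLE U D hDb).hom r = (pP.appLE U V hVU ≫ q.app V).hom r
    rw [Scheme.Hom.app_eq_appLE, Scheme.Hom.appLE_comp_appLE]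
    simp only [hq.over, ← hb]
    rfl
  haveI : SMulCommClass (ULift.{u} (Equiv.Perm (Fin d))) Γ(S, U) Γ(SymProd.fibPow f d, D) :=
    ⟨fun g r m => by
      rw [Algebra.smul_def, Algebra.smul_def, smul_mul', hcomp]
      exact congrArg (· * g • m) (act_app hq.isQuot V g⁻¹ _)⟩
  haveI : Module.Flat Γ(S, U) (FixedPoints.subalgebra Γ(S, U) Γ(SymProd.fibPow f d, D)
      (ULift.{u} (Equiv.Perm (Fin d)))) := by
    refine flat_fixed fun Q => ?_
    set x := hD.fromSpec Q with hx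
    have hxD : x ∈ D := hD.range_fromSpec.le ⟨Q, rfl⟩
    let κ : Type u := Set.range fun i : Fin d => (WidePullback.π (fun _ : Fin d => f) i).base x
    let a : Fin d → κ := fun i => ⟨(WidePullback.π (fun _ : Fin d => f) i).base x, ⟨i, rfl⟩⟩
    have hxU : b.base x ∈ U := hDb hxD
    have hk : ∀ k : κ, ∃ W : X.Opens, IsAffineOpen W ∧ k.1 ∈ W ∧ W ≤ f ⁻¹ᵁ U := fun k => by
      obtain ⟨i, hi⟩ := k.2
      obtain ⟨W, hW, hkW, hWU⟩ := exists_isAffineOpen_mem_and_subset (U := f ⁻¹ᵁ U) (x := k.1) (by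
        change f.base k.1 ∈ U
        rw [← hi, ← Scheme.Hom.comp_apply, WidePullback.π_arrow]
        exact hxU)
      exact ⟨W, hW, hkW, hWU⟩
    choose W hW hkW hWU using hk
    obtain ⟨hO, hOT⟩ := trivFix_of_chart f W U a hU hW hWU
    let H : Subgroup (ULift.{u} (Equiv.Perm (Fin d))) := (colourStab a).comap MulEquiv.ulift.toMonoidHom
    have hOs : StabBy ρ H (chartOpen f W U a) := fun g hg => chartOpen_stable f W U a hg
    have hDs : StabBy ρ H D := fun g _ => SGA1.preimage_le_of_inv ρ q hq.isQuot.inv g V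
    have hxO : x ∈ chartOpen f W U a := (mem_chartOpen f W U a).2 ⟨hxU, fun i => hkW (a i)⟩
    have hstab : ∀ g, (ρ g).hom.base x = x → g ∈ H := fun g hg => by
      refine (Subgroup.inv_mem_iff _).1 fun i => Subtype.ext ?_
      change (WidePullback.π (fun _ : Fin d => f) (g.down.symm i)).base x = _
      rw [← SymProd.permHom_π f d g.down i, Scheme.Hom.comp_apply]
      exact congrArg (fun z => (WidePullback.π (fun _ : Fin d => f) i).base z) hg
    obtain ⟨c, hc, hxc, hgc, hT⟩ := trivFix_transport ρ b H hρb hO hD (chartOpen_le_base f W U a)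
      hDb hOs hDs hxO hxD hstab (by
        letI := (b.appLE U (chartOpen f W U a) (chartOpen_le_base f W U a)).hom.toAlgebra
        have h0 := hOT (fun t => secHom b (chartOpen_le_base f W U a) (SymProd.permHom f d t)
          (SymProd.permHom_base f d _) (chartOpen_stable f W U a t.2)) fun t s => rfl
        exact h0.comp (fun t : H => (⟨((t⁻¹ : H) : ULift.{u} (Equiv.Perm (Fin d))).down,
            (t⁻¹).2⟩ : colourStab a))
          fun t => ⟨⟨⟨((t⁻¹ : colourStab a) : Equiv.Perm (Fin d))⟩, (t⁻¹).2⟩, Subtype.ext (inv_inv _)⟩)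
    refine ⟨H, c, fun g hg => hc g hg, fun h => (mem_prime_iff hD Q c).1 h hxc, fun g hg => ?_, hT⟩
    refine (mem_prime_iff hD Q _).2 fun hmem => hgc g hg ?_
    change x ∈ (SymProd.fibPow f d).basicOpen (((ρ g⁻¹).hom.appLE D D _).hom c) at hmem
    rw [Scheme.basicOpen_appLE] at hmem
    exact hmem.2
  let L : Γ(P, V) →ₐ[Γ(S, U)] FixedPoints.subalgebra Γ(S, U) Γ(SymProd.fibPow f d, D)
      (ULift.{u} (Equiv.Perm (Fin d))) :=
    AlgHom.codRestrict { (q.app V).hom with commutes' := fun r => (hcomp r).symm } _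
      fun p g => act_app hq.isQuot V g⁻¹ p
  have hbij : Function.Bijective L := ⟨fun p p' h => hq.isQuot.injective V (congrArg Subtype.val h),
    fun m => by
      obtain ⟨p, hp⟩ := (hq.isQuot.range_iff V m.1).2 fun g => by
        have : act hq.isQuot V (g⁻¹)⁻¹ m.1 = m.1 := m.2 g⁻¹
        rwa [inv_inv] at this
      exact ⟨p, Subtype.ext hp⟩⟩
  exact Module.Flat.of_linearEquiv (LinearEquiv.ofBijective L.toLinearMap hbij)

end Groth.Agent.SGA1QuotLib
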