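import Mathlib
import Groth.Prelude.Def_SymTen
import Groth.Agent.ZeroCyc.Flat

/-! Symmetric tensors of a flat base change come from symmetric tensors below. -/

universe u
open scoped TensorProduct

noncomputable section

namespace Groth.Agent.SGA1QuotLib

set_option linter.style.haveILetI false

variable {R : Type u} [CommRing R] (R' : Type u) [CommRing R'] [Algebra R R'] {B : Type u} [CommRing B]
  [Algebra R B] {d : ℕ}

open _root_.ZeroCyc in
theorem fixed_mem_span_image {B₁ : Type u} [CommRing B₁] [Algebra R B₁] (π : B₁ →ₐ[R] B)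
    (hπ : Function.Surjective π) [Module.Flat R' (R' ⊗[R] B)] (z : R' ⊗[R] Tp R B d)
    (hz : ∀ σ, (SymTen.perm R B d σ).toLinearMap.lTensor R' z = z) :
    z ∈ Submodule.span R' ((fun t => (1 : R') ⊗ₜ[R] PiTensorProduct.map (fun _ => π.toLinearMap) t) ''
      (SymTen.TS R B₁ d : Set (Tp R B₁ d))) := by
  classical
  let B' := R' ⊗[R] B
  let ι : B →ₐ[R] B' := Algebra.TensorProduct.includeRight
  let ι' : Tp R B d →ₐ[R] Tp R' B' d := PiTensorProduct.liftAlgHom
    (((PiTensorProduct.tprod R' (s := fun _ : Fin d => B')).restrictScalars R).compLinearMap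
      fun _ => ι.toLinearMap)
    (by simp [PiTensorProduct.one_def]; rfl)
    (fun x y => by simp [PiTensorProduct.tprod_mul_tprod]; rfl)
  have hι' : ∀ b : Fin d → B, ι' (PiTensorProduct.tprod R b) =
      PiTensorProduct.tprod R' (fun l => (1 : R') ⊗ₜ[R] b l) := fun b => by
    simp [ι', ι, PiTensorProduct.liftAlgHom]
    rfl
  let Φ : R' ⊗[R] Tp R B d →ₗ[R'] Tp R' B' d := ι'.toLinearMap.liftBaseChange R'
  have hΦ : ∀ r t, Φ (r ⊗ₜ t) = r • ι' t := fun r t => by simp [Φ]
  let Ψ : Tp R' B' d →ₗ[R'] R' ⊗[R] Tp R B d :=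
    PiTensorProduct.lift ((MultilinearMap.mkPiAlgebra R' (Fin d) (R' ⊗[R] Tp R B d)).compLinearMap
      fun l => (slot (A := R) (B := B) l).toLinearMap.baseChange R')
  have hΨ : ∀ b : Fin d → B, Ψ (PiTensorProduct.tprod R' (fun l => (1 : R') ⊗ₜ[R] b l)) =
      (1 : R') ⊗ₜ[R] PiTensorProduct.tprod R b := fun b => by
    rw [_root_.ZeroCyc.tprod_eq_prod b]
    simp only [Ψ, PiTensorProduct.lift.tprod, MultilinearMap.compLinearMap_apply,
      MultilinearMap.mkPiAlgebra_apply, LinearMap.baseChange_tmul, AlgHom.toLinearMap_apply]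
    exact (map_prod (Algebra.TensorProduct.includeRight : Tp R B d →ₐ[R] R' ⊗[R] Tp R B d) _ _).symm
  have hinj : Function.Injective Φ := by
    have h : ∀ w, Ψ (Φ w) = w := fun w => by
      induction w with
      | zero => simp
      | add x y hx hy => simp only [map_add, hx, hy]
      | tmul r t =>
        induction t using PiTensorProduct.induction_on with
        | smul_tprod c b =>
          rw [hΦ, map_smul, map_smul ι', hι', ← algebraMap_smul R' c
              (PiTensorProduct.tprod R' fun l => (1 : R') ⊗ₜ[R] b l : Tp R' B' d), map_smul, hΨ,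
            algebraMap_smul, ← TensorProduct.tmul_smul, TensorProduct.smul_tmul', smul_eq_mul, mul_one]
        | add x y hx hy => simp only [TensorProduct.tmul_add, map_add, hx, hy]
    exact fun x y e => by rw [← h x, ← h y, e]
  -- the image is symmetric
  have hperm : ∀ σ w, Φ ((SymTen.perm R B d σ).toLinearMap.lTensor R' w) = permL R' B' d σ (Φ w) := by
    intro σ w
    induction w with
    | zero => simp
    | add x y hx hy => simp only [map_add, hx, hy]
    | tmul r t =>
      rw [LinearMap.lTensor_tmul, hΦ, hΦ, map_smul, AlgHom.toLinearMap_apply]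
      congr 1
      induction t using PiTensorProduct.induction_on with
      | smul_tprod c b =>
        rw [map_smul, SymTen.perm_tprod, map_smul, map_smul, hι', hι', ← algebraMap_smul R' c,
          ← algebraMap_smul R' c, map_smul, permL_tprod]
      | add x y hx hy => simp only [map_add, hx, hy]
  have ht : ∀ σ, permL R' B' d σ (Φ z) = Φ z := fun σ => by rw [← hperm, hz]
  -- lift to a finite free module
  have hfin : ∀ u : Tp R' B' d, ∃ (n : ℕ) (g : (Fin n → R') →ₗ[R'] B'),
      u ∈ LinearMap.range (PiTensorProduct.map (fun _ : Fin d => g)) := by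
    intro u
    induction u using PiTensorProduct.induction_on with
    | smul_tprod c b =>
      refine ⟨d, (Pi.basisFun R' (Fin d)).constr R' b,
        c • PiTensorProduct.tprod R' (fun l => Pi.basisFun R' (Fin d) l), ?_⟩
      simp [PiTensorProduct.map_tprod]
    | add x y hx hy =>
      obtain ⟨n, g, hx⟩ := hx
      obtain ⟨m, g', hy⟩ := hy
      let e := (LinearEquiv.sumArrowLequivProdArrow (Fin n) (Fin m) R' R').symm.trans
        (LinearEquiv.funCongrLeft R' R' finSumFinEquiv.symm)
      refine ⟨n + m, g.coprod g' ∘ₗ e.symm.toLinearMap, ?_⟩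
      have h1 : ∀ {k : ℕ} (i : (Fin k → R') →ₗ[R'] ((Fin n → R') × (Fin m → R')))
          (h : (Fin k → R') →ₗ[R'] B'), g.coprod g' ∘ₗ i = h →
          ∀ w ∈ LinearMap.range (PiTensorProduct.map (fun _ : Fin d => h)),
            w ∈ LinearMap.range (PiTensorProduct.map
              (fun _ : Fin d => g.coprod g' ∘ₗ e.symm.toLinearMap)) := by
        rintro k i h hih w ⟨v, rfl⟩
        refine ⟨PiTensorProduct.map (fun _ : Fin d => e.toLinearMap ∘ₗ i) v, ?_⟩
        rw [← LinearMap.comp_apply, ← PiTensorProduct.map_comp]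
        congr 2
        funext l
        rw [← hih]
        ext x <;> simp
      exact add_mem (h1 (LinearMap.inl R' _ _) g (by ext x; simp) x hx)
        (h1 (LinearMap.inr R' _ _) g' (by ext x; simp) y hy)
  obtain ⟨n, g, u, hu⟩ := hfin (Φ z)
  obtain ⟨m, a, g', hga, ha⟩ := exists_factor g (Finset.univ : Finset (Equiv.Perm (Fin d)))
    (fun σ => permL R' _ d σ u - u) (fun σ _ => by
      rw [map_sub, permL_map_apply, hu, ht σ, sub_self])
  -- through the elements `1 ⊗ b`
  have hspan : ∀ w : B', ∃ s : Finset B, w ∈ Submodule.span R' ((fun b => (1 : R') ⊗ₜ[R] b) '' (s : Set B)) := by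
    intro (w : R' ⊗[R] B)
    induction w with
    | zero => exact ⟨∅, zero_mem _⟩
    | add x y hx hy =>
      obtain ⟨s, hs⟩ := hx
      obtain ⟨s', hs'⟩ := hy
      exact ⟨s ∪ s', add_mem (Submodule.span_mono (by simp [Set.image_union]) hs)
        (Submodule.span_mono (by simp [Set.image_union]) hs')⟩
    | tmul r b =>
      refine ⟨{b}, ?_⟩
      rw [← mul_one r, ← smul_eq_mul, ← TensorProduct.smul_tmul']
      exact Submodule.smul_mem _ _ (Submodule.subset_span ⟨b, by simp, rfl⟩)
  choose s hs using fun j : Fin m => hspan (g' (Pi.basisFun R' (Fin m) j))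
  let S : Finset B := Finset.univ.biUnion s
  let bS : S → B := Subtype.val
  choose lf hlf using fun k : S => hπ (bS k)
  let p : (S → R') →ₗ[R'] B' := (Pi.basisFun R' S).constr R' fun k => (1 : R') ⊗ₜ[R] bS k
  have hp : ∀ j, g' (Pi.basisFun R' (Fin m) j) ∈ LinearMap.range p := fun j => by
    rw [Module.Basis.constr_range]
    refine Submodule.span_mono ?_ (hs j)
    rintro _ ⟨b, hb, rfl⟩
    exact ⟨⟨b, Finset.mem_biUnion.2 ⟨j, Finset.mem_univ _, hb⟩⟩, rfl⟩
  choose pre hpre using hp
  let h : (Fin m → R') →ₗ[R'] (S → R') := (Pi.basisFun R' (Fin m)).constr R' pre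
  have hph : p ∘ₗ h = g' := (Pi.basisFun R' (Fin m)).ext fun j => by simp [h, hpre]
  let v := PiTensorProduct.map (fun _ : Fin d => h) (PiTensorProduct.map (fun _ : Fin d => a) u)
  have hv : ∀ σ, permL R' _ d σ v = v := fun σ => by
    have := ha σ (Finset.mem_univ σ)
    rw [map_sub, sub_eq_zero] at this
    simp only [v]
    rw [← permL_map_apply, ← permL_map_apply, this]
  have hv' : PiTensorProduct.map (fun _ : Fin d => p) v = Φ z := by
    simp only [v, ← LinearMap.comp_apply, ← PiTensorProduct.map_comp, ← LinearMap.comp_assoc, hph, hga]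
    exact hu
  let TSspan := Submodule.span R' ((fun t => (1 : R') ⊗ₜ[R] PiTensorProduct.map (fun _ => π.toLinearMap) t) ''
    (SymTen.TS R B₁ d : Set (Tp R B₁ d)))
  have hmem : v ∈ (TSspan.map Φ).comap (PiTensorProduct.map (fun _ : Fin d => p)) := by
    refine mem_of_invariant (Pi.basisFun R' S) ∅ _ (fun t c₀ _ => ?_) v fun σ _ => hv σ
    let F := (Fintype.piFinset fun _ : Fin d => t).filter (fun c => wt c = wt c₀)
    refine ⟨(1 : R') ⊗ₜ[R] ∑ c ∈ F, PiTensorProduct.tprod R (fun l => bS (c l)),
      Submodule.subset_span ⟨∑ c ∈ F, PiTensorProduct.tprod R (fun l => lf (c l)),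
        mem_TS_of_perm fun σ => ?_, ?_⟩, ?_⟩
    · rw [map_sum]
      simp only [SymTen.perm_tprod]
      refine Finset.sum_nbij' (fun c => c ∘ σ.symm) (fun c => c ∘ σ) ?_ ?_ ?_ ?_ ?_
      · intro c hc
        simp only [F, Finset.mem_coe, Finset.mem_filter, Fintype.mem_piFinset] at hc ⊢
        exact ⟨fun l => hc.1 _, (wt_comp c σ.symm).trans hc.2⟩
      · intro c hc
        simp only [F, Finset.mem_coe, Finset.mem_filter, Fintype.mem_piFinset] at hc ⊢
        exact ⟨fun l => hc.1 _, (wt_comp c σ).trans hc.2⟩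
      · intro c _; funext l; simp
      · intro c _; funext l; simp
      · intro c _; rfl
    · simp only [map_sum, PiTensorProduct.map_tprod, AlgHom.toLinearMap_apply, hlf]
    · rw [hΦ, one_smul, map_sum, orbSum, map_sum]
      simp only [Finset.notMem_empty, if_false]
      refine Finset.sum_congr rfl fun c _ => ?_
      rw [hι', PiTensorProduct.map_tprod]
      congr 1
      funext l
      exact ((Pi.basisFun R' S).constr_basis R' (fun k => (1 : R') ⊗ₜ[R] bS k) (c l)).symm
  rw [Submodule.mem_comap, hv'] at hmem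
  obtain ⟨w, hw, he⟩ := hmem
  rwa [← hinj he]

open _root_.ZeroCyc in
theorem fixed_mem_span [Module.Flat R' (R' ⊗[R] B)] (z : R' ⊗[R] Tp R B d)
    (hz : ∀ σ, (SymTen.perm R B d σ).toLinearMap.lTensor R' z = z) :
    z ∈ Submodule.span R' ((fun t => (1 : R') ⊗ₜ[R] t) '' (SymTen.TS R B d : Set (Tp R B d))) := by
  have := fixed_mem_span_image R' (AlgHom.id R B) Function.surjective_id z hz
  simpa using this

end Groth.Agent.SGA1QuotLib
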