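import Mathlib
import Groth.Prelude.Def_SymProd
import Groth.Agent.SGA1QuotLib.SymFlat
import Groth.Agent.SGA1QuotLib.SpanFixed
import Groth.Agent.SGA1QuotLib.TSBaseChange

/-! Invariant sections of a base change of a fibre power come from the symmetric product. -/

universe u
open CategoryTheory CategoryTheory.Limits AlgebraicGeometry Opposite TopologicalSpace
open scoped TensorProduct

noncomputable section

namespace Groth.Agent.SGA1QuotLib

set_option linter.style.haveILetI false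

theorem spanFix_of_chart {X S : Scheme.{u}} (f : X ⟶ S) {d : ℕ} {κ : Type u} [Finite κ]
    (W : κ → X.Opens) (U : S.Opens) (a : Fin d → κ) (hU : IsAffineOpen U)
    (hW : ∀ k, IsAffineOpen (W k)) (hWU : ∀ k, W k ≤ f ⁻¹ᵁ U) (R' : Type u) [CommRing R']
    [Algebra Γ(S, U) R']
    (hflat : ∀ k, letI := (f.appLE U (W k) (hWU k)).hom.toAlgebra
      Module.Flat R' (R' ⊗[Γ(S, U)] Γ(X, W k))) :
    IsAffineOpen (chartOpen f W U a) ∧
    (letI := ((WidePullback.base (fun _ : Fin d => f)).appLE U (chartOpen f W U a)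
        (chartOpen_le_base f W U a)).hom.toAlgebra
     ∀ τ : colourStab a → (Γ(SymProd.fibPow f d, chartOpen f W U a) →ₐ[Γ(S, U)]
         Γ(SymProd.fibPow f d, chartOpen f W U a)),
      (∀ t s, τ t s = ((SymProd.permHom f d (t : Equiv.Perm (Fin d))).appLE _ _
        (chartOpen_stable f W U a t.2)).hom s) → SpanFix R' τ 1) := by
  classical
  cases nonempty_fintype κ
  obtain ⟨hO, ε, χ, hsurj, hχε, hεε, hker, hεfix, hεzero, hequiv⟩ :=
    exists_chart_presentation f W U a hU hW hWU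
  letI iW : ∀ k, Algebra Γ(S, U) Γ(X, W k) := fun k => (f.appLE U (W k) (hWU k)).hom.toAlgebra
  haveI : ∀ k, Module.Flat R' (R' ⊗[Γ(S, U)] Γ(X, W k)) := hflat
  haveI : Module.Flat R' (∀ k, R' ⊗[Γ(S, U)] Γ(X, W k)) :=
    Module.Flat.of_linearEquiv (DFinsupp.linearEquivFunOnFintype (R := R')
      (M := fun k => R' ⊗[Γ(S, U)] Γ(X, W k))).symm
  haveI : Module.Flat R' (R' ⊗[Γ(S, U)] ChartRing W) :=
    Module.Flat.of_linearEquiv (TensorProduct.piRight Γ(S, U) R' R' fun k => Γ(X, W k))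
  refine ⟨hO, ?_⟩
  letI := ((WidePullback.base (fun _ : Fin d => f)).appLE U (chartOpen f W U a)
    (chartOpen_le_base f W U a)).hom.toAlgebra
  intro τ hτ
  have hτχ := hequiv τ hτ
  intro z hz
  let pm := fun σ : Equiv.Perm (Fin d) => SymTen.perm Γ(S, U) (ChartRing W) d σ
  let χ' := χ.toLinearMap.lTensor R'
  have hpm : ∀ (σ τ : Equiv.Perm (Fin d)), pm (σ * τ) = (pm σ).comp (pm τ) := fun σ τ =>
    PiTensorProduct.algHom_ext fun i => AlgHom.ext fun b => by
      change ((SymTen.perm Γ(S, U) (ChartRing W) d (σ * τ)).comp (_root_.ZeroCyc.slot i)) b =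
        SymTen.perm Γ(S, U) (ChartRing W) d σ (((SymTen.perm Γ(S, U) (ChartRing W) d τ).comp (_root_.ZeroCyc.slot i)) b)
      rw [_root_.ZeroCyc.perm_slot, _root_.ZeroCyc.perm_slot]
      change _ = ((SymTen.perm Γ(S, U) (ChartRing W) d σ).comp (_root_.ZeroCyc.slot (τ i))) b
      rw [_root_.ZeroCyc.perm_slot]
      rfl
  have hpm' : ∀ (σ τ : Equiv.Perm (Fin d)) (u), (pm σ).toLinearMap.lTensor R' ((pm τ).toLinearMap.lTensor R' u) =
      (pm (σ * τ)).toLinearMap.lTensor R' u := fun σ τ u => by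
    rw [← LinearMap.comp_apply, ← LinearMap.lTensor_comp, hpm]
    rfl
  let e : R' ⊗[Γ(S, U)] _root_.ZeroCyc.Tp Γ(S, U) (ChartRing W) d := (1 : R') ⊗ₜ ε
  have hχe : ∀ u, χ' (e * u) = χ' u := fun u => by
    simp only [χ']
    rw [lTensor_algHom_mul, LinearMap.lTensor_tmul, AlgHom.toLinearMap_apply, hχε,
      ← Algebra.TensorProduct.one_def, one_mul]
  let s : Γ(SymProd.fibPow f d, chartOpen f W U a) →ₗ[Γ(S, U)] _root_.ZeroCyc.Tp Γ(S, U) (ChartRing W) d :=
    ((LinearMap.ker χ.toLinearMap).liftQ (LinearMap.mulLeft _ ε) fun u hu => hker u hu) ∘ₗ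
      (χ.toLinearMap.quotKerEquivOfSurjective hsurj).symm.toLinearMap
  have hs : ∀ u, s (χ u) = ε * u := fun u => by
    simp only [s, LinearMap.comp_apply, LinearEquiv.coe_coe]
    rw [show (χ.toLinearMap.quotKerEquivOfSurjective hsurj).symm (χ u) = Submodule.Quotient.mk u from
      (LinearEquiv.symm_apply_eq _).2 rfl, Submodule.liftQ_apply, LinearMap.mulLeft_apply]
  have hsχ : ∀ u, s.lTensor R' (χ' u) = e * u := fun u => by
    simp only [χ', ← LinearMap.comp_apply, ← LinearMap.lTensor_comp]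
    induction u with
    | zero => simp
    | add x y hx hy => simp only [map_add, mul_add, hx, hy]
    | tmul r m =>
      simp only [LinearMap.lTensor_tmul, LinearMap.comp_apply, AlgHom.toLinearMap_apply, hs, e,
        Algebra.TensorProduct.tmul_mul_tmul, one_mul]
  have huniq : ∀ u, χ' u = 0 → e * u = 0 := fun u hu => by rw [← hsχ, hu, map_zero]
  obtain ⟨w₀, hw₀⟩ := LinearMap.lTensor_surjective R' (g := χ.toLinearMap) hsurj z
  let w := e * w₀
  have hw : χ' w = z := (hχe w₀).trans hw₀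
  have hefix : ∀ t : colourStab a, (pm (t : Equiv.Perm (Fin d))).toLinearMap.lTensor R' e = e := fun t => by
    simp only [e, LinearMap.lTensor_tmul, AlgHom.toLinearMap_apply, pm, hεfix t]
  have hwfix : ∀ t : colourStab a, (pm (t : Equiv.Perm (Fin d))).toLinearMap.lTensor R' w = w := fun t => by
    refine sub_eq_zero.1 ?_
    have e1 : (pm (t : Equiv.Perm (Fin d))).toLinearMap.lTensor R' w - w =
        e * ((pm (t : Equiv.Perm (Fin d))).toLinearMap.lTensor R' w₀ - w₀) := by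
      simp only [w, lTensor_algHom_mul, hefix, mul_sub]
    rw [e1]
    refine huniq _ ?_
    rw [← hχe, ← e1, map_sub]
    have : χ' ((pm (t : Equiv.Perm (Fin d))).toLinearMap.lTensor R' w) =
        (τ t⁻¹).toLinearMap.lTensor R' (χ' w) := by
      simp only [χ', ← LinearMap.comp_apply, ← LinearMap.lTensor_comp]
      congr 2
      refine LinearMap.ext fun u => ?_
      simp only [LinearMap.comp_apply, AlgHom.toLinearMap_apply, hτχ, InvMemClass.coe_inv, inv_inv, pm]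
    rw [this, hw, hz, sub_self]
  cases nonempty_fintype (Equiv.Perm (Fin d) ⧸ colourStab a)
  let sy := ∑ p : Equiv.Perm (Fin d) ⧸ colourStab a, (pm p.out).toLinearMap.lTensor R' w
  have hsy : ∀ σ, (SymTen.perm Γ(S, U) (ChartRing W) d σ).toLinearMap.lTensor R' sy = sy := fun σ => by
    change (pm σ).toLinearMap.lTensor R' sy = sy
    simp only [sy, map_sum, hpm']
    refine Fintype.sum_equiv (MulAction.toPerm σ) _ _ fun p => ?_
    obtain ⟨t, ht⟩ := QuotientGroup.mk_out_eq_mul (colourStab a) (σ * p.out)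
    have hq : (σ * p.out : Equiv.Perm (Fin d)) = σ • p := by
      conv_rhs => rw [← p.out_eq]
      rfl
    rw [MulAction.toPerm_apply, ← hq, ht, ← hpm' (σ * p.out), hwfix]
  have hzsy : χ' sy = z := by
    let p₀ : Equiv.Perm (Fin d) ⧸ colourStab a := (1 : Equiv.Perm (Fin d))
    rw [← hχe, Finset.mul_sum, Finset.sum_eq_single p₀ (fun p _ hp => ?_) (by simp)]
    · obtain ⟨t, ht⟩ := QuotientGroup.mk_out_eq_mul (colourStab a) (1 : Equiv.Perm (Fin d))
      rw [show p₀.out = 1 * (t : Equiv.Perm (Fin d)) from ht, one_mul, hwfix, hχe, hw]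
    · simp only [w, lTensor_algHom_mul, e, LinearMap.lTensor_tmul, AlgHom.toLinearMap_apply,
        ← mul_assoc, Algebra.TensorProduct.tmul_mul_tmul, one_mul, pm]
      rw [hεzero p.out (fun hpH => hp ?_), TensorProduct.tmul_zero, zero_mul]
      rw [← p.out_eq]
      exact (QuotientGroup.eq).2 (by simpa using (colourStab a).inv_mem hpH)
  refine ⟨0, ?_⟩
  rw [pow_zero, ← Algebra.TensorProduct.one_def, one_mul, ← hzsy]
  have hmap := Submodule.apply_mem_span_image_of_mem_span (χ.toLinearMap.baseChange R')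
    (fixed_mem_span R' sy hsy)
  refine Submodule.span_mono ?_ hmap
  rintro _ ⟨_, ⟨t, ht, rfl⟩, rfl⟩
  refine ⟨χ t, fun σ => ?_, rfl⟩
  rw [hτχ, _root_.ZeroCyc.perm_eq_of_mem_TS ht]

section Transport

variable {X S : Scheme.{u}} {G : Type u} [Group G] (ρ : G →* Aut X) (b : X ⟶ S) {U : S.Opens}

theorem spanFix_transport [Finite G] (H : Subgroup G) (hρ : ∀ g, (ρ g).hom ≫ b = b)
    {O D : X.Opens} (hO : IsAffineOpen O) (hD : IsAffineOpen D)
    (hOb : O ≤ b ⁻¹ᵁ U) (hDb : D ≤ b ⁻¹ᵁ U) (hOs : StabBy ρ H O) (hDs : StabBy ρ H D) {x : X}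
    (hxO : x ∈ O) (hxD : x ∈ D) (hstab : ∀ g, (ρ g).hom.base x = x → g ∈ H)
    (R' : Type u) [CommRing R'] [Algebra Γ(S, U) R']
    (h : letI := (b.appLE U O hOb).hom.toAlgebra
      SpanFix R' (fun t : H => secHom b hOb (ρ t⁻¹).hom (hρ _) (hOs _ (t⁻¹).2)) 1) :
    letI := (b.appLE U D hDb).hom.toAlgebra
    ∃ c : Γ(X, D), (∀ g (hg : g ∈ H), ((ρ g⁻¹).hom.appLE D D (hDs _ (H.inv_mem hg))).hom c = c) ∧
      x ∈ X.basicOpen c ∧ (∀ g ∉ H, (ρ g⁻¹).hom.base x ∉ X.basicOpen c) ∧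
      SpanFix R' (fun t : H => secHom b hDb (ρ t⁻¹).hom (hρ _) (hDs _ (t⁻¹).2)) c := by
  classical
  letI := (b.appLE U O hOb).hom.toAlgebra
  letI := (b.appLE U D hDb).hom.toAlgebra
  obtain ⟨c, n, hcfix, hn, hcn, hxc, hgc⟩ := exists_principal ρ H hO hD hOs hDs hxO hxD hstab
  have hN : StabBy ρ H (X.basicOpen n) := fun g hg => stable_basicOpen _ (hOs g hg) (hn g hg)
  refine ⟨c, fun g hg => hcfix _ (H.inv_mem hg), hxc, hgc, ?_⟩
  have hNb : X.basicOpen n ≤ b ⁻¹ᵁ U := (X.basicOpen_le n).trans hOb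
  have hND : X.basicOpen n ≤ D := hcn ▸ X.basicOpen_le c
  letI := (b.appLE U (X.basicOpen n) hNb).hom.toAlgebra
  letI := (X.presheaf.map (homOfLE (X.basicOpen_le n)).op).hom.toAlgebra
  haveI : IsScalarTower Γ(S, U) Γ(X, O) Γ(X, X.basicOpen n) := IsScalarTower.of_algebraMap_eq' (by
    change _ = (b.appLE U O hOb ≫ X.presheaf.map (homOfLE (X.basicOpen_le n)).op).hom
    rw [Scheme.Hom.appLE_map]
    rfl)
  haveI := hO.isLocalization_of_eq_basicOpen n (homOfLE (X.basicOpen_le n)) rfl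
  let τN : H → (Γ(X, X.basicOpen n) →ₐ[Γ(S, U)] Γ(X, X.basicOpen n)) := fun t =>
    secHom b hNb (ρ (t : G)⁻¹).hom (hρ _) (hN _ (H.inv_mem t.2))
  have h1 : SpanFix R' τN (1 : Γ(X, X.basicOpen n)) :=
    spanFix_loc (c := n) (τ' := τN) (fun t => hn _ (H.inv_mem t.2)) (fun t m => secHom_map _ _ _ _ m) h
  letI := (X.presheaf.map (homOfLE hND).op).hom.toAlgebra
  haveI : IsScalarTower Γ(S, U) Γ(X, D) Γ(X, X.basicOpen n) := IsScalarTower.of_algebraMap_eq' (by
    change _ = (b.appLE U D hDb ≫ X.presheaf.map (homOfLE hND).op).hom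
    rw [Scheme.Hom.appLE_map]
    rfl)
  haveI := hD.isLocalization_of_eq_basicOpen c (homOfLE hND) hcn.symm
  exact spanFix_of_loc (c := c) (τ' := τN) (fun t => hcfix _ (H.inv_mem t.2))
    (fun t m => secHom_map _ _ _ _ m) h1

end Transport

/-- Invariant sections of a base change of a fibre power come from the symmetric product. -/
theorem fixed_mem_range_of_isSymProd {X S P : Scheme.{u}} (f : X ⟶ S) (d : ℕ)
    (q : SymProd.fibPow f d ⟶ P) (pP : P ⟶ S) (hq : SymProd.IsSymProd f d q pP)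
    {U : S.Opens} (hU : IsAffineOpen U) {V : P.Opens} (hV : IsAffineOpen V) (hVU : V ≤ pP ⁻¹ᵁ U)
    (hDb : q ⁻¹ᵁ V ≤ (WidePullback.base (fun _ : Fin d => f)) ⁻¹ᵁ U)
    (R' : Type u) [CommRing R'] [Algebra Γ(S, U) R']
    (hflat : ∀ W : X.Opens, IsAffineOpen W → ∀ h : W ≤ f ⁻¹ᵁ U,
      letI := (f.appLE U W h).hom.toAlgebra
      Module.Flat R' (R' ⊗[Γ(S, U)] Γ(X, W))) :
    letI := (pP.appLE U V hVU).hom.toAlgebra
    letI := ((WidePullback.base (fun _ : Fin d => f)).appLE U (q ⁻¹ᵁ V) hDb).hom.toAlgebra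
    ∀ (τ : Equiv.Perm (Fin d) → (Γ(SymProd.fibPow f d, q ⁻¹ᵁ V) →ₐ[Γ(S, U)] Γ(SymProd.fibPow f d, q ⁻¹ᵁ V))),
      (∀ σ s, τ σ s = ((SymProd.permHom f d σ).appLE _ _
        (SGA1.preimage_le_of_inv (SymProd.permActU f d) q hq.isQuot.inv ⟨σ⟩ V)).hom s) →
      ∀ (L : Γ(P, V) →ₗ[Γ(S, U)] Γ(SymProd.fibPow f d, q ⁻¹ᵁ V)), (∀ p, L p = (q.app V).hom p) →
        ∀ z : R' ⊗[Γ(S, U)] Γ(SymProd.fibPow f d, q ⁻¹ᵁ V),
          (∀ σ, (τ σ).toLinearMap.lTensor R' z = z) → z ∈ LinearMap.range (L.lTensor R') := by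
  haveI := hq.isQuot.affine
  set b := WidePullback.base (fun _ : Fin d => f) with hb
  let ρ := SymProd.permActU f d
  have hD : IsAffineOpen (q ⁻¹ᵁ V) := hV.preimage q
  have hρb : ∀ g, (ρ g).hom ≫ b = b := fun g => SymProd.permHom_base f d g.down
  let D := q ⁻¹ᵁ V
  letI := (pP.appLE U V hVU).hom.toAlgebra
  letI := (b.appLE U D hDb).hom.toAlgebra
  intro τ hτ L hL z hz
  letI := action hq.isQuot V
  have hcomp : ∀ r, algebraMap Γ(S, U) Γ(SymProd.fibPow f d, D) r =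
      (q.app V).hom (algebraMap Γ(S, U) Γ(P, V) r) := fun r => by
    change (b.appLE U D hDb).hom r = (pP.appLE U V hVU ≫ q.app V).hom r
    rw [Scheme.Hom.app_eq_appLE, Scheme.Hom.appLE_comp_appLE]
    simp only [hq.over, ← hb]
    rfl
  haveI : SMulCommClass (ULift.{u} (Equiv.Perm (Fin d))) Γ(S, U) Γ(SymProd.fibPow f d, D) :=
    ⟨fun g r m => by
      rw [Algebra.smul_def, Algebra.smul_def, smul_mul', hcomp]
      exact congrArg (· * g • m) (act_app hq.isQuot V g⁻¹ _)⟩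
  have hmem := span_fixed R' (M := Γ(SymProd.fibPow f d, D)) (G := ULift.{u} (Equiv.Perm (Fin d))) (fun Q => ?_) z fun g => by
    rw [show (smulAlgHom g : Γ(SymProd.fibPow f d, D) →ₐ[Γ(S, U)] _) = τ g⁻¹.down from
      AlgHom.ext fun s => (hτ g⁻¹.down s).symm]
    exact hz _
  · obtain ⟨w, hw⟩ := hmem
    let L' : Γ(P, V) →ₗ[Γ(S, U)] FixedPoints.subalgebra Γ(S, U) Γ(SymProd.fibPow f d, D)
        (ULift.{u} (Equiv.Perm (Fin d))) :=
      L.codRestrict (Subalgebra.toSubmodule (FixedPoints.subalgebra _ _ _))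
        fun p g => by rw [hL]; exact act_app hq.isQuot V g⁻¹ p
    have hsurj : Function.Surjective L' := fun m => by
      obtain ⟨p, hp⟩ := (hq.isQuot.range_iff V m.1).2 fun g => by
        have : act hq.isQuot V (g⁻¹)⁻¹ m.1 = m.1 := m.2 g⁻¹
        rwa [inv_inv] at this
      exact ⟨p, Subtype.ext ((hL p).trans hp)⟩
    obtain ⟨w', rfl⟩ := LinearMap.lTensor_surjective R' hsurj w
    refine ⟨w', ?_⟩
    rw [← hw]
    change _ = (FixedPoints.subalgebra _ _ _).val.toLinearMap.lTensor R' (L'.lTensor R' w')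
    rw [← LinearMap.comp_apply, ← LinearMap.lTensor_comp]
    rfl
  set x := hD.fromSpec Q with hx
  have hxD : x ∈ D := hD.range_fromSpec.le ⟨Q, rfl⟩
  let κ : Type u := Set.range fun i : Fin d => (WidePullback.π (fun _ : Fin d => f) i).base x
  let a : Fin d → κ := fun i => ⟨(WidePullback.π (fun _ : Fin d => f) i).base x, ⟨i, rfl⟩⟩
  have hxU : b.base x ∈ U := hDb hxD
  have hk : ∀ k : κ, ∃ W : X.Opens, IsAffineOpen W ∧ k.1 ∈ W ∧ W ≤ f ⁻¹ᵁ U := fun k => by
    obtain ⟨i, hi⟩ := k.2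
    obtain ⟨W, hW, hkW, hWU⟩ := exists_isAffineOpen_mem_and_subset (U := f ⁻¹ᵁ U) (x := k.1) (by
      change f.base k.1 ∈ U
      rw [← hi, ← Scheme.Hom.comp_apply, WidePullback.π_arrow]
      exact hxU)
    exact ⟨W, hW, hkW, hWU⟩
  choose W hW hkW hWU using hk
  obtain ⟨hO, hOT⟩ := spanFix_of_chart f W U a hU hW hWU R' fun k => hflat _ (hW k) (hWU k)
  let H : Subgroup (ULift.{u} (Equiv.Perm (Fin d))) := (colourStab a).comap MulEquiv.ulift.toMonoidHom
  have hOs : StabBy ρ H (chartOpen f W U a) := fun g hg => chartOpen_stable f W U a hg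
  have hDs : StabBy ρ H D := fun g _ => SGA1.preimage_le_of_inv ρ q hq.isQuot.inv g V
  have hxO : x ∈ chartOpen f W U a := (mem_chartOpen f W U a).2 ⟨hxU, fun i => hkW (a i)⟩
  have hstab : ∀ g, (ρ g).hom.base x = x → g ∈ H := fun g hg => by
    refine (Subgroup.inv_mem_iff _).1 fun i => Subtype.ext ?_
    change (WidePullback.π (fun _ : Fin d => f) (g.down.symm i)).base x = _
    rw [← SymProd.permHom_π f d g.down i, Scheme.Hom.comp_apply]
    exact congrArg (fun z => (WidePullback.π (fun _ : Fin d => f) i).base z) hg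
  obtain ⟨c, hc, hxc, hgc, hT⟩ := spanFix_transport ρ b H hρb hO hD (chartOpen_le_base f W U a)
    hDb hOs hDs hxO hxD hstab R' (by
      letI := (b.appLE U (chartOpen f W U a) (chartOpen_le_base f W U a)).hom.toAlgebra
      have h0 := hOT (fun t => secHom b (chartOpen_le_base f W U a) (SymProd.permHom f d t)
        (SymProd.permHom_base f d _) (chartOpen_stable f W U a t.2)) fun t s => rfl
      exact h0.comp (fun t : H => (⟨((t⁻¹ : H) : ULift.{u} (Equiv.Perm (Fin d))).down,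
          (t⁻¹).2⟩ : colourStab a))
        fun t => ⟨⟨⟨((t⁻¹ : colourStab a) : Equiv.Perm (Fin d))⟩, (t⁻¹).2⟩, Subtype.ext (inv_inv _)⟩)
  refine ⟨H, c, fun g hg => hc g hg, fun h => (mem_prime_iff hD Q c).1 h hxc, fun g hg => ?_, hT⟩
  refine (mem_prime_iff hD Q _).2 fun hmem => hgc g hg ?_
  change x ∈ (SymProd.fibPow f d).basicOpen (((ρ g⁻¹).hom.appLE D D _).hom c) at hmem
  rw [Scheme.basicOpen_appLE] at hmem
  exact hmem.2

end Groth.Agent.SGA1QuotLib
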