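import Mathlib

/-! Lifting invariants along equivariant surjections, by transfer from stabilisers of points. -/

universe u

namespace Groth.Agent.SGA1QuotLib

set_option linter.style.haveILetI false

variable {M M' : Type*} [CommRing M] [CommRing M']

/-- Invariant elements of the target lift to `F`, up to powers of `c`. -/
def LiftFix {ι : Type*} (F : Subring M) (π : M →+* M') (τ : ι → (M' →+* M')) (c : M) : Prop :=
  ∀ z : M', (∀ t, τ t z = z) → ∃ (N : ℕ) (y : M), y ∈ F ∧ π y = π c ^ N * z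

theorem LiftFix.comp {ι ι' : Type*} {F : Subring M} {π : M →+* M'} {τ : ι → (M' →+* M')} {c : M}
    (h : LiftFix F π τ c) (e : ι' → ι) (he : Function.Surjective e) : LiftFix F π (fun t => τ (e t)) c :=
  fun z hz => h z fun t => by obtain ⟨t', rfl⟩ := he t; exact hz t'

section Loc

variable {L L' : Type*} [CommRing L] [CommRing L'] {ι : Type*} [Finite ι] {F : Subring M} {FL : Subring L}
  {π : M →+* M'} {πL : L →+* L'} {φ : M →+* L} {φ' : M' →+* L'} {τ : ι → (M' →+* M')}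
  {τL : ι → (L' →+* L')} {c : M}

theorem liftFix_loc (hsq : ∀ m, πL (φ m) = φ' (π m)) (hc : ∀ t, τ t (π c) = π c)
    (heq : ∀ t m, φ' (τ t m) = τL t (φ' m)) (hcF : c ∈ F) (hF : ∀ y ∈ F, φ y ∈ FL)
    (hker : ∀ z, φ' z = 0 → ∃ j : ℕ, π c ^ j * z = 0)
    (hsurj : ∀ l, ∃ (e : ℕ) (y : M'), φ' (π c) ^ e * l = φ' y)
    (hv : ∃ v ∈ FL, v * φ c = 1) (h : LiftFix F π τ 1) : LiftFix FL πL τL 1 := by
  classical
  cases nonempty_fintype ι
  intro z hz
  obtain ⟨e, y, hy⟩ := hsurj z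
  have hk : ∀ t, ∃ j : ℕ, π c ^ j * (τ t y - y) = 0 := fun t => hker _ (by
    rw [map_sub, heq, ← hy, map_mul, map_pow, ← heq, hc, hz, sub_self])
  choose j hj using hk
  let J := ∑ t, j t
  obtain ⟨_, w, hw, hπw⟩ := h (π c ^ J * y) fun t => by
    have hle : j t ≤ J := Finset.single_le_sum (fun k _ => Nat.zero_le (j k)) (Finset.mem_univ t)
    rw [map_mul, map_pow, hc, ← sub_eq_zero, ← mul_sub, ← Nat.sub_add_cancel hle, pow_add, mul_assoc,
      hj, mul_zero]
  rw [map_one, one_pow, one_mul] at hπw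
  obtain ⟨v, hvF, hv⟩ := hv
  refine ⟨0, v ^ (J + e) * φ w, mul_mem (pow_mem hvF _) (hF w hw), ?_⟩
  rw [pow_zero, one_mul, map_mul, map_pow, hsq, hπw, map_mul, map_pow, ← hy, ← mul_assoc,
    ← mul_assoc, mul_assoc (πL v ^ _), ← pow_add, ← mul_pow, ← hsq, ← map_mul, hv, map_one, one_pow,
    one_mul]

theorem liftFix_of_loc (hsq : ∀ m, πL (φ m) = φ' (π m))
    (heq : ∀ t m, φ' (τ t m) = τL t (φ' m)) (hcF : c ∈ F)
    (hF : ∀ y ∈ FL, ∃ (e : ℕ) (w : M), w ∈ F ∧ φ c ^ e * y = φ w)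
    (hker : ∀ z, φ' z = 0 → ∃ j : ℕ, π c ^ j * z = 0)
    (h : LiftFix FL πL τL 1) : LiftFix F π τ c := by
  intro z hz
  obtain ⟨_, yl, hyl, hπ⟩ := h (φ' z) fun t => by rw [← heq, hz]
  rw [map_one, one_pow, one_mul] at hπ
  obtain ⟨e, w, hw, hew⟩ := hF yl hyl
  obtain ⟨j, hj⟩ := hker (π w - π c ^ e * z) (by
    rw [map_sub, ← hsq, ← hew, map_mul, map_pow, map_mul, map_pow, hsq, hπ, sub_self])
  refine ⟨j + e, c ^ j * w, mul_mem (pow_mem hcF j) hw, ?_⟩
  rw [mul_sub, sub_eq_zero] at hj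
  rw [map_mul, map_pow, hj, pow_add, mul_assoc]

end Loc

/-- Invariants lift if they lift near each point for a subgroup containing the stabiliser. -/
theorem lift_fixed {A : Type*} [CommRing A] (ψ : A →+* M) (π : M →+* M') (hint : (π.comp ψ).IsIntegral)
    {G : Type*} [Group G] [Finite G] (σ : G → (M →+* M)) (σ' : G → (M' →+* M'))
    (hπσ : ∀ g m, π (σ g m) = σ' g (π m)) (hσ : ∀ g g' m, σ (g * g') m = σ g (σ g' m))
    (h : ∀ Q : PrimeSpectrum M, RingHom.ker π ≤ Q.asIdeal →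
      ∃ (H : Subgroup G) (c : M) (FH : Subring M), (∀ g ∈ H, σ g c = c) ∧ c ∈ FH ∧ c ∉ Q.asIdeal ∧
        (∀ g ∉ H, σ g c ∈ Q.asIdeal) ∧ LiftFix FH π (fun t : H => σ' (t : G)) c ∧
        ∀ (_ : Fintype (G ⧸ H)), ∀ y ∈ FH, (∑ q : G ⧸ H, σ q.out y) ∈ ψ.range)
    (z : M') (hz : ∀ g, σ' g z = z) : z ∈ (π.comp ψ).range := by
  classical
  letI := (π.comp ψ).toAlgebra
  haveI : Algebra.IsIntegral A M' := ⟨hint⟩
  let J : Ideal A :=
    { carrier := {u | π (ψ u) * z ∈ (π.comp ψ).range}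
      zero_mem' := by
        change π (ψ 0) * z ∈ (π.comp ψ).range
        rw [map_zero, map_zero, zero_mul]; exact zero_mem _
      add_mem' := fun {a b} ha hb => by
        change π (ψ (a + b)) * z ∈ (π.comp ψ).range
        rw [map_add, map_add, add_mul]; exact add_mem ha hb
      smul_mem' := fun r a ha => by
        change π (ψ (r * a)) * z ∈ (π.comp ψ).range
        rw [map_mul, map_mul, mul_assoc]; exact mul_mem ⟨r, rfl⟩ ha }
  suffices hJ : J = ⊤ by
    have : (1 : A) ∈ J := by rw [hJ]; trivial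
    change π (ψ 1) * z ∈ (π.comp ψ).range at this
    rwa [map_one, map_one, one_mul] at this
  by_contra hJ
  obtain ⟨m, hm, hJm⟩ := Ideal.exists_le_maximal J hJ
  obtain ⟨Q', hQ'max, hQ'm⟩ := Ideal.exists_ideal_over_maximal_of_isIntegral (S := M') m
    (fun u hu => hJm (show π (ψ u) * z ∈ (π.comp ψ).range by
      rw [show π (ψ u) = 0 from hu, zero_mul]; exact zero_mem _))
  haveI := hQ'max.isPrime
  obtain ⟨H, c, FH, hcH, hcF, hcQ, hcg, hlift, htr⟩ := h ⟨Q'.comap π, inferInstance⟩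
    (fun x hx => by change π x ∈ Q'; rw [RingHom.mem_ker.1 hx]; exact zero_mem _)
  obtain ⟨N, y, hy, hπy⟩ := hlift z fun t => hz t
  cases nonempty_fintype (G ⧸ H)
  let T : M → M := fun w => ∑ q : G ⧸ H, σ q.out w
  obtain ⟨u, hu⟩ := htr inferInstance _ (pow_mem hcF (N + 1))
  have huJ : u ∈ J := by
    change π (ψ u) * z ∈ (π.comp ψ).range
    obtain ⟨w, hw⟩ := htr inferInstance _ (mul_mem hcF hy)
    refine ⟨w, ?_⟩
    rw [RingHom.comp_apply, hw, hu, map_sum, map_sum, Finset.sum_mul]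
    refine Finset.sum_congr rfl fun q _ => ?_
    rw [hπσ, hπσ, map_mul, hπy, ← mul_assoc, ← pow_succ', map_mul, hz, ← map_pow]
  have huQ : T (c ^ (N + 1)) ∈ Q'.comap π := by
    have h1 := hJm huJ
    rw [← hQ'm] at h1
    change π (ψ u) ∈ Q' at h1
    change π _ ∈ Q'
    rwa [hu] at h1
  refine hcQ ((Ideal.IsPrime.pow_mem_iff_mem (show (Q'.comap π).IsPrime from inferInstance)
    (N + 1) (Nat.succ_pos N)).1 ?_)
  let q₀ : G ⧸ H := (1 : G)
  have hrest : ∑ q ∈ Finset.univ.erase q₀, σ q.out (c ^ (N + 1)) ∈ Q'.comap π := by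
    refine Ideal.sum_mem _ fun q hq => ?_
    rw [map_pow]
    refine Ideal.pow_mem_of_mem _ (hcg _ fun hqH => (Finset.ne_of_mem_erase hq) ?_) _ (Nat.succ_pos N)
    rw [← q.out_eq]
    exact (QuotientGroup.eq).2 (by simpa using H.inv_mem hqH)
  have h0 : σ q₀.out (c ^ (N + 1)) = c ^ (N + 1) := by
    obtain ⟨t, ht⟩ := QuotientGroup.mk_out_eq_mul H (1 : G)
    rw [show q₀.out = 1 * (t : G) from ht, one_mul, map_pow, hcH _ t.2]
  have hsum := Finset.add_sum_erase Finset.univ (fun q : G ⧸ H => σ q.out (c ^ (N + 1))) (Finset.mem_univ q₀)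
  rw [h0] at hsum
  have := Ideal.sub_mem _ huQ hrest
  rwa [show T (c ^ (N + 1)) = _ from hsum.symm, add_sub_cancel_right] at this

end Groth.Agent.SGA1QuotLib
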