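import Mathlib
import Groth.Agent.SGA1QuotLib.SpanFixed
import Groth.Agent.SGA1QuotLib.SpanLift

/-! Lifting invariants after base change: localisations and symmetrised preimages. -/

universe u
open scoped TensorProduct

noncomputable section

namespace Groth.Agent.SGA1QuotLib

set_option linter.style.haveILetI false

variable {R : Type u} [CommRing R] (R' : Type u) [CommRing R'] [Algebra R R'] {M L M' L' : Type u}
  [CommRing M] [Algebra R M] [CommRing L] [Algebra R L] [CommRing M'] [Algebra R M'] [CommRing L'] [Algebra R L']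

/-- Base change of an algebra map as a ring map. -/
abbrev tmap (φ : M →ₐ[R] L) : R' ⊗[R] M →+* R' ⊗[R] L :=
  (Algebra.TensorProduct.map (AlgHom.id R R') φ).toRingHom

theorem tmap_tmul (φ : M →ₐ[R] L) (r : R') (m : M) : tmap R' φ (r ⊗ₜ m) = r ⊗ₜ φ m := rfl

theorem tmap_eq_lTensor (φ : M →ₐ[R] L) (x : R' ⊗[R] M) : tmap R' φ x = φ.toLinearMap.lTensor R' x := rfl

theorem tmap_surjective (φ : M →ₐ[R] L) (h : Function.Surjective φ) : Function.Surjective (tmap R' φ) :=
  LinearMap.lTensor_surjective R' (g := φ.toLinearMap) h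

theorem isIntegral_tmap (φ : M →ₐ[R] L) (h : φ.toRingHom.IsIntegral) : (tmap R' φ).IsIntegral := by
  intro x
  induction x with
  | zero => exact (tmap R' φ).isIntegralElem_zero
  | add x y hx hy => exact hx.add (tmap R' φ) hy
  | tmul r m =>
    have h1 : (tmap R' φ).IsIntegralElem ((1 : R') ⊗ₜ[R] m) := by
      obtain ⟨p, hp, hpm⟩ := h m
      refine ⟨p.map (Algebra.TensorProduct.includeRight : M →ₐ[R] R' ⊗[R] M).toRingHom, hp.map _, ?_⟩
      rw [Polynomial.eval₂_map]
      have : (tmap R' φ).comp (Algebra.TensorProduct.includeRight : M →ₐ[R] R' ⊗[R] M).toRingHom =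
          (Algebra.TensorProduct.includeRight : L →ₐ[R] R' ⊗[R] L).toRingHom.comp φ.toRingHom :=
        RingHom.ext fun a => by simp
      rw [this]
      exact (Polynomial.hom_eval₂ p φ.toRingHom
        (Algebra.TensorProduct.includeRight : L →ₐ[R] R' ⊗[R] L).toRingHom m).symm.trans (by rw [hpm, map_zero])
    have : r ⊗ₜ[R] m = tmap R' φ (r ⊗ₜ 1) * ((1 : R') ⊗ₜ[R] m) := by simp [tmap_tmul]
    rw [this]
    exact ((tmap R' φ).isIntegralElem_map).mul (tmap R' φ) h1

/-- The base change of the fixed subalgebra. -/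
def fixRing {ι : Type*} (τ : ι → (M →ₐ[R] M)) : Subring (R' ⊗[R] M) := (tmap R' (fixAlg τ).val).range

variable {R'}

theorem tmul_mem_fixRing {ι : Type*} {τ : ι → (M →ₐ[R] M)} (r : R') {m : M} (hm : ∀ t, τ t m = m) :
    r ⊗ₜ[R] m ∈ fixRing R' τ :=
  ⟨r ⊗ₜ ⟨m, hm⟩, rfl⟩

theorem LiftFix.comp_fixRing {ι ι' : Type*} {τ : ι → (M →ₐ[R] M)} {τ' : ι → (M' →ₐ[R] M')} {πa : M →ₐ[R] M'}
    {c : M} (h : LiftFix (fixRing R' τ) (tmap R' πa) (fun t => tmap R' (τ' t)) ((1 : R') ⊗ₜ c))
    (e : ι' → ι) (he : Function.Surjective e) :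
    LiftFix (fixRing R' fun t => τ (e t)) (tmap R' πa) (fun t => tmap R' (τ' (e t))) ((1 : R') ⊗ₜ c) := fun z hz => by
  obtain ⟨N, y, hy, hπ⟩ := h z fun t => by obtain ⟨t', rfl⟩ := he t; exact hz t'
  refine ⟨N, y, ?_, hπ⟩
  obtain ⟨w, rfl⟩ := hy
  clear hπ
  induction w with
  | zero => rw [map_zero]; exact zero_mem _
  | add x y hx hy => rw [map_add]; exact add_mem hx hy
  | tmul r m => exact tmul_mem_fixRing r fun t => m.2 (e t)

section Loc

variable {ι : Type*} [Finite ι] {τ : ι → (M →ₐ[R] M)} {τL : ι → (L →ₐ[R] L)} {τ' : ι → (M' →ₐ[R] M')}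
  {τL' : ι → (L' →ₐ[R] L')} [Algebra M L] [IsScalarTower R M L] [Algebra M' L'] [IsScalarTower R M' L']
  {πa : M →ₐ[R] M'} {πL : L →ₐ[R] L'} {c : M} [IsLocalization.Away c L] [IsLocalization.Away (πa c) L']

theorem liftFix_tensor_loc (hsq : ∀ m, πL (algebraMap M L m) = algebraMap M' L' (πa m))
    (hc : ∀ t, τ t c = c) (hπτ : ∀ t m, πa (τ t m) = τ' t (πa m))
    (heq : ∀ t m, algebraMap M L (τ t m) = τL t (algebraMap M L m))
    (heq' : ∀ t m, algebraMap M' L' (τ' t m) = τL' t (algebraMap M' L' m))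
    (h : LiftFix (fixRing R' τ) (tmap R' πa) (fun t => tmap R' (τ' t)) 1) :
    LiftFix (fixRing R' τL) (tmap R' πL) (fun t => tmap R' (τL' t)) 1 := by
  refine liftFix_loc (φ := tmap R' (IsScalarTower.toAlgHom R M L))
    (φ' := tmap R' (IsScalarTower.toAlgHom R M' L')) (τ := fun t => tmap R' (τ' t)) (c := (1 : R') ⊗ₜ c)
    ?_ ?_ ?_ (tmul_mem_fixRing 1 hc) ?_ ?_ ?_ ?_ h
  · intro x
    induction x with
    | zero => simp
    | add x y hx hy => simp only [map_add, hx, hy]
    | tmul r m => simp only [tmap_tmul, IsScalarTower.coe_toAlgHom', hsq]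
  · intro t
    simp only [tmap_tmul, ← hπτ, hc]
  · intro t x
    induction x with
    | zero => simp
    | add x y hx hy => simp only [map_add, hx, hy]
    | tmul r m => simp only [tmap_tmul, IsScalarTower.coe_toAlgHom', heq']
  · rintro _ ⟨w, rfl⟩
    induction w with
    | zero => simp only [map_zero]; exact zero_mem _
    | add x y hx hy => simp only [map_add]; exact add_mem hx hy
    | tmul r m =>
      exact tmul_mem_fixRing r fun t => by
        change τL t (algebraMap M L (m : M)) = algebraMap M L (m : M)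
        rw [← heq, m.2 t]
  · intro x hx
    obtain ⟨j, hj⟩ := loc_ker (L := L') (c := πa c) hx
    exact ⟨j, by simpa only [tmap_tmul, Algebra.TensorProduct.tmul_pow, one_pow] using hj⟩
  · intro l
    obtain ⟨e, y, hy⟩ := loc_surj (M := M') (c := πa c) l
    refine ⟨e, y, ?_⟩
    simp only [tmap_tmul, Algebra.TensorProduct.tmul_pow, one_pow]
    exact hy
  · obtain ⟨v, hv⟩ := (IsLocalization.Away.algebraMap_isUnit (S := L) c).exists_left_inv
    refine ⟨(1 : R') ⊗ₜ v, tmul_mem_fixRing 1 fun t => ?_, ?_⟩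
    · refine (IsLocalization.Away.algebraMap_isUnit (S := L) c).mul_right_cancel ?_
      conv_lhs => rw [← hc t, heq, ← map_mul, hv, map_one]
      rw [hv]
    · simp only [tmap_tmul, IsScalarTower.coe_toAlgHom', Algebra.TensorProduct.tmul_mul_tmul, one_mul, hv]
      rfl

theorem liftFix_tensor_of_loc (hsq : ∀ m, πL (algebraMap M L m) = algebraMap M' L' (πa m))
    (hc : ∀ t, τ t c = c)
    (heq : ∀ t m, algebraMap M L (τ t m) = τL t (algebraMap M L m))
    (heq' : ∀ t m, algebraMap M' L' (τ' t m) = τL' t (algebraMap M' L' m))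
    (h : LiftFix (fixRing R' τL) (tmap R' πL) (fun t => tmap R' (τL' t)) 1) :
    LiftFix (fixRing R' τ) (tmap R' πa) (fun t => tmap R' (τ' t)) ((1 : R') ⊗ₜ c) := by
  refine liftFix_of_loc (φ := tmap R' (IsScalarTower.toAlgHom R M L))
    (φ' := tmap R' (IsScalarTower.toAlgHom R M' L')) (τL := fun t => tmap R' (τL' t))
    ?_ ?_ (tmul_mem_fixRing 1 hc) ?_ ?_ h
  · intro x
    induction x with
    | zero => simp
    | add x y hx hy => simp only [map_add, hx, hy]
    | tmul r m => simp only [tmap_tmul, IsScalarTower.coe_toAlgHom', hsq]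
  · intro t x
    induction x with
    | zero => simp
    | add x y hx hy => simp only [map_add, hx, hy]
    | tmul r m => simp only [tmap_tmul, IsScalarTower.coe_toAlgHom', heq']
  · rintro _ ⟨w, rfl⟩
    have hcm : ∀ k : ℕ, ((1 : R') ⊗ₜ[R] c) ^ k ∈ fixRing R' τ := fun k => pow_mem (tmul_mem_fixRing 1 hc) k
    induction w with
    | zero => exact ⟨0, 0, zero_mem _, by simp⟩
    | add x y hx hy =>
      obtain ⟨e, a, ha, hea⟩ := hx
      obtain ⟨e', b, hb, heb⟩ := hy
      refine ⟨e + e', ((1 : R') ⊗ₜ[R] c) ^ e' * a + ((1 : R') ⊗ₜ[R] c) ^ e * b,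
        add_mem (mul_mem (hcm _) ha) (mul_mem (hcm _) hb), ?_⟩
      simp only [map_add, map_mul, map_pow, ← hea, ← heb, ← mul_assoc, ← pow_add, mul_add, add_comm e e']
    | tmul r l =>
      obtain ⟨e, y, hy, hly⟩ := exists_fixed_num (τ' := τL) (IsScalarTower.toAlgHom R M L) hc heq
        (hloc_of_away L) (hsurj_of_away L) (κ := Unit) (fun _ => (l : L)) (fun _ t => l.2 t)
      refine ⟨e, r ⊗ₜ y (), tmul_mem_fixRing r (hy ()), ?_⟩
      simp only [tmap_tmul, Algebra.TensorProduct.tmul_pow, one_pow, Subalgebra.val_apply,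
        Algebra.TensorProduct.tmul_mul_tmul, one_mul, hly ()]
  · intro x hx
    obtain ⟨j, hj⟩ := loc_ker (L := L') (c := πa c) hx
    exact ⟨j, by simpa only [tmap_tmul, Algebra.TensorProduct.tmul_pow, one_pow] using hj⟩

end Loc

end Groth.Agent.SGA1QuotLib
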