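import Mathlib
import Groth.Prelude.Def_SymProd
import Groth.Agent.SGA1QuotLib.SymFlat
import Groth.Agent.SGA1QuotLib.TSBaseChange
import Groth.Agent.SGA1QuotLib.SpanLiftTensor

/-! Invariant sections on fibre powers of closed subschemes lift to the symmetric product. -/

universe u
open CategoryTheory CategoryTheory.Limits AlgebraicGeometry Opposite TopologicalSpace
open scoped TensorProduct

noncomputable section

namespace Groth.Agent.SGA1QuotLib

set_option linter.style.haveILetI false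

section Alg

open _root_.ZeroCyc

variable {R B O : Type u} [CommRing R] [CommRing B] [Algebra R B] [CommRing O] [Algebra R O] {d : ℕ}
  (R' : Type u) [CommRing R'] [Algebra R R'] (H : Subgroup (Equiv.Perm (Fin d)))

theorem exists_symm_preimage (χ : Tp R B d →ₐ[R] O) (hsurj : Function.Surjective χ) (ε : Tp R B d)
    (hχε : χ ε = 1) (hker : ∀ u, χ u = 0 → ε * u = 0)
    (hεfix : ∀ t : H, SymTen.perm R B d (t : Equiv.Perm (Fin d)) ε = ε)
    (hεzero : ∀ σ, σ ∉ H → ε * SymTen.perm R B d σ ε = 0) (τ : H → (O →ₐ[R] O))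
    (hτχ : ∀ t u, τ t (χ u) = χ (SymTen.perm R B d ((t : Equiv.Perm (Fin d))⁻¹) u))
    (z : R' ⊗[R] O) (hz : ∀ t, (τ t).toLinearMap.lTensor R' z = z) :
    ∃ sy : R' ⊗[R] Tp R B d, (∀ σ, (SymTen.perm R B d σ).toLinearMap.lTensor R' sy = sy) ∧
      χ.toLinearMap.lTensor R' sy = z := by
  classical
  let pm := fun σ : Equiv.Perm (Fin d) => SymTen.perm R B d σ
  let χ' := χ.toLinearMap.lTensor R'
  have hpm : ∀ (σ τ : Equiv.Perm (Fin d)), pm (σ * τ) = (pm σ).comp (pm τ) := fun σ τ =>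
    PiTensorProduct.algHom_ext fun i => AlgHom.ext fun b => by
      change ((SymTen.perm R B d (σ * τ)).comp (slot i)) b =
        SymTen.perm R B d σ (((SymTen.perm R B d τ).comp (slot i)) b)
      rw [perm_slot, perm_slot]
      change _ = ((SymTen.perm R B d σ).comp (slot (τ i))) b
      rw [perm_slot]
      rfl
  have hpm' : ∀ (σ τ : Equiv.Perm (Fin d)) (u), (pm σ).toLinearMap.lTensor R' ((pm τ).toLinearMap.lTensor R' u) =
      (pm (σ * τ)).toLinearMap.lTensor R' u := fun σ τ u => by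
    rw [← LinearMap.comp_apply, ← LinearMap.lTensor_comp, hpm]
    rfl
  let e : R' ⊗[R] Tp R B d := (1 : R') ⊗ₜ ε
  have hχe : ∀ u, χ' (e * u) = χ' u := fun u => by
    simp only [χ']
    rw [lTensor_algHom_mul, LinearMap.lTensor_tmul, AlgHom.toLinearMap_apply, hχε,
      ← Algebra.TensorProduct.one_def, one_mul]
  let s : O →ₗ[R] Tp R B d :=
    ((LinearMap.ker χ.toLinearMap).liftQ (LinearMap.mulLeft _ ε) fun u hu => hker u hu) ∘ₗ
      (χ.toLinearMap.quotKerEquivOfSurjective hsurj).symm.toLinearMap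
  have hs : ∀ u, s (χ u) = ε * u := fun u => by
    simp only [s, LinearMap.comp_apply, LinearEquiv.coe_coe]
    rw [show (χ.toLinearMap.quotKerEquivOfSurjective hsurj).symm (χ u) = Submodule.Quotient.mk u from
      (LinearEquiv.symm_apply_eq _).2 rfl, Submodule.liftQ_apply, LinearMap.mulLeft_apply]
  have hsχ : ∀ u, s.lTensor R' (χ' u) = e * u := fun u => by
    simp only [χ', ← LinearMap.comp_apply, ← LinearMap.lTensor_comp]
    induction u with
    | zero => simp
    | add x y hx hy => simp only [map_add, mul_add, hx, hy]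
    | tmul r m =>
      simp only [LinearMap.lTensor_tmul, LinearMap.comp_apply, AlgHom.toLinearMap_apply, hs, e,
        Algebra.TensorProduct.tmul_mul_tmul, one_mul]
  have huniq : ∀ u, χ' u = 0 → e * u = 0 := fun u hu => by rw [← hsχ, hu, map_zero]
  obtain ⟨w₀, hw₀⟩ := LinearMap.lTensor_surjective R' (g := χ.toLinearMap) hsurj z
  let w := e * w₀
  have hw : χ' w = z := (hχe w₀).trans hw₀
  have hefix : ∀ t : H, (pm (t : Equiv.Perm (Fin d))).toLinearMap.lTensor R' e = e := fun t => by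
    simp only [e, LinearMap.lTensor_tmul, AlgHom.toLinearMap_apply, pm, hεfix t]
  have hwfix : ∀ t : H, (pm (t : Equiv.Perm (Fin d))).toLinearMap.lTensor R' w = w := fun t => by
    refine sub_eq_zero.1 ?_
    have e1 : (pm (t : Equiv.Perm (Fin d))).toLinearMap.lTensor R' w - w =
        e * ((pm (t : Equiv.Perm (Fin d))).toLinearMap.lTensor R' w₀ - w₀) := by
      simp only [w, lTensor_algHom_mul, hefix, mul_sub]
    rw [e1]
    refine huniq _ ?_
    rw [← hχe, ← e1, map_sub]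
    have : χ' ((pm (t : Equiv.Perm (Fin d))).toLinearMap.lTensor R' w) =
        (τ t⁻¹).toLinearMap.lTensor R' (χ' w) := by
      simp only [χ', ← LinearMap.comp_apply, ← LinearMap.lTensor_comp]
      congr 2
      refine LinearMap.ext fun u => ?_
      simp only [LinearMap.comp_apply, AlgHom.toLinearMap_apply, hτχ, InvMemClass.coe_inv, inv_inv, pm]
    rw [this, hw, hz, sub_self]
  cases nonempty_fintype (Equiv.Perm (Fin d) ⧸ H)
  refine ⟨∑ p : Equiv.Perm (Fin d) ⧸ H, (pm p.out).toLinearMap.lTensor R' w, fun σ => ?_, ?_⟩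
  · change (pm σ).toLinearMap.lTensor R' _ = _
    simp only [map_sum, hpm']
    refine Fintype.sum_equiv (MulAction.toPerm σ) _ _ fun p => ?_
    obtain ⟨t, ht⟩ := QuotientGroup.mk_out_eq_mul H (σ * p.out)
    have hq : (σ * p.out : Equiv.Perm (Fin d)) = σ • p := by
      conv_rhs => rw [← p.out_eq]
      rfl
    rw [MulAction.toPerm_apply, ← hq, ht, ← hpm' (σ * p.out), hwfix]
  · let p₀ : Equiv.Perm (Fin d) ⧸ H := (1 : Equiv.Perm (Fin d))
    change χ' _ = z
    rw [← hχe, Finset.mul_sum, Finset.sum_eq_single p₀ (fun p _ hp => ?_) (by simp)]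
    · obtain ⟨t, ht⟩ := QuotientGroup.mk_out_eq_mul H (1 : Equiv.Perm (Fin d))
      rw [show p₀.out = 1 * (t : Equiv.Perm (Fin d)) from ht, one_mul, hwfix, hχe, hw]
    · simp only [w, lTensor_algHom_mul, e, LinearMap.lTensor_tmul, AlgHom.toLinearMap_apply,
        ← mul_assoc, Algebra.TensorProduct.tmul_mul_tmul, one_mul, pm]
      rw [hεzero p.out (fun hpH => hp ?_), TensorProduct.tmul_zero, zero_mul]
      rw [← p.out_eq]
      exact (QuotientGroup.eq).2 (by simpa using H.inv_mem hpH)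

end Alg

theorem exists_wideIso' {S X : Scheme.{u}} (p : X ⟶ S) (n : ℕ) :
    ∃ e : widePullback S (fun _ : Fin (n + 1) => X) (fun _ => p) ≅
        pullback p (WidePullback.base (fun _ : Fin n => p)),
      e.hom ≫ pullback.fst _ _ = WidePullback.π (fun _ : Fin (n + 1) => p) 0 ∧
      (∀ j, e.hom ≫ pullback.snd _ _ ≫ WidePullback.π (fun _ : Fin n => p) j =
        WidePullback.π (fun _ : Fin (n + 1) => p) j.succ) ∧
      e.hom ≫ pullback.snd _ _ ≫ WidePullback.base (fun _ : Fin n => p) =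
        WidePullback.base (fun _ : Fin (n + 1) => p) := by
  let e : widePullback S (fun _ : Fin (n + 1) => X) (fun _ => p) ⟶
      pullback p (WidePullback.base (fun _ : Fin n => p)) :=
    pullback.lift (WidePullback.π _ 0)
      (WidePullback.lift (WidePullback.base (fun _ : Fin (n + 1) => p))
        (fun j => WidePullback.π (fun _ : Fin (n + 1) => p) j.succ)
        (fun j => WidePullback.π_arrow (fun _ : Fin (n + 1) => p) j.succ))
      ((WidePullback.π_arrow (fun _ : Fin (n + 1) => p) 0).trans (WidePullback.lift_base _ _ _ _).symm)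
  let e' : pullback p (WidePullback.base (fun _ : Fin n => p)) ⟶
      widePullback S (fun _ : Fin (n + 1) => X) (fun _ => p) :=
    WidePullback.lift (pullback.snd _ _ ≫ WidePullback.base (fun _ : Fin n => p))
      (Fin.cons (pullback.fst _ _) fun j => pullback.snd _ _ ≫ WidePullback.π (fun _ : Fin n => p) j)
      (fun j => by
        induction j using Fin.cases with
        | zero => exact pullback.condition
        | succ j => simp)
  have h0 : ∀ j, e' ≫ WidePullback.π (fun _ : Fin (n + 1) => p) j =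
      (Fin.cons (pullback.fst _ _) fun j => pullback.snd _ _ ≫ WidePullback.π (fun _ : Fin n => p) j :
        Fin (n + 1) → (pullback p (WidePullback.base (fun _ : Fin n => p)) ⟶ X)) j :=
    fun j => WidePullback.lift_π _ _ _ _ j
  have hb : e' ≫ WidePullback.base (fun _ : Fin (n + 1) => p) =
      pullback.snd _ _ ≫ WidePullback.base (fun _ : Fin n => p) := WidePullback.lift_base _ _ _ _
  have e1 : e ≫ pullback.fst _ _ = WidePullback.π (fun _ : Fin (n + 1) => p) 0 := pullback.lift_fst _ _ _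
  have e2 : ∀ j, e ≫ pullback.snd _ _ ≫ WidePullback.π (fun _ : Fin n => p) j =
      WidePullback.π (fun _ : Fin (n + 1) => p) j.succ := fun j => by
    rw [← Category.assoc]
    exact (congrArg (· ≫ _) (pullback.lift_snd _ _ _)).trans (WidePullback.lift_π _ _ _ _ j)
  have e3 : e ≫ pullback.snd _ _ ≫ WidePullback.base (fun _ : Fin n => p) =
      WidePullback.base (fun _ : Fin (n + 1) => p) := by
    rw [← Category.assoc]
    exact (congrArg (· ≫ _) (pullback.lift_snd _ _ _)).trans (WidePullback.lift_base _ _ _ _)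
  refine ⟨⟨e, e', WidePullback.hom_ext _ _ _ (fun j => ?_) ?_,
    pullback.hom_ext ?_ (WidePullback.hom_ext _ _ _ (fun j => ?_) ?_)⟩, e1, e2, e3⟩
  · rw [Category.assoc, h0, Category.id_comp]
    induction j using Fin.cases with
    | zero => rw [Fin.cons_zero, e1]
    | succ j => rw [Fin.cons_succ, e2]
  · rw [Category.assoc, hb, e3, Category.id_comp]
  · rw [Category.assoc, e1, h0, Fin.cons_zero, Category.id_comp]
  · simp only [Category.assoc, e2, h0, Fin.cons_succ, Category.id_comp]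
  · simp only [Category.assoc, e3, hb, Category.id_comp]

theorem isClosedImmersion_fibPowMap {X Z S : Scheme.{u}} (f : X ⟶ S) (i : Z ⟶ X) [IsClosedImmersion i]
    (n : ℕ) : IsClosedImmersion (SymProd.fibPowMap (i ≫ f) n f i rfl) := by
  induction n with
  | zero =>
    haveI : IsIso (SymProd.fibPowMap (i ≫ f) 0 f i rfl) := by
      refine ⟨WidePullback.lift (WidePullback.base _) (fun j => Fin.elim0 j) (fun j => Fin.elim0 j), ?_, ?_⟩
      · refine WidePullback.hom_ext (fun _ : Fin 0 => i ≫ f) _ _ (fun j => Fin.elim0 j) ?_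
        rw [Category.assoc, WidePullback.lift_base, SymProd.fibPowMap_base, Category.id_comp]
      · refine WidePullback.hom_ext (fun _ : Fin 0 => f) _ _ (fun j => Fin.elim0 j) ?_
        rw [Category.assoc, SymProd.fibPowMap_base, WidePullback.lift_base, Category.id_comp]
    infer_instance
  | succ n ih =>
    obtain ⟨eZ, a1, a2, a3⟩ := exists_wideIso' (i ≫ f) n
    obtain ⟨eX, b1, b2, b3⟩ := exists_wideIso' f n
    let mp := pullback.map (i ≫ f) (WidePullback.base (fun _ : Fin n => i ≫ f)) f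
      (WidePullback.base (fun _ : Fin n => f)) i (SymProd.fibPowMap (i ≫ f) n f i rfl) (𝟙 S)
      (Category.comp_id _) (by rw [Category.comp_id, SymProd.fibPowMap_base])
    haveI : IsClosedImmersion mp :=
      MorphismProperty.pullbackMap (P := @IsClosedImmersion) (f := i ≫ f)
        (g := WidePullback.base (fun _ : Fin n => i ≫ f)) (f' := f) (g' := WidePullback.base (fun _ : Fin n => f))
        inferInstance ih rfl (SymProd.fibPowMap_base _ _ _ _ _).symm
    have hj : SymProd.fibPowMap (i ≫ f) (n + 1) f i rfl = eZ.hom ≫ mp ≫ eX.inv := by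
      rw [← cancel_mono eX.hom, Category.assoc, Category.assoc, eX.inv_hom_id, Category.comp_id]
      apply pullback.hom_ext
      · rw [Category.assoc, b1, SymProd.fibPowMap_π, Category.assoc, pullback.lift_fst, ← Category.assoc, a1]
      · refine WidePullback.hom_ext (fun _ : Fin n => f) _ _ (fun j => ?_) ?_
        · simp only [Category.assoc, mp, pullback.lift_snd_assoc, SymProd.fibPowMap_π]
          rw [b2, SymProd.fibPowMap_π, reassoc_of% (a2 j)]
        · simp only [Category.assoc, mp, pullback.lift_snd_assoc, SymProd.fibPowMap_base]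
          rw [b3, SymProd.fibPowMap_base, a3]
    rw [hj]
    infer_instance

/-- Sections along a morphism over the base, as an algebra map. -/
def mapHom {X Z S : Scheme.{u}} {bX : X ⟶ S} {bZ : Z ⟶ S} (j : Z ⟶ X) (hj : j ≫ bX = bZ) {U : S.Opens}
    {V : X.Opens} {V' : Z.Opens} (e : V' ≤ j ⁻¹ᵁ V) (hV : V ≤ bX ⁻¹ᵁ U) (hV' : V' ≤ bZ ⁻¹ᵁ U) :
    letI := (bX.appLE U V hV).hom.toAlgebra
    letI := (bZ.appLE U V' hV').hom.toAlgebra
    Γ(X, V) →ₐ[Γ(S, U)] Γ(Z, V') :=
  letI := (bX.appLE U V hV).hom.toAlgebra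
  letI := (bZ.appLE U V' hV').hom.toAlgebra
  { (j.appLE V V' e).hom with
    commutes' := fun r => by
      change (bX.appLE U V hV ≫ j.appLE V V' e).hom r = (bZ.appLE U V' hV').hom r
      rw [Scheme.Hom.appLE_comp_appLE]
      simp only [hj] }

theorem appLE_congr_hom {A B : Scheme.{u}} {f₁ f₂ : A ⟶ B} (h : f₁ = f₂) (U : B.Opens) (V : A.Opens)
    (e₁ : V ≤ f₁ ⁻¹ᵁ U) (e₂ : V ≤ f₂ ⁻¹ᵁ U) (s : Γ(B, U)) :
    (f₁.appLE U V e₁).hom s = (f₂.appLE U V e₂).hom s := by
  subst h; rfl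

theorem mapHom_comm {X Z : Scheme.{u}} (j : Z ⟶ X) (σX : X ⟶ X) (σZ : Z ⟶ Z) (h : σZ ≫ j = j ≫ σX)
    {V : X.Opens} {V' : Z.Opens} (e : V' ≤ j ⁻¹ᵁ V) (eX : V ≤ σX ⁻¹ᵁ V) (eZ : V' ≤ σZ ⁻¹ᵁ V')
    (s : Γ(X, V)) :
    (j.appLE V V' e).hom ((σX.appLE V V eX).hom s) = (σZ.appLE V' V' eZ).hom ((j.appLE V V' e).hom s) := by
  change (σX.appLE V V eX ≫ j.appLE V V' e).hom s = (j.appLE V V' e ≫ σZ.appLE V' V' eZ).hom s
  rw [Scheme.Hom.appLE_comp_appLE, Scheme.Hom.appLE_comp_appLE]
  exact appLE_congr_hom h.symm _ _ _ _ s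

variable {X Z S : Scheme.{u}} (f : X ⟶ S) (i : Z ⟶ X) {d : ℕ} {κ : Type u} (W : κ → X.Opens)
  (U : S.Opens) (a : Fin d → κ)

theorem fibPowMap_perm (σ : Equiv.Perm (Fin d)) :
    SymProd.permHom (i ≫ f) d σ ≫ SymProd.fibPowMap (i ≫ f) d f i rfl =
      SymProd.fibPowMap (i ≫ f) d f i rfl ≫ SymProd.permHom f d σ := by
  refine WidePullback.hom_ext (fun _ : Fin d => f) _ _ (fun k => ?_) ?_
  · rw [Category.assoc, Category.assoc, SymProd.fibPowMap_π, SymProd.permHom_π, SymProd.fibPowMap_π,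
      SymProd.permHom_π_assoc]
  · rw [Category.assoc, Category.assoc, SymProd.fibPowMap_base, SymProd.permHom_base, SymProd.permHom_base,
      SymProd.fibPowMap_base]

theorem chartOpen_preimage :
    chartOpen (i ≫ f) (fun k => i ⁻¹ᵁ W k) U a =
      SymProd.fibPowMap (i ≫ f) d f i rfl ⁻¹ᵁ chartOpen f W U a := by
  refine TopologicalSpace.Opens.ext (Set.ext fun x => ?_)
  change x ∈ chartOpen (i ≫ f) _ U a ↔ (SymProd.fibPowMap (i ≫ f) d f i rfl).base x ∈ chartOpen f W U a
  rw [mem_chartOpen, mem_chartOpen, ← Scheme.Hom.comp_apply, SymProd.fibPowMap_base]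
  refine and_congr Iff.rfl (forall_congr' fun k => ?_)
  rw [← Scheme.Hom.comp_apply, SymProd.fibPowMap_π, Scheme.Hom.comp_apply]
  rfl

open _root_.ZeroCyc in
theorem liftFix_of_chart [Finite κ] [IsClosedImmersion i] (hU : IsAffineOpen U)
    (hW : ∀ k, IsAffineOpen (W k)) (hWU : ∀ k, W k ≤ f ⁻¹ᵁ U) (R' : Type u) [CommRing R']
    [Algebra Γ(S, U) R']
    (hflat : ∀ k, letI := ((i ≫ f).appLE U (i ⁻¹ᵁ W k) (fun _ hx => hWU k hx)).hom.toAlgebra
      Module.Flat R' (R' ⊗[Γ(S, U)] Γ(Z, i ⁻¹ᵁ W k))) :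
    IsAffineOpen (chartOpen f W U a) ∧
    (letI := ((WidePullback.base (fun _ : Fin d => f)).appLE U (chartOpen f W U a)
        (chartOpen_le_base f W U a)).hom.toAlgebra
     letI := ((WidePullback.base (fun _ : Fin d => i ≫ f)).appLE U (chartOpen (i ≫ f) (fun k => i ⁻¹ᵁ W k) U a)
        (chartOpen_le_base (i ≫ f) _ U a)).hom.toAlgebra
     LiftFix (fixRing R' fun t : colourStab a => secHom (WidePullback.base (fun _ : Fin d => f))
          (chartOpen_le_base f W U a) (SymProd.permHom f d t) (SymProd.permHom_base f d _)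
          (chartOpen_stable f W U a t.2))
       (tmap R' (mapHom (SymProd.fibPowMap (i ≫ f) d f i rfl) (SymProd.fibPowMap_base _ _ _ _ _)
          (chartOpen_preimage f i W U a).le (chartOpen_le_base f W U a)
          (chartOpen_le_base (i ≫ f) (fun k => i ⁻¹ᵁ W k) U a)))
       (fun t : colourStab a => tmap R' (secHom (WidePullback.base (fun _ : Fin d => i ≫ f))
          (chartOpen_le_base (i ≫ f) (fun k => i ⁻¹ᵁ W k) U a) (SymProd.permHom (i ≫ f) d t)
          (SymProd.permHom_base (i ≫ f) d _) (chartOpen_stable (i ≫ f) _ U a t.2))) 1) := by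
  classical
  cases nonempty_fintype κ
  let W' : κ → Z.Opens := fun k => i ⁻¹ᵁ W k
  have hW'U : ∀ k, W' k ≤ (i ≫ f) ⁻¹ᵁ U := fun k _ hx => hWU k hx
  obtain ⟨hO, ε, χX, hslotX, -, -, -, -, -, -, hequivX⟩ :=
    exists_chart_presentation_slot f W U a hU hW hWU
  obtain ⟨hO', ε', χZ, hslotZ, hsurj, hχε, -, hker, hεfix, hεzero, hequivZ⟩ :=
    exists_chart_presentation_slot (i ≫ f) W' U a hU (fun k => (hW k).preimage i) hW'U
  letI iW : ∀ k, Algebra Γ(S, U) Γ(X, W k) := fun k => (f.appLE U (W k) (hWU k)).hom.toAlgebra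
  letI iW' : ∀ k, Algebra Γ(S, U) Γ(Z, W' k) := fun k => ((i ≫ f).appLE U (W' k) (hW'U k)).hom.toAlgebra
  refine ⟨hO, ?_⟩
  letI := ((WidePullback.base (fun _ : Fin d => f)).appLE U (chartOpen f W U a)
    (chartOpen_le_base f W U a)).hom.toAlgebra
  letI := ((WidePullback.base (fun _ : Fin d => i ≫ f)).appLE U (chartOpen (i ≫ f) W' U a)
    (chartOpen_le_base (i ≫ f) _ U a)).hom.toAlgebra
  let jO := mapHom (SymProd.fibPowMap (i ≫ f) d f i rfl) (SymProd.fibPowMap_base _ _ _ _ _)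
    (chartOpen_preimage f i W U a).le (chartOpen_le_base f W U a) (chartOpen_le_base (i ≫ f) W' U a)
  let β : ChartRing W →ₐ[Γ(S, U)] ChartRing W' :=
    { RingHom.pi fun k => (i.appLE (W k) (W' k) le_rfl).hom.comp (Pi.evalRingHom (fun k => Γ(X, W k)) k) with
      commutes' := fun r => funext fun k => by
        change (f.appLE U (W k) (hWU k) ≫ i.appLE (W k) (W' k) le_rfl).hom r = ((i ≫ f).appLE U (W' k) _).hom r
        rw [Scheme.Hom.appLE_comp_appLE] }
  have hβ : Function.Surjective β := fun b => by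
    have : ∀ k, Function.Surjective (i.appLE (W k) (W' k) le_rfl) := fun k => by
      rw [← Scheme.Hom.app_eq_appLE]
      exact i.app_surjective (W k) (hW k)
    choose s hs using fun k => this k (b k)
    exact ⟨s, funext hs⟩
  haveI : ∀ k, Module.Flat R' (R' ⊗[Γ(S, U)] Γ(Z, W' k)) := hflat
  haveI : Module.Flat R' (∀ k, R' ⊗[Γ(S, U)] Γ(Z, W' k)) :=
    Module.Flat.of_linearEquiv (DFinsupp.linearEquivFunOnFintype (R := R')
      (M := fun k => R' ⊗[Γ(S, U)] Γ(Z, W' k))).symm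
  haveI : Module.Flat R' (R' ⊗[Γ(S, U)] ChartRing W') :=
    Module.Flat.of_linearEquiv (TensorProduct.piRight Γ(S, U) R' R' fun k => Γ(Z, W' k))
  have hcompat : ∀ u, jO (χX u) = χZ (PiTensorProduct.map (fun _ => β.toLinearMap) u) := fun u => by
    induction u using PiTensorProduct.induction_on with
    | smul_tprod r b =>
      simp only [map_smul, PiTensorProduct.map_tprod]
      congr 1
      rw [_root_.ZeroCyc.tprod_eq_prod b, _root_.ZeroCyc.tprod_eq_prod (fun k => β.toLinearMap (b k)), map_prod, map_prod, map_prod]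
      refine Finset.prod_congr rfl fun l _ => ?_
      rw [hslotX, hslotZ]
      change ((WidePullback.π (fun _ : Fin d => f) l).appLE _ _ _ ≫
          (SymProd.fibPowMap (i ≫ f) d f i rfl).appLE _ _ _).hom (b l (a l)) =
        (i.appLE (W (a l)) (W' (a l)) le_rfl ≫ (WidePullback.π (fun _ : Fin d => i ≫ f) l).appLE _ _ _).hom (b l (a l))
      rw [Scheme.Hom.appLE_comp_appLE, Scheme.Hom.appLE_comp_appLE]
      exact appLE_congr_hom (SymProd.fibPowMap_π _ _ _ _ _ l) _ _ _ _ _
    | add x y hx hy => simp only [map_add, hx, hy]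
  intro z hz
  obtain ⟨sy, hsy, hzsy⟩ := exists_symm_preimage R' (colourStab a) χZ hsurj ε' hχε hker hεfix hεzero
    (fun t => secHom (WidePullback.base (fun _ : Fin d => i ≫ f)) (chartOpen_le_base (i ≫ f) W' U a)
      (SymProd.permHom (i ≫ f) d t) (SymProd.permHom_base (i ≫ f) d _) (chartOpen_stable (i ≫ f) _ U a t.2))
    (hequivZ _ fun t s => rfl) z (fun t => hz t)
  have hmem := fixed_mem_span_image R' β hβ sy hsy
  suffices ∃ y ∈ fixRing R' (fun t : colourStab a => secHom (WidePullback.base (fun _ : Fin d => f))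
      (chartOpen_le_base f W U a) (SymProd.permHom f d t) (SymProd.permHom_base f d _)
      (chartOpen_stable f W U a t.2)), tmap R' jO y = χZ.toLinearMap.lTensor R' sy by
    obtain ⟨y, hy, hyz⟩ := this
    exact ⟨0, y, hy, by rw [pow_zero, one_mul]; exact hyz.trans hzsy⟩
  clear hzsy hsy
  induction hmem using Submodule.span_induction with
  | mem x hx =>
    obtain ⟨t, ht, rfl⟩ := hx
    refine ⟨(1 : R') ⊗ₜ χX t, tmul_mem_fixRing 1 fun σ => ?_, ?_⟩
    · rw [hequivX (fun t : colourStab a => secHom (WidePullback.base (fun _ : Fin d => f))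
        (chartOpen_le_base f W U a) (SymProd.permHom f d t) (SymProd.permHom_base f d _)
        (chartOpen_stable f W U a t.2)) (fun _ _ => rfl), perm_eq_of_mem_TS ht]
    · rw [tmap_tmul, hcompat, LinearMap.lTensor_tmul]
      rfl
  | zero => exact ⟨0, zero_mem _, by simp⟩
  | add x y _ _ hx hy =>
    obtain ⟨x', hx', ex⟩ := hx
    obtain ⟨y', hy', ey⟩ := hy
    exact ⟨x' + y', add_mem hx' hy', by rw [map_add, map_add, ex, ey]⟩
  | smul r x _ hx =>
    obtain ⟨x', hx', ex⟩ := hx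
    refine ⟨(r ⊗ₜ 1) * x', mul_mem (tmul_mem_fixRing r fun _ => map_one _) hx', ?_⟩
    rw [map_mul, tmap_tmul, map_one, ex,
      show χZ.toLinearMap.lTensor R' (r • x) = r • χZ.toLinearMap.lTensor R' x from
        (χZ.toLinearMap.baseChange R').map_smul r x, Algebra.smul_def, Algebra.TensorProduct.algebraMap_apply,
      Algebra.algebraMap_self, RingHom.id_apply]

/-- Invariant sections on the fibre power of a closed subscheme come from the symmetric product. -/
theorem fixed_mem_range_closed {P : Scheme.{u}} [IsClosedImmersion i] (q : SymProd.fibPow f d ⟶ P)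
    (pP : P ⟶ S) (hq : SymProd.IsSymProd f d q pP) (hU : IsAffineOpen U) {V : P.Opens} (hV : IsAffineOpen V)
    (hVU : V ≤ pP ⁻¹ᵁ U)
    (hDb : SymProd.fibPowMap (i ≫ f) d f i rfl ⁻¹ᵁ (q ⁻¹ᵁ V) ≤
      (WidePullback.base (fun _ : Fin d => i ≫ f)) ⁻¹ᵁ U)
    (R' : Type u) [CommRing R'] [Algebra Γ(S, U) R']
    (hflat : ∀ W : Z.Opens, IsAffineOpen W → ∀ h : W ≤ (i ≫ f) ⁻¹ᵁ U,
      letI := ((i ≫ f).appLE U W h).hom.toAlgebra
      Module.Flat R' (R' ⊗[Γ(S, U)] Γ(Z, W))) :
    letI := (pP.appLE U V hVU).hom.toAlgebra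
    letI := ((WidePullback.base (fun _ : Fin d => i ≫ f)).appLE U
      (SymProd.fibPowMap (i ≫ f) d f i rfl ⁻¹ᵁ (q ⁻¹ᵁ V)) hDb).hom.toAlgebra
    ∀ (L : Γ(P, V) →ₗ[Γ(S, U)] Γ(SymProd.fibPow (i ≫ f) d, SymProd.fibPowMap (i ≫ f) d f i rfl ⁻¹ᵁ (q ⁻¹ᵁ V))),
      (∀ p, L p = ((SymProd.fibPowMap (i ≫ f) d f i rfl).app (q ⁻¹ᵁ V)).hom ((q.app V).hom p)) →
      ∀ z : R' ⊗[Γ(S, U)] Γ(SymProd.fibPow (i ≫ f) d, SymProd.fibPowMap (i ≫ f) d f i rfl ⁻¹ᵁ (q ⁻¹ᵁ V)),
        (∀ (σ : Equiv.Perm (Fin d)) (hσ : SymProd.fibPowMap (i ≫ f) d f i rfl ⁻¹ᵁ (q ⁻¹ᵁ V) ≤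
            SymProd.permHom (i ≫ f) d σ ⁻¹ᵁ (SymProd.fibPowMap (i ≫ f) d f i rfl ⁻¹ᵁ (q ⁻¹ᵁ V))),
          (secHom (WidePullback.base (fun _ : Fin d => i ≫ f)) hDb (SymProd.permHom (i ≫ f) d σ)
            (SymProd.permHom_base (i ≫ f) d σ) hσ).toLinearMap.lTensor R' z = z) →
        z ∈ LinearMap.range (L.lTensor R') := by
  classical
  haveI := hq.isQuot.affine
  haveI := isIntegralHom hq.isQuot
  set j := SymProd.fibPowMap (i ≫ f) d f i rfl with hjdef
  haveI : IsClosedImmersion j := isClosedImmersion_fibPowMap f i d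
  set bX := WidePullback.base (fun _ : Fin d => f) with hbX
  set bZ := WidePullback.base (fun _ : Fin d => i ≫ f) with hbZ
  let ρ := SymProd.permActU f d
  let ρZ := SymProd.permActU (i ≫ f) d
  have hρb : ∀ g, (ρ g).hom ≫ bX = bX := fun g => SymProd.permHom_base f d g.down
  have hρbZ : ∀ g, (ρZ g).hom ≫ bZ = bZ := fun g => SymProd.permHom_base (i ≫ f) d g.down
  have hρj : ∀ g, (ρZ g).hom ≫ j = j ≫ (ρ g).hom := fun g => fibPowMap_perm f i g.down
  have hjb : j ≫ bX = bZ := SymProd.fibPowMap_base _ _ _ _ _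
  let D := q ⁻¹ᵁ V
  let D' := j ⁻¹ᵁ D
  have hD : IsAffineOpen D := hV.preimage q
  have hD' : IsAffineOpen D' := hD.preimage j
  have hDX : D ≤ bX ⁻¹ᵁ U := fun z hz => by
    rw [hbX, ← hq.over]
    exact hVU hz
  have hDs : ∀ g, D ≤ (ρ g).hom ⁻¹ᵁ D := fun g => SGA1.preimage_le_of_inv ρ q hq.isQuot.inv g V
  have hD's : ∀ g, D' ≤ (ρZ g).hom ⁻¹ᵁ D' := fun g x hx => by
    change j.base ((ρZ g).hom.base x) ∈ D
    rw [← Scheme.Hom.comp_apply, hρj, Scheme.Hom.comp_apply]
    exact hDs g hx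
  letI := (pP.appLE U V hVU).hom.toAlgebra
  letI := (bX.appLE U D hDX).hom.toAlgebra
  letI := (bZ.appLE U D' hDb).hom.toAlgebra
  intro L hL z hz
  letI := action hq.isQuot V
  let qa : Γ(P, V) →ₐ[Γ(S, U)] Γ(SymProd.fibPow f d, D) :=
    { (q.app V).hom with
      commutes' := fun r => by
        change (pP.appLE U V hVU ≫ q.app V).hom r = (bX.appLE U D hDX).hom r
        rw [Scheme.Hom.app_eq_appLE, Scheme.Hom.appLE_comp_appLE]
        simp only [hq.over, ← hbX]
        rfl }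
  let ja : Γ(SymProd.fibPow f d, D) →ₐ[Γ(S, U)] Γ(SymProd.fibPow (i ≫ f) d, D') := mapHom j hjb le_rfl hDX hDb
  have hja : Function.Surjective ja := by
    have : Function.Surjective (j.appLE D D' le_rfl) := by
      rw [← Scheme.Hom.app_eq_appLE]; exact j.app_surjective D hD
    exact this
  let A' : ULift.{u} (Equiv.Perm (Fin d)) → (Γ(SymProd.fibPow (i ≫ f) d, D') →ₐ[Γ(S, U)] Γ(SymProd.fibPow (i ≫ f) d, D')) :=
    fun g => secHom bZ hDb (ρZ g⁻¹).hom (hρbZ _) (hD's _)
  let A₀ : ULift.{u} (Equiv.Perm (Fin d)) → (Γ(SymProd.fibPow f d, D) →ₐ[Γ(S, U)] Γ(SymProd.fibPow f d, D)) :=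
    fun g => secHom bX hDX (ρ g⁻¹).hom (hρb _) (hDs _)
  have hjA : ∀ g m, ja (A₀ g m) = A' g (ja m) := fun g m => mapHom_comm j _ _ (hρj _) _ _ _ m
  have hint : ((tmap R' ja).comp (tmap R' qa)).IsIntegral :=
    RingHom.IsIntegral.trans _ _ (isIntegral_tmap R' qa (isIntegral_app hq.isQuot V))
      (RingHom.isIntegral_of_surjective _ (tmap_surjective R' ja hja))
  have hmain := lift_fixed (tmap R' qa) (tmap R' ja) hint (fun g => tmap R' (A₀ g)) (fun g => tmap R' (A' g))
    (fun g x => by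
      induction x with
      | zero => simp
      | add x y hx hy => simp only [map_add, hx, hy]
      | tmul r m => simp only [tmap_tmul, hjA])
    (fun g g' x => by
      induction x with
      | zero => simp
      | add x y hx hy => simp only [map_add, hx, hy]
      | tmul r m =>
        simp only [tmap_tmul]
        congr 1
        change _ = ((ρ g⁻¹).hom.appLE D D _).hom (((ρ g'⁻¹).hom.appLE D D _).hom m)
        rw [appLE_hom_mul ρ g'⁻¹ g⁻¹ _ _ (hDs _)]
        change ((ρ (g * g')⁻¹).hom.appLE D D _).hom m = _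
        simp only [mul_inv_rev])
    (fun Q hQ => ?_) z (fun g => hz _ _)
  · obtain ⟨w, hw⟩ := hmain
    refine ⟨w, ?_⟩
    rw [← hw]
    clear hw
    induction w with
    | zero => simp
    | add x y hx hy => simp only [map_add, hx, hy]
    | tmul r p =>
      rw [LinearMap.lTensor_tmul, hL, RingHom.comp_apply, tmap_tmul, tmap_tmul, Scheme.Hom.app_eq_appLE (f := j)]
      rfl
  let inc : Γ(SymProd.fibPow f d, D) →ₐ[Γ(S, U)] R' ⊗[Γ(S, U)] Γ(SymProd.fibPow f d, D) :=
    Algebra.TensorProduct.includeRight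
  let Qc : PrimeSpectrum Γ(SymProd.fibPow f d, D) := ⟨Q.asIdeal.comap inc.toRingHom, inferInstance⟩
  have hker : RingHom.ker ja.toRingHom ≤ Qc.asIdeal := fun m hm => hQ (by
    change tmap R' ja ((1 : R') ⊗ₜ m) = 0
    rw [tmap_tmul, show ja m = 0 from hm, TensorProduct.tmul_zero])
  haveI : (Qc.asIdeal.map ja.toRingHom).IsPrime := Ideal.map_isPrime_of_surjective hja hker
  let Q' : PrimeSpectrum Γ(SymProd.fibPow (i ≫ f) d, D') := ⟨Qc.asIdeal.map ja.toRingHom, inferInstance⟩
  have hQ' : PrimeSpectrum.comap ja.toRingHom Q' = Qc := by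
    refine PrimeSpectrum.ext ?_
    change (Qc.asIdeal.map ja.toRingHom).comap ja.toRingHom = Qc.asIdeal
    rw [Ideal.comap_map_of_surjective ja.toRingHom hja]
    exact sup_eq_left.2 hker
  set x' := hD'.fromSpec Q' with hx'
  have hx'D : x' ∈ D' := hD'.range_fromSpec.le ⟨Q', rfl⟩
  have hx : hD.fromSpec Qc = j.base x' := by
    rw [← hQ', hx', ← Scheme.Hom.comp_apply, ← IsAffineOpen.SpecMap_appLE_fromSpec j hD hD' le_rfl,
      Scheme.Hom.comp_apply]
    rfl
  have hxD : j.base x' ∈ D := hx'D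
  let κ : Type u := Set.range fun k : Fin d => (WidePullback.π (fun _ : Fin d => f) k).base (j.base x')
  let a : Fin d → κ := fun k => ⟨(WidePullback.π (fun _ : Fin d => f) k).base (j.base x'), ⟨k, rfl⟩⟩
  have hxU : bX.base (j.base x') ∈ U := hDX hxD
  have hk : ∀ k : κ, ∃ W : X.Opens, IsAffineOpen W ∧ k.1 ∈ W ∧ W ≤ f ⁻¹ᵁ U := fun k => by
    obtain ⟨l, hl⟩ := k.2
    obtain ⟨W, hW, hkW, hWU⟩ := exists_isAffineOpen_mem_and_subset (U := f ⁻¹ᵁ U) (x := k.1) (by
      change f.base k.1 ∈ U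
      rw [← hl, ← Scheme.Hom.comp_apply, WidePullback.π_arrow]
      exact hxU)
    exact ⟨W, hW, hkW, hWU⟩
  choose W hW hkW hWU using hk
  obtain ⟨hO, hOT⟩ := liftFix_of_chart f i W U a hU hW hWU R' fun k => hflat _ ((hW k).preimage i) _
  let O := chartOpen f W U a
  let O' := chartOpen (i ≫ f) (fun k => i ⁻¹ᵁ W k) U a
  have hOO' : O' = j ⁻¹ᵁ O := chartOpen_preimage f i W U a
  let H : Subgroup (ULift.{u} (Equiv.Perm (Fin d))) := (colourStab a).comap MulEquiv.ulift.toMonoidHom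
  have hOs : StabBy ρ H O := fun g hg => chartOpen_stable f W U a hg
  have hO's : StabBy ρZ H O' := fun g hg => chartOpen_stable (i ≫ f) _ U a hg
  have hxO : j.base x' ∈ O := (mem_chartOpen f W U a).2 ⟨hxU, fun k => hkW (a k)⟩
  have hstab : ∀ g, (ρ g).hom.base (j.base x') = j.base x' → g ∈ H := fun g hg => by
    refine (Subgroup.inv_mem_iff _).1 fun k => Subtype.ext ?_
    change (WidePullback.π (fun _ : Fin d => f) (g.down.symm k)).base (j.base x') = _
    rw [← SymProd.permHom_π f d g.down k, Scheme.Hom.comp_apply]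
    exact congrArg (fun z => (WidePullback.π (fun _ : Fin d => f) k).base z) hg
  obtain ⟨c, n, hcfix, hn, hcn, hxc, hgc⟩ :=
    exists_principal ρ H hO hD hOs (fun g _ => hDs g) hxO hxD hstab
  refine ⟨H, (1 : R') ⊗ₜ c, fixRing R' (fun t : H => A₀ t), ?_, tmul_mem_fixRing 1 (fun t => hcfix _ (H.inv_mem t.2)),
    ?_, ?_, ?_, ?_⟩
  · intro g hg
    rw [tmap_tmul]
    exact congrArg _ (hcfix _ (H.inv_mem hg))
  · intro h
    refine (mem_prime_iff hD Qc c).1 h ?_
    rw [hx]
    exact hxc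
  · intro g hg
    rw [tmap_tmul]
    change A₀ g c ∈ Qc.asIdeal
    refine (mem_prime_iff hD Qc _).2 fun hmem => hgc g hg ?_
    rw [hx] at hmem
    change j.base x' ∈ (SymProd.fibPow f d).basicOpen (((ρ g⁻¹).hom.appLE D D _).hom c) at hmem
    rw [Scheme.basicOpen_appLE] at hmem
    exact hmem.2
  · let N := (SymProd.fibPow f d).basicOpen n
    let N' := j ⁻¹ᵁ N
    have hNO : N ≤ O := Scheme.basicOpen_le _ n
    have hND : N ≤ D := hcn.symm.le.trans (Scheme.basicOpen_le _ c)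
    have hN's : N' ≤ O' := fun y hy => hOO'.ge (hNO hy)
    have hN'D : N' ≤ D' := fun y hy => hND hy
    have hNb : N ≤ bX ⁻¹ᵁ U := hND.trans hDX
    have hN'b : N' ≤ bZ ⁻¹ᵁ U := hN'D.trans hDb
    letI := (bX.appLE U O (chartOpen_le_base f W U a)).hom.toAlgebra
    letI := (bZ.appLE U O' (chartOpen_le_base (i ≫ f) _ U a)).hom.toAlgebra
    letI := (bX.appLE U N hNb).hom.toAlgebra
    letI := (bZ.appLE U N' hN'b).hom.toAlgebra
    have hNs : StabBy ρ H N := fun g hg => stable_basicOpen _ (hOs g hg) (hn g hg)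
    have hN'st : StabBy ρZ H N' := fun g hg y hy => by
      change j.base ((ρZ g).hom.base y) ∈ N
      rw [← Scheme.Hom.comp_apply, hρj, Scheme.Hom.comp_apply]
      exact hNs g hg hy
    let jO : Γ(SymProd.fibPow f d, O) →ₐ[Γ(S, U)] Γ(SymProd.fibPow (i ≫ f) d, O') :=
      mapHom j hjb hOO'.le (chartOpen_le_base f W U a) (chartOpen_le_base (i ≫ f) _ U a)
    let jN : Γ(SymProd.fibPow f d, N) →ₐ[Γ(S, U)] Γ(SymProd.fibPow (i ≫ f) d, N') := mapHom j hjb le_rfl hNb hN'b
    let τO : H → (Γ(SymProd.fibPow f d, O) →ₐ[Γ(S, U)] Γ(SymProd.fibPow f d, O)) := fun t =>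
      secHom bX (chartOpen_le_base f W U a) (ρ (t : ULift.{u} (Equiv.Perm (Fin d)))⁻¹).hom (hρb _) (hOs _ (H.inv_mem t.2))
    let τO' : H → (Γ(SymProd.fibPow (i ≫ f) d, O') →ₐ[Γ(S, U)] Γ(SymProd.fibPow (i ≫ f) d, O')) := fun t =>
      secHom bZ (chartOpen_le_base (i ≫ f) _ U a) (ρZ (t : ULift.{u} (Equiv.Perm (Fin d)))⁻¹).hom (hρbZ _) (hO's _ (H.inv_mem t.2))
    let τN : H → (Γ(SymProd.fibPow f d, N) →ₐ[Γ(S, U)] Γ(SymProd.fibPow f d, N)) := fun t =>
      secHom bX hNb (ρ (t : ULift.{u} (Equiv.Perm (Fin d)))⁻¹).hom (hρb _) (hNs _ (H.inv_mem t.2))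
    let τN' : H → (Γ(SymProd.fibPow (i ≫ f) d, N') →ₐ[Γ(S, U)] Γ(SymProd.fibPow (i ≫ f) d, N')) := fun t =>
      secHom bZ hN'b (ρZ (t : ULift.{u} (Equiv.Perm (Fin d)))⁻¹).hom (hρbZ _) (hN'st _ (H.inv_mem t.2))
    have hchart : LiftFix (fixRing R' τO) (tmap R' jO) (fun t => tmap R' (τO' t)) 1 := by
      have := LiftFix.comp_fixRing (c := (1 : Γ(SymProd.fibPow f d, O))) hOT
        (fun t : H => (⟨((t⁻¹ : H) : ULift.{u} (Equiv.Perm (Fin d))).down, (t⁻¹).2⟩ : colourStab a))
        fun t => ⟨⟨⟨((t⁻¹ : colourStab a) : Equiv.Perm (Fin d))⟩, (t⁻¹).2⟩, Subtype.ext (inv_inv _)⟩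
      exact this
    -- restriction to the principal open, on both sides
    have hres : ∀ {V₁ : (SymProd.fibPow f d).Opens} {V₁' : (SymProd.fibPow (i ≫ f) d).Opens}
        (h : N ≤ V₁) (h' : N' ≤ V₁') (e : V₁' ≤ j ⁻¹ᵁ V₁) (m : Γ(SymProd.fibPow f d, V₁)),
        (j.appLE N N' le_rfl).hom (((SymProd.fibPow f d).presheaf.map (homOfLE h).op).hom m) =
          ((SymProd.fibPow (i ≫ f) d).presheaf.map (homOfLE h').op).hom ((j.appLE V₁ V₁' e).hom m) := by
      intro V₁ V₁' h h' e m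
      change ((SymProd.fibPow f d).presheaf.map (homOfLE h).op ≫ j.appLE N N' le_rfl).hom m =
        (j.appLE V₁ V₁' e ≫ (SymProd.fibPow (i ≫ f) d).presheaf.map (homOfLE h').op).hom m
      rw [Scheme.Hom.map_appLE, Scheme.Hom.appLE_map]
    letI := ((SymProd.fibPow f d).presheaf.map (homOfLE hNO).op).hom.toAlgebra
    letI := ((SymProd.fibPow (i ≫ f) d).presheaf.map (homOfLE hN's).op).hom.toAlgebra
    haveI : IsScalarTower Γ(S, U) Γ(SymProd.fibPow f d, O) Γ(SymProd.fibPow f d, N) :=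
      IsScalarTower.of_algebraMap_eq' (by
        change _ = (bX.appLE U O (chartOpen_le_base f W U a) ≫ (SymProd.fibPow f d).presheaf.map (homOfLE hNO).op).hom
        rw [Scheme.Hom.appLE_map]
        rfl)
    haveI : IsScalarTower Γ(S, U) Γ(SymProd.fibPow (i ≫ f) d, O') Γ(SymProd.fibPow (i ≫ f) d, N') :=
      IsScalarTower.of_algebraMap_eq' (by
        change _ = (bZ.appLE U O' (chartOpen_le_base (i ≫ f) _ U a) ≫ (SymProd.fibPow (i ≫ f) d).presheaf.map (homOfLE hN's).op).hom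
        rw [Scheme.Hom.appLE_map]
        rfl)
    haveI := hO.isLocalization_of_eq_basicOpen n (homOfLE hNO) rfl
    haveI : IsLocalization.Away (jO n) Γ(SymProd.fibPow (i ≫ f) d, N') := by
      have hO'aff : IsAffineOpen O' := by rw [hOO']; exact hO.preimage j
      refine hO'aff.isLocalization_of_eq_basicOpen (jO n) (homOfLE hN's) ?_
      change N' = (SymProd.fibPow (i ≫ f) d).basicOpen ((j.appLE O O' _).hom n)
      rw [Scheme.basicOpen_appLE]
      exact (inf_eq_right.2 hN's).symm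
    have h1 : LiftFix (fixRing R' τN) (tmap R' jN) (fun t => tmap R' (τN' t)) 1 :=
      liftFix_tensor_loc (c := n) (πa := jO) (πL := jN) (τ := τO) (τ' := τO') (τL := τN) (τL' := τN') (fun m => hres hNO hN's hOO'.le m) (fun t => hn _ (H.inv_mem t.2))
        (fun t m => mapHom_comm j _ _ (hρj _) _ _ _ m) (fun t m => secHom_map _ _ _ _ m)
        (fun t m => secHom_map _ _ _ _ m) hchart
    letI := ((SymProd.fibPow f d).presheaf.map (homOfLE hND).op).hom.toAlgebra
    letI := ((SymProd.fibPow (i ≫ f) d).presheaf.map (homOfLE hN'D).op).hom.toAlgebra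
    haveI : IsScalarTower Γ(S, U) Γ(SymProd.fibPow f d, D) Γ(SymProd.fibPow f d, N) :=
      IsScalarTower.of_algebraMap_eq' (by
        change _ = (bX.appLE U D hDX ≫ (SymProd.fibPow f d).presheaf.map (homOfLE hND).op).hom
        rw [Scheme.Hom.appLE_map]
        rfl)
    haveI : IsScalarTower Γ(S, U) Γ(SymProd.fibPow (i ≫ f) d, D') Γ(SymProd.fibPow (i ≫ f) d, N') :=
      IsScalarTower.of_algebraMap_eq' (by
        change _ = (bZ.appLE U D' hDb ≫ (SymProd.fibPow (i ≫ f) d).presheaf.map (homOfLE hN'D).op).hom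
        rw [Scheme.Hom.appLE_map]
        rfl)
    haveI := hD.isLocalization_of_eq_basicOpen c (homOfLE hND) hcn.symm
    haveI : IsLocalization.Away (ja c) Γ(SymProd.fibPow (i ≫ f) d, N') := by
      refine hD'.isLocalization_of_eq_basicOpen (ja c) (homOfLE hN'D) ?_
      change N' = (SymProd.fibPow (i ≫ f) d).basicOpen ((j.appLE D D' _).hom c)
      rw [Scheme.basicOpen_appLE, hcn]
      exact (inf_eq_right.2 hN'D).symm
    exact liftFix_tensor_of_loc (c := c) (πa := ja) (πL := jN) (τL := τN) (τL' := τN') (fun m => hres hND hN'D le_rfl m)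
      (fun t => hcfix _ (H.inv_mem t.2)) (fun t m => secHom_map _ _ _ _ m) (fun t m => secHom_map _ _ _ _ m) h1
  · intro _ y hy
    obtain ⟨w, rfl⟩ := hy
    induction w with
    | zero => simp only [map_zero, Finset.sum_const_zero]; exact zero_mem _
    | add x y hx hy => simp only [map_add, Finset.sum_add_distrib]; exact add_mem hx hy
    | tmul r m =>
      have hmfix : ∀ g ∈ H, g • (m : Γ(SymProd.fibPow f d, D)) = m := fun g hg => m.2 ⟨g, hg⟩
      let T := ∑ q : ULift.{u} (Equiv.Perm (Fin d)) ⧸ H, q.out • (m : Γ(SymProd.fibPow f d, D))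
      have hT : ∀ g, g • T = T := fun g => by
        have hsum : g • T = ∑ q : ULift.{u} (Equiv.Perm (Fin d)) ⧸ H, g • q.out • (m : Γ(SymProd.fibPow f d, D)) :=
          map_sum (MulSemiringAction.toRingHom (ULift.{u} (Equiv.Perm (Fin d))) Γ(SymProd.fibPow f d, D) g) _ _
        rw [hsum]
        simp only [T, ← mul_smul]
        refine Fintype.sum_equiv (MulAction.toPerm g) _ _ fun p => ?_
        obtain ⟨t, ht⟩ := QuotientGroup.mk_out_eq_mul H (g * p.out)
        have hq : (g * p.out : ULift.{u} (Equiv.Perm (Fin d))) = g • p := by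
          conv_rhs => rw [← p.out_eq]
          rfl
        rw [MulAction.toPerm_apply, ← hq, ht, mul_smul (g * p.out), hmfix t t.2, mul_smul]
      obtain ⟨p, hp⟩ := (hq.isQuot.range_iff V T).2 fun g => by
        have : act hq.isQuot V (g⁻¹)⁻¹ T = T := hT g⁻¹
        rwa [inv_inv] at this
      refine ⟨r ⊗ₜ p, ?_⟩
      simp only [tmap_tmul, ← TensorProduct.tmul_sum]
      exact congrArg _ hp

end Groth.Agent.SGA1QuotLib
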