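import Mathlib
import Groth.Prelude.Def_SymProd
import Groth.Agent.S13395
import Groth.Agent.SGA1QuotLib.SymBaseChange
import Groth.Agent.SGA1QuotLib.BaseChange

/-! Symmetric products of flat schemes commute with every base change. -/

universe u
open CategoryTheory CategoryTheory.Limits AlgebraicGeometry Opposite TopologicalSpace
open scoped TensorProduct

noncomputable section

namespace Groth.Agent.SGA1QuotLib

set_option linter.style.haveILetI false

/-- If the invariants of every scalar extension by an algebra come from below, then the invariants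
inject after every extension. -/
theorem injective_lTensor_of_fixed_mem_range {R A M : Type u} [CommRing R] [AddCommGroup A] [Module R A]
    [AddCommGroup M] [Module R M] [Module.Flat R M] (L : A →ₗ[R] M) (hL : Function.Injective L)
    {κ : Type*} (τ : κ → (M →ₗ[R] M)) (hτ : ∀ k, τ k ∘ₗ L = L)
    (h : ∀ (R'' : Type u) [CommRing R''] [Algebra R R''] (z : R'' ⊗[R] M),
      (∀ k, (τ k).lTensor R'' z = z) → z ∈ LinearMap.range (L.lTensor R''))
    (N : Type u) [AddCommGroup N] [Module R N] : Function.Injective (L.lTensor N) := by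
  rw [injective_iff_map_eq_zero]
  intro w hw
  let p : (N →₀ R) →ₗ[R] N := Finsupp.linearCombination R id
  have hp : Function.Surjective p := fun n => ⟨Finsupp.single n 1, by simp [p]⟩
  let I := LinearMap.ker p
  obtain ⟨w', rfl⟩ := LinearMap.rTensor_surjective A hp w
  have hzp : p.rTensor M (L.lTensor (N →₀ R) w') = 0 := by
    rw [← LinearMap.comp_apply, LinearMap.rTensor_comp_lTensor, ← LinearMap.lTensor_comp_rTensor]
    exact hw
  obtain ⟨y, hy⟩ : ∃ y, I.subtype.rTensor M y = L.lTensor (N →₀ R) w' := by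
    rw [← LinearMap.mem_range, ← LinearMap.exact_iff.1
      (rTensor_exact (M := I) M (LinearMap.exact_subtype_ker_map p) hp), LinearMap.mem_ker]
    exact hzp
  have hinjM : Function.Injective (I.subtype.rTensor M) :=
    Module.Flat.rTensor_preserves_injective_linearMap _ Subtype.val_injective
  have hyfix : ∀ k, (τ k).lTensor I y = y := fun k => hinjM (by
    rw [← LinearMap.comp_apply, LinearMap.rTensor_comp_lTensor, ← LinearMap.lTensor_comp_rTensor,
      LinearMap.comp_apply, hy, ← LinearMap.comp_apply, ← LinearMap.lTensor_comp, hτ])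
  let inr : I →ₗ[R] TrivSqZeroExt R I := TrivSqZeroExt.inrHom R I
  let snd : TrivSqZeroExt R I →ₗ[R] I := TrivSqZeroExt.sndHom R I
  obtain ⟨v, hv⟩ := h (TrivSqZeroExt R I) (inr.rTensor M y) fun k => by
    rw [← LinearMap.comp_apply, LinearMap.lTensor_comp_rTensor, ← LinearMap.rTensor_comp_lTensor,
      LinearMap.comp_apply, hyfix]
  have hy' : y = L.lTensor I (snd.rTensor A v) := by
    rw [← LinearMap.comp_apply, LinearMap.lTensor_comp_rTensor, ← LinearMap.rTensor_comp_lTensor,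
      LinearMap.comp_apply, hv, ← LinearMap.comp_apply, ← LinearMap.rTensor_comp,
      show snd ∘ₗ inr = LinearMap.id from LinearMap.ext fun m => TrivSqZeroExt.snd_inr R m,
      LinearMap.rTensor_id, LinearMap.id_apply]
  have hw' : w' = I.subtype.rTensor A (snd.rTensor A v) :=
    Module.Flat.lTensor_preserves_injective_linearMap L hL (by
      rw [← hy, hy', ← LinearMap.comp_apply, LinearMap.rTensor_comp_lTensor,
        ← LinearMap.lTensor_comp_rTensor, LinearMap.comp_apply])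
  rw [hw', ← LinearMap.comp_apply, ← LinearMap.rTensor_comp,
    show p ∘ₗ I.subtype = 0 from LinearMap.ext fun m => m.2, LinearMap.rTensor_zero, LinearMap.zero_apply]

variable {X Y : Scheme.{u}} {G : Type u} [Group G] {ρ : G →* Aut X} {p : X ⟶ Y}

/-- Invariant sections pass to smaller affines. -/
theorem invariant_sections_mono [Finite G] [IsAffineHom p] (hinv : ∀ g, (ρ g).hom ≫ p = p) {B V : Y.Opens}
    (hB : IsAffineOpen B) (hV : IsAffineOpen V) (e1 : V ≤ B)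
    (hBi : Function.Injective (p.app B).hom)
    (hBr : ∀ s : Γ(X, p ⁻¹ᵁ B), (∀ g : G, ((ρ g).hom.appLE (p ⁻¹ᵁ B) (p ⁻¹ᵁ B)
      (SGA1.preimage_le_of_inv ρ p hinv g B)).hom s = s) → s ∈ Set.range (p.app B).hom) :
    Function.Injective (p.app V).hom ∧ ∀ s : Γ(X, p ⁻¹ᵁ V), (∀ g : G, ((ρ g).hom.appLE (p ⁻¹ᵁ V) (p ⁻¹ᵁ V)
      (SGA1.preimage_le_of_inv ρ p hinv g V)).hom s = s) → s ∈ Set.range (p.app V).hom := by
  have hX : IsPullback (𝟙 X) p p (𝟙 Y) := IsPullback.of_horiz_isIso ⟨by simp⟩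
  have e2 : p ⁻¹ᵁ V ≤ (𝟙 X : X ⟶ X) ⁻¹ᵁ p ⁻¹ᵁ B := fun z hz => e1 hz
  have hUY : p ⁻¹ᵁ V = (𝟙 X : X ⟶ X) ⁻¹ᵁ (p ⁻¹ᵁ B) ⊓ p ⁻¹ᵁ V := (inf_eq_right.2 e2).symm
  have e1' : V ≤ (𝟙 Y : Y ⟶ Y) ⁻¹ᵁ B := e1
  have hpo := (isIso_pushoutSection_iff hX e1' le_rfl hUY).1
    (isIso_pushoutSection_of_isAffineOpen hX e1' le_rfl hUY hB hV (hB.preimage p))
  simp only [← Scheme.Hom.app_eq_appLE] at hpo
  algebraize [(p.app B).hom, ((𝟙 Y : Y ⟶ Y).appLE B V e1').hom, (p.app V).hom,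
    ((𝟙 X : X ⟶ X).appLE _ _ e2).hom, ((p.app V).hom.comp ((𝟙 Y : Y ⟶ Y).appLE B V e1').hom)]
  haveI : IsScalarTower Γ(Y, B) Γ(X, p ⁻¹ᵁ B) Γ(X, p ⁻¹ᵁ V) :=
    IsScalarTower.of_algebraMap_eq' (congrArg CommRingCat.Hom.hom hpo.w).symm
  haveI : Algebra.IsPushout Γ(Y, B) Γ(Y, V) Γ(X, p ⁻¹ᵁ B) Γ(X, p ⁻¹ᵁ V) :=
    CommRingCat.isPushout_iff_isPushout.mp hpo.flip
  haveI : Module.Flat Γ(Y, B) Γ(Y, V) := (𝟙 Y : Y ⟶ Y).flat_appLE hB hV e1'
  exact invariants_of_isPushout Γ(Y, B) Γ(X, p ⁻¹ᵁ B) Γ(Y, V) Γ(X, p ⁻¹ᵁ V)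
    (fun g => ((ρ g).hom.appLE (p ⁻¹ᵁ B) (p ⁻¹ᵁ B) (SGA1.preimage_le_of_inv ρ p hinv g B)).hom)
    (fun g => ((ρ g).hom.appLE (p ⁻¹ᵁ V) (p ⁻¹ᵁ V) (SGA1.preimage_le_of_inv ρ p hinv g V)).hom)
    (fun g a => by
      change (p.app B ≫ (ρ g).hom.appLE _ _ _).hom a = (p.app B).hom a
      rw [Scheme.Hom.app_eq_appLE, Scheme.Hom.appLE_comp_appLE]
      simp only [hinv g])
    (fun g a => by
      change (p.app V ≫ (ρ g).hom.appLE _ _ _).hom a = (p.app V).hom a
      rw [Scheme.Hom.app_eq_appLE, Scheme.Hom.appLE_comp_appLE]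
      simp only [hinv g])
    (fun g b => by
      change ((𝟙 X : X ⟶ X).appLE _ _ e2 ≫ (ρ g).hom.appLE _ _ _).hom b =
        ((ρ g).hom.appLE _ _ _ ≫ (𝟙 X : X ⟶ X).appLE _ _ e2).hom b
      rw [Scheme.Hom.appLE_comp_appLE, Scheme.Hom.appLE_comp_appLE]
      simp only [Category.comp_id, Category.id_comp])
    hBi hBr

/-- Symmetric products of flat schemes commute with base change. -/
theorem isQuot_of_isPullback_symProd {X S S' P Z' W' : Scheme.{u}} (f : X ⟶ S) [Flat f] (d : ℕ)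
    (q : SymProd.fibPow f d ⟶ P) (pP : P ⟶ S) (hq : SymProd.IsSymProd f d q pP) (gS : S' ⟶ S)
    (fs : Z' ⟶ SymProd.fibPow f d) (sn : Z' ⟶ S')
    (H : IsPullback fs sn (WidePullback.base (fun _ : Fin d => f)) gS)
    (a : W' ⟶ P) (bb : W' ⟶ S') (HW : IsPullback a bb pP gS)
    (p' : Z' ⟶ W') (h1 : p' ≫ a = fs ≫ q) (h2 : p' ≫ bb = sn)
    (ρ' : ULift.{u} (Equiv.Perm (Fin d)) →* Aut Z')
    (hρ₁ : ∀ σ, (ρ' σ).hom ≫ fs = fs ≫ SymProd.permHom f d σ.down)
    (hρ₂ : ∀ σ, (ρ' σ).hom ≫ p' = p') : SGA1.IsQuot ρ' p' := by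
  haveI := hq.isQuot.affine
  have hX : IsPullback fs p' q a := by
    refine .of_bot ?_ h1.symm HW
    rw [hq.over, h2]
    exact H
  haveI : IsAffineHom p' := MorphismProperty.of_isPullback hX inferInstance
  refine isQuot_of_forall_exists hρ₂ fun O y hy => ?_
  obtain ⟨U, hU, hyU, -⟩ := exists_isAffineOpen_mem_and_subset (Opens.mem_top (pP.base (a.base y)))
  obtain ⟨V, hV, hyV, hVU⟩ := exists_isAffineOpen_mem_and_subset (U := pP ⁻¹ᵁ U) hyU
  obtain ⟨U', hU', hyU', hU'U⟩ := exists_isAffineOpen_mem_and_subset (U := gS ⁻¹ᵁ U) (x := bb.base y) (by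
    change gS.base (bb.base y) ∈ U
    rw [← Scheme.Hom.comp_apply, ← HW.w]
    exact hyU)
  let B := a ⁻¹ᵁ V ⊓ bb ⁻¹ᵁ U'
  have hB : IsAffineOpen B := by
    haveI : IsAffine (U : Scheme.{u}) := hU
    haveI : IsAffine (U' : Scheme.{u}) := hU'
    haveI : IsAffine (V : Scheme.{u}) := hV
    exact .of_isIso (Scheme.Hom.isPullback_resLE HW hU'U hVU (rfl : B = _)).isoPullback.hom
  obtain ⟨D, hD, hyD, hDB⟩ := exists_isAffineOpen_mem_and_subset (x := y) (U := O ⊓ B) ⟨hy, hyV, hyU'⟩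
  refine ⟨D, hyD, hDB.trans inf_le_left, ?_⟩
  set b := WidePullback.base (fun _ : Fin d => f) with hb
  haveI : Flat b := Groth.Agent.S13395.flat_base f d
  have hDV : IsAffineOpen (q ⁻¹ᵁ V) := hV.preimage q
  have hDb : q ⁻¹ᵁ V ≤ b ⁻¹ᵁ U := fun z hz => by
    rw [hb, ← hq.over]
    exact hVU hz
  let E := p' ⁻¹ᵁ B
  have hE : E = fs ⁻¹ᵁ (q ⁻¹ᵁ V) ⊓ sn ⁻¹ᵁ U' := by
    simp only [E, B, Scheme.Hom.preimage_inf, ← Scheme.Hom.comp_preimage, h1, h2]
  have hpoZ := (isIso_pushoutSection_iff H hU'U hDb hE).1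
    (isIso_pushoutSection_of_isAffineOpen H hU'U hDb hE hU hU' hDV)
  have hpoW := (isIso_pushoutSection_iff HW hU'U hVU (rfl : B = _)).1
    (isIso_pushoutSection_of_isAffineOpen HW hU'U hVU rfl hU hU' hV)
  let snh := (sn.appLE U' E (hE.le.trans inf_le_right)).hom
  let fsh := (fs.appLE (q ⁻¹ᵁ V) E (hE.le.trans inf_le_left)).hom
  let bbh := (bb.appLE U' B inf_le_right).hom
  let ah := (a.appLE V B inf_le_left).hom
  letI := (gS.appLE U U' hU'U).hom.toAlgebra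
  letI := (b.appLE U (q ⁻¹ᵁ V) hDb).hom.toAlgebra
  letI := (pP.appLE U V hVU).hom.toAlgebra
  letI := snh.toAlgebra
  letI := fsh.toAlgebra
  letI := bbh.toAlgebra
  letI := ah.toAlgebra
  letI := (snh.comp (gS.appLE U U' hU'U).hom).toAlgebra
  letI := (bbh.comp (gS.appLE U U' hU'U).hom).toAlgebra
  haveI : IsScalarTower Γ(S, U) Γ(S', U') Γ(Z', E) := IsScalarTower.of_algebraMap_eq' rfl
  haveI : IsScalarTower Γ(S, U) Γ(S', U') Γ(W', B) := IsScalarTower.of_algebraMap_eq' rfl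
  haveI : IsScalarTower Γ(S, U) Γ(SymProd.fibPow f d, q ⁻¹ᵁ V) Γ(Z', E) :=
    IsScalarTower.of_algebraMap_eq' (congrArg CommRingCat.Hom.hom hpoZ.w).symm
  haveI : IsScalarTower Γ(S, U) Γ(P, V) Γ(W', B) :=
    IsScalarTower.of_algebraMap_eq' (congrArg CommRingCat.Hom.hom hpoW.w).symm
  haveI : Algebra.IsPushout Γ(S, U) Γ(S', U') Γ(SymProd.fibPow f d, q ⁻¹ᵁ V) Γ(Z', E) :=
    CommRingCat.isPushout_iff_isPushout.mp hpoZ.flip
  haveI : Algebra.IsPushout Γ(S, U) Γ(S', U') Γ(P, V) Γ(W', B) :=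
    CommRingCat.isPushout_iff_isPushout.mp hpoW.flip
  let eZ := Algebra.IsPushout.equiv Γ(S, U) Γ(S', U') Γ(SymProd.fibPow f d, q ⁻¹ᵁ V) Γ(Z', E)
  let eW := Algebra.IsPushout.equiv Γ(S, U) Γ(S', U') Γ(P, V) Γ(W', B)
  let τ : Equiv.Perm (Fin d) → (Γ(SymProd.fibPow f d, q ⁻¹ᵁ V) →ₐ[Γ(S, U)] Γ(SymProd.fibPow f d, q ⁻¹ᵁ V)) :=
    fun σ => secHom b hDb (SymProd.permHom f d σ) (SymProd.permHom_base f d σ)
      (SGA1.preimage_le_of_inv (SymProd.permActU f d) q hq.isQuot.inv ⟨σ⟩ V)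
  let L : Γ(P, V) →ₗ[Γ(S, U)] Γ(SymProd.fibPow f d, q ⁻¹ᵁ V) :=
    { toFun := (q.app V).hom
      map_add' := map_add _
      map_smul' := fun r p => by
        rw [Algebra.smul_def, Algebra.smul_def, map_mul, RingHom.id_apply]
        congr 1
        change (pP.appLE U V hVU ≫ q.app V).hom r = (b.appLE U (q ⁻¹ᵁ V) hDb).hom r
        rw [Scheme.Hom.app_eq_appLE, Scheme.Hom.appLE_comp_appLE]
        simp only [hq.over, ← hb] }
  haveI : Module.Flat Γ(S, U) Γ(SymProd.fibPow f d, q ⁻¹ᵁ V) := b.flat_appLE hU hDV hDb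
  have hfix : ∀ (R'' : Type u) [CommRing R''] [Algebra Γ(S, U) R'']
      (z : R'' ⊗[Γ(S, U)] Γ(SymProd.fibPow f d, q ⁻¹ᵁ V)),
      (∀ σ, (τ σ).toLinearMap.lTensor R'' z = z) → z ∈ LinearMap.range (L.lTensor R'') :=
    fun R'' _ _ => fixed_mem_range_of_isSymProd f d q pP hq hU hV hVU hDb R''
      (fun W hW h => by
        letI := (f.appLE U W h).hom.toAlgebra
        haveI : Module.Flat Γ(S, U) Γ(X, W) := f.flat_appLE hU hW h
        infer_instance) τ (fun σ s => rfl) L (fun p => rfl)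
  have hinj : Function.Injective (L.lTensor Γ(S', U')) :=
    injective_lTensor_of_fixed_mem_range L (hq.isQuot.injective V) (fun σ => (τ σ).toLinearMap)
      (fun σ => LinearMap.ext fun p => act_app hq.isQuot V ⟨σ⟩ p) hfix _
  have hcomm : ∀ w, (p'.app B).hom (eW w) = eZ (L.lTensor Γ(S', U') w) := fun w => by
    induction w with
    | zero => simp
    | add x y hx hy => simp only [map_add, hx, hy]
    | tmul c p =>
      rw [LinearMap.lTensor_tmul, Algebra.IsPushout.equiv_tmul, Algebra.IsPushout.equiv_tmul, map_mul]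
      congr 1
      · change (bb.appLE U' B _ ≫ p'.app B).hom c = (sn.appLE U' E _).hom c
        rw [Scheme.Hom.app_eq_appLE, Scheme.Hom.appLE_comp_appLE]
        simp only [h2]
        rfl
      · change (a.appLE V B _ ≫ p'.app B).hom p = (q.app V ≫ fs.appLE _ E _).hom p
        simp only [Scheme.Hom.app_eq_appLE, Scheme.Hom.appLE_comp_appLE, h1]
        rfl
  have hact : ∀ (σ : Equiv.Perm (Fin d)) (z), eZ ((τ σ).toLinearMap.lTensor Γ(S', U') z) =
      ((ρ' ⟨σ⟩).hom.appLE E E (SGA1.preimage_le_of_inv ρ' p' hρ₂ ⟨σ⟩ B)).hom (eZ z) := fun σ z => by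
    induction z with
    | zero => simp
    | add x y hx hy => simp only [map_add, hx, hy]
    | tmul c m =>
      rw [LinearMap.lTensor_tmul, Algebra.IsPushout.equiv_tmul, Algebra.IsPushout.equiv_tmul, map_mul]
      congr 1
      · change (sn.appLE U' E _).hom c = (sn.appLE U' E _ ≫ (ρ' ⟨σ⟩).hom.appLE E E _).hom c
        rw [Scheme.Hom.appLE_comp_appLE]
        simp only [← h2, reassoc_of% (hρ₂ ⟨σ⟩)]
      · change ((SymProd.permHom f d σ).appLE _ _ _ ≫ fs.appLE _ E _).hom m =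
          (fs.appLE (q ⁻¹ᵁ V) E _ ≫ (ρ' ⟨σ⟩).hom.appLE E E _).hom m
        rw [Scheme.Hom.appLE_comp_appLE, Scheme.Hom.appLE_comp_appLE]
        simp only [hρ₁ ⟨σ⟩]
  refine invariant_sections_mono hρ₂ hB hD (hDB.trans inf_le_right) ?_ ?_
  · intro s t hst
    obtain ⟨w, rfl⟩ := eW.surjective s
    obtain ⟨w', rfl⟩ := eW.surjective t
    rw [hcomm, hcomm] at hst
    rw [hinj (eZ.injective hst)]
  · intro s hs
    obtain ⟨z, rfl⟩ := eZ.surjective s
    obtain ⟨w, rfl⟩ := hfix Γ(S', U') z fun σ => eZ.injective ((hact σ z).trans (hs ⟨σ⟩))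
    exact ⟨eW w, hcomm w⟩

end Groth.Agent.SGA1QuotLib
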