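import Mathlib

/-! Free actions of finite groups on rings: Galois extensions of rings. -/

universe u
open scoped TensorProduct

namespace Groth.Agent.SGA1QuotLib.GaloisRing

set_option linter.style.haveILetI false

variable {A B G : Type u} [CommRing A] [CommRing B] [Algebra A B] [Group G] [MulSemiringAction G B]

/-- The freeness condition. -/
def IsFree (G B : Type u) [CommRing B] [Group G] [MulSemiringAction G B] : Prop :=
  ∀ σ : G, σ ≠ 1 → Ideal.span (Set.range fun b : B => σ • b - b) = ⊤

theorem exists_dual [Finite G] (hfree : IsFree G B) :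
    ∃ (ι : Type u) (_ : Fintype ι) (x y : ι → B),
      (∑ i, x i * y i = 1) ∧ ∀ σ : G, σ ≠ 1 → ∑ i, x i * σ • y i = 0 := by
  classical
  cases nonempty_fintype G
  suffices h : ∀ s : Finset G, ∃ (ι : Type u) (_ : Fintype ι) (x y : ι → B),
      (∑ i, x i * y i = 1) ∧ ∀ σ ∈ s, σ ≠ 1 → ∑ i, x i * σ • y i = 0 by
    obtain ⟨ι, _, x, y, h1, h2⟩ := h Finset.univ
    exact ⟨ι, ‹_›, x, y, h1, fun σ => h2 σ (Finset.mem_univ σ)⟩
  intro s
  induction s using Finset.induction with
  | empty => exact ⟨PUnit, inferInstance, fun _ => 1, fun _ => 1, by simp, fun σ h => by simp at h⟩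
  | insert τ s hτ ih =>
    obtain ⟨ι, _, x, y, h1, h2⟩ := ih
    by_cases hτ1 : τ = 1
    · refine ⟨ι, ‹_›, x, y, h1, fun σ hσ hσ1 => ?_⟩
      rcases Finset.mem_insert.1 hσ with rfl | hσ
      · exact absurd hτ1 hσ1
      · exact h2 σ hσ hσ1
    · obtain ⟨c, hc⟩ := Finsupp.mem_span_range_iff_exists_finsupp.1
        ((hfree τ hτ1).symm ▸ Submodule.mem_top : (1 : B) ∈ Ideal.span (Set.range fun b : B => τ • b - b))
      have hc' : ∑ b ∈ c.support, c b * (τ • b - b) = 1 := hc
      let x' : Option c.support → B := fun o => o.elim (∑ b ∈ c.support, c b * τ • b) fun b => - c b.1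
      let y' : Option c.support → B := fun o => o.elim 1 fun b => b.1
      have e1 : ∑ o, x' o * y' o = 1 := by
        rw [Fintype.sum_option]
        simp only [x', y', Option.elim, mul_one, neg_mul, Finset.sum_neg_distrib]
        rw [Finset.sum_coe_sort c.support (fun b => c b * b), ← sub_eq_add_neg,
          ← Finset.sum_sub_distrib, ← hc']
        simp only [mul_sub]
      have e2 : ∑ o, x' o * τ • y' o = 0 := by
        rw [Fintype.sum_option]
        simp only [x', y', Option.elim, smul_one, mul_one, neg_mul, Finset.sum_neg_distrib]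
        rw [Finset.sum_coe_sort c.support (fun b => c b * τ • b), add_neg_cancel]
      refine ⟨ι × Option c.support, inferInstance, fun i => x i.1 * x' i.2, fun i => y i.1 * y' i.2,
        ?_, fun σ hσ hσ1 => ?_⟩
      · calc ∑ i : ι × Option c.support, x i.1 * x' i.2 * (y i.1 * y' i.2)
            = (∑ i, x i * y i) * ∑ o, x' o * y' o := by
              rw [Fintype.sum_mul_sum, Fintype.sum_prod_type]
              simp only [mul_mul_mul_comm]
          _ = 1 := by rw [h1, e1, one_mul]
      · calc ∑ i : ι × Option c.support, x i.1 * x' i.2 * σ • (y i.1 * y' i.2)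
            = (∑ i, x i * σ • y i) * ∑ o, x' o * σ • y' o := by
              rw [Fintype.sum_mul_sum, Fintype.sum_prod_type]
              simp only [smul_mul', mul_mul_mul_comm]
          _ = 0 := by
            rcases Finset.mem_insert.1 hσ with rfl | hσ
            · rw [e2, mul_zero]
            · rw [h2 σ hσ hσ1, zero_mul]

/-- The map `a ⊗ b ↦ (σ ↦ a * σ b)`. -/
noncomputable def psi (A B G : Type u) [CommRing A] [CommRing B] [Algebra A B] [Group G]
    [MulSemiringAction G B] [SMulCommClass G A B] : B ⊗[A] B →ₐ[A] (G → B) :=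
  Algebra.TensorProduct.lift (Pi.algHom A _ fun _ => AlgHom.id A B)
    (Pi.algHom A _ fun σ => (MulSemiringAction.toAlgHom A B σ)) fun _ _ => Commute.all _ _

variable [SMulCommClass G A B]

theorem psi_tmul (a b : B) (σ : G) : psi A B G (a ⊗ₜ b) σ = a * σ • b := by
  simp [psi]

variable [Finite G] [Algebra.IsInvariant A B G]

theorem galois (hinj : Function.Injective (algebraMap A B)) (hfree : IsFree G B) :
    Module.Finite A B ∧ Module.Projective A B ∧ Function.Bijective (psi A B G) ∧ Algebra.Etale A B := by
  classical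
  cases nonempty_fintype G
  obtain ⟨ι, _, x, y, h1, h2⟩ := exists_dual hfree
  have hdual : ∀ σ τ : G, ∑ i, τ • x i * σ • y i = if σ = τ then 1 else 0 := by
    intro σ τ
    have : ∀ i, τ • x i * σ • y i = τ • (x i * (τ⁻¹ * σ) • y i) := fun i => by
      rw [smul_mul', smul_smul, mul_inv_cancel_left]
    simp only [this, ← Finset.smul_sum]
    split_ifs with h
    · subst h
      simp [h1]
    · rw [h2 _ fun hc => h (inv_mul_eq_one.1 hc).symm, smul_zero]
  have hinvt : ∀ b : B, ∃ a : A, algebraMap A B a = ∑ σ : G, σ • b := fun b =>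
    Algebra.IsInvariant.isInvariant (A := A) (G := G) _ fun g => by
      rw [Finset.smul_sum]
      simp only [smul_smul]
      exact Equiv.sum_comp (Equiv.mulLeft g) fun σ => σ • b
  choose t ht using hinvt
  let trA : B →ₗ[A] A :=
    { toFun := t
      map_add' := fun a b => hinj (by simp only [map_add, ht, smul_add, Finset.sum_add_distrib])
      map_smul' := fun r b => hinj (by
        simp only [RingHom.id_apply, smul_eq_mul, map_mul, ht, Finset.mul_sum]
        refine Finset.sum_congr rfl fun σ _ => ?_
        rw [smul_comm, Algebra.smul_def]) }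
  have htr : ∀ b, algebraMap A B (trA b) = ∑ σ : G, σ • b := ht
  have hrepl : ∀ b : B, ∑ i, x i * algebraMap A B (trA (y i * b)) = b := fun b => by
    simp only [htr, Finset.mul_sum, smul_mul', ← mul_assoc]
    rw [Finset.sum_comm]
    have : ∀ σ : G, ∑ i, x i * σ • y i * σ • b = (if σ = 1 then 1 else 0) * σ • b := fun σ => by
      rw [← Finset.sum_mul]
      congr 1
      have := hdual σ 1
      simpa using this
    simp [this]
  have hreplx : ∀ b : B, ∑ i, algebraMap A B (trA (b * x i)) * y i = b := fun b => by
    simp only [htr, Finset.sum_mul, smul_mul']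
    rw [Finset.sum_comm]
    have : ∀ σ : G, ∑ i, σ • b * σ • x i * y i = σ • b * (if (1 : G) = σ then 1 else 0) := fun σ => by
      simp only [mul_assoc, ← Finset.mul_sum]
      congr 1
      have := hdual 1 σ
      simpa using this
    simp [this]
  let F : B →ₗ[A] (ι → A) := LinearMap.pi fun i => trA ∘ₗ LinearMap.mulLeft A (y i)
  let H : (ι → A) →ₗ[A] B := ∑ i, (LinearMap.proj i : (ι → A) →ₗ[A] A).smulRight (x i)
  have hHF : H ∘ₗ F = LinearMap.id := LinearMap.ext fun b => by
    simp only [H, F, LinearMap.comp_apply, LinearMap.coe_sum, Finset.sum_apply, LinearMap.smulRight_apply,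
      LinearMap.proj_apply, LinearMap.pi_apply, LinearMap.mulLeft_apply, LinearMap.id_apply,
      Algebra.smul_def]
    simp only [mul_comm _ (x _)]
    exact hrepl b
  haveI hproj : Module.Projective A B := .of_split F H hHF
  haveI hfin : Module.Finite A B :=
    .of_surjective H fun b => ⟨F b, LinearMap.congr_fun hHF b⟩
  let Φ : (G → B) → B ⊗[A] B := fun v => ∑ i, (∑ σ : G, v σ * σ • x i) ⊗ₜ[A] y i
  have hΦ1 : ∀ v, psi A B G (Φ v) = v := fun v => funext fun τ => by
    simp only [Φ, map_sum, Finset.sum_apply, psi_tmul, Finset.sum_mul, mul_assoc]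
    rw [Finset.sum_comm]
    simp only [← Finset.mul_sum, hdual]
    simp
  have hΦ2 : ∀ z, Φ (psi A B G z) = z := fun z => by
    induction z with
    | zero => simp [Φ]
    | add a b ha hb =>
      simp only [Φ, map_add, Pi.add_apply, add_mul, Finset.sum_add_distrib, TensorProduct.add_tmul]
      exact congrArg₂ (· + ·) ha hb
    | tmul a b =>
      simp only [Φ, psi_tmul, mul_assoc, ← smul_mul', ← Finset.mul_sum]
      have : ∀ i, (a * ∑ σ : G, σ • (b * x i)) ⊗ₜ[A] y i = a ⊗ₜ (algebraMap A B (trA (b * x i)) * y i) := by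
        intro i
        rw [← htr, mul_comm a, ← Algebra.smul_def, ← Algebra.smul_def, TensorProduct.smul_tmul]
      simp only [this, ← TensorProduct.tmul_sum, hreplx]
  have hbij : Function.Bijective (psi A B G) :=
    ⟨Function.LeftInverse.injective hΦ2, Function.RightInverse.surjective hΦ1⟩
  refine ⟨hfin, hproj, hbij, ?_⟩
  haveI : Algebra.FormallyUnramified A B := by
    rw [Algebra.FormallyUnramified.iff_exists_tensorProduct]
    obtain ⟨e, he⟩ := hbij.2 (Pi.single (1 : G) 1)
    refine ⟨e, fun s => hbij.1 ?_, ?_⟩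
    · funext σ
      rw [map_mul, map_zero, he, Pi.mul_apply, map_sub, Pi.sub_apply, psi_tmul, psi_tmul]
      rcases eq_or_ne σ 1 with rfl | hσ
      · simp
      · simp [hσ]
    · have : ∀ z : B ⊗[A] B, Algebra.TensorProduct.lmul' A z = psi A B G z 1 := fun z => by
        induction z with
        | zero => simp
        | add a b ha hb => simp [ha, hb]
        | tmul a b => simp [psi_tmul]
      rw [this, he, Pi.single_eq_same]
  haveI : Module.FinitePresentation A B := Module.finitePresentation_of_projective A B
  haveI : Algebra.FinitePresentation A B := .of_finitePresentation A B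
  exact .of_formallyUnramified_of_flat

/-- Two geometric points with the same image differ by a group element. -/
theorem exists_smul_eq_of_comp_eq (hinj : Function.Injective (algebraMap A B)) (hfree : IsFree G B)
    {K : Type u} [Field K] (α β : B →+* K) (h : ∀ a, α (algebraMap A B a) = β (algebraMap A B a)) :
    ∃ σ : G, ∀ b, β b = α (σ • b) := by
  classical
  cases nonempty_fintype G
  obtain ⟨-, -, hbij, -⟩ := galois hinj hfree
  letI : Algebra A K := (α.comp (algebraMap A B)).toAlgebra
  let αA : B →ₐ[A] K := { α with commutes' := fun _ => rfl }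
  let βA : B →ₐ[A] K := { β with commutes' := fun a => (h a).symm }
  let L : B ⊗[A] B →ₐ[A] K := Algebra.TensorProduct.lift αA βA fun _ _ => Commute.all _ _
  let e := AlgEquiv.ofBijective (psi A B G) hbij
  let χ : (G → B) →ₐ[A] K := L.comp e.symm.toAlgHom
  have hχ : ∀ z, χ (psi A B G z) = L z := fun z => congrArg L (e.symm_apply_apply z)
  have hsum : ∑ σ : G, χ (Pi.single σ 1) = 1 := by
    rw [← map_sum, show ∑ σ : G, Pi.single σ (1 : B) = (1 : G → B) from Finset.univ_sum_single _, map_one]
  obtain ⟨σ, -, hσ⟩ := Finset.exists_ne_zero_of_sum_ne_zero (hsum.trans_ne one_ne_zero)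
  have hone : χ (Pi.single σ 1) = 1 := by
    have : χ (Pi.single σ 1) * χ (Pi.single σ 1) = χ (Pi.single σ 1) := by
      rw [← map_mul, ← Pi.single_mul, one_mul]
    exact mul_left_cancel₀ hσ (this.trans (mul_one _).symm)
  refine ⟨σ, fun b => ?_⟩
  have h1 : psi A B G (1 ⊗ₜ b) * Pi.single σ 1 = psi A B G ((σ • b) ⊗ₜ 1) * Pi.single σ 1 := by
    funext τ
    rcases eq_or_ne τ σ with rfl | hτ
    · simp [psi_tmul]
    · simp [hτ]
  have h2 := congrArg χ h1
  rw [map_mul χ, map_mul χ, hone, mul_one, mul_one, hχ, hχ, Algebra.TensorProduct.lift_tmul,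
    Algebra.TensorProduct.lift_tmul, map_one, map_one, one_mul, mul_one] at h2
  exact h2

end Groth.Agent.SGA1QuotLib.GaloisRing
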