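import Mathlib
import Groth.Prelude.Def_SGA1
import Groth.Agent.SGA1QuotLib.Basic
import Groth.Agent.SGA1QuotLib.GaloisRing

/-! Quotients by free actions are Galois covers. -/

universe u
open CategoryTheory CategoryTheory.Limits AlgebraicGeometry

namespace Groth.Agent.SGA1QuotLib

set_option linter.style.haveILetI false

variable {X Y : Scheme.{u}} {G : Type u} [Group G] {ρ : G →* Aut X} {p : X ⟶ Y}

/-- Freeness on geometric points. -/
def FreeGeom (ρ : G →* Aut X) : Prop :=
  ∀ (K : Type u) [Field K] [IsAlgClosed K] (ξ : Spec (CommRingCat.of K) ⟶ X) (g : G),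
    ξ ≫ (ρ g).hom = ξ → g = 1

theorem isFree_action (hp : SGA1.IsQuot ρ p) (hfree : FreeGeom ρ) {U : Y.Opens}
    (hU : IsAffineOpen U) :
    letI := action hp U
    GaloisRing.IsFree G Γ(X, p ⁻¹ᵁ U) := by
  haveI := hp.affine
  letI := action hp U
  intro σ hσ
  by_contra hne
  obtain ⟨M, hM, hle⟩ := Ideal.exists_le_maximal _ hne
  letI : Field (Γ(X, p ⁻¹ᵁ U) ⧸ M) := Ideal.Quotient.field M
  let K := AlgebraicClosure (Γ(X, p ⁻¹ᵁ U) ⧸ M)
  let π : Γ(X, p ⁻¹ᵁ U) →+* K :=
    (algebraMap (Γ(X, p ⁻¹ᵁ U) ⧸ M) K).comp (Ideal.Quotient.mk M)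
  let ξ : Spec (CommRingCat.of K) ⟶ X := Spec.map (CommRingCat.ofHom π) ≫ (hU.preimage p).fromSpec
  refine inv_ne_one.2 hσ (hfree K ξ σ⁻¹ ?_)
  simp only [ξ, Category.assoc]
  rw [← IsAffineOpen.SpecMap_appLE_fromSpec (ρ σ⁻¹).hom (hU.preimage p) (hU.preimage p)
      (SGA1.preimage_le_of_inv ρ p hp.inv σ⁻¹ U), ← Spec.map_comp_assoc]
  have e : (ρ σ⁻¹).hom.appLE (p ⁻¹ᵁ U) (p ⁻¹ᵁ U) (SGA1.preimage_le_of_inv ρ p hp.inv σ⁻¹ U) ≫
      CommRingCat.ofHom π = CommRingCat.ofHom π := by
    ext b
    change algebraMap _ K (Ideal.Quotient.mk M (act hp U σ⁻¹ b)) = algebraMap _ K (Ideal.Quotient.mk M b)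
    rw [Ideal.Quotient.eq.2 (hle (Ideal.subset_span ⟨b, rfl⟩) : act hp U σ⁻¹ b - b ∈ M)]
  rw [e]

theorem galois_data [Finite G] (hp : SGA1.IsQuot ρ p) (hfree : FreeGeom ρ) {U : Y.Opens}
    (hU : IsAffineOpen U) :
    (p.app U).hom.Etale ∧ (p.app U).hom.Finite ∧
      ∀ (K : Type u) [Field K] (α β : Γ(X, p ⁻¹ᵁ U) →+* K),
        α.comp (p.app U).hom = β.comp (p.app U).hom → ∃ g : G, ∀ b, β b = α (act hp U g b) := by
  letI := action hp U
  letI : Algebra Γ(Y, U) Γ(X, p ⁻¹ᵁ U) := (p.app U).hom.toAlgebra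
  haveI : Algebra.IsInvariant Γ(Y, U) Γ(X, p ⁻¹ᵁ U) G :=
    ⟨fun a ha => (hp.range_iff U a).2 fun g => by
      have := ha g⁻¹
      change act hp U (g⁻¹)⁻¹ a = a at this
      rwa [inv_inv] at this⟩
  haveI : SMulCommClass G Γ(Y, U) Γ(X, p ⁻¹ᵁ U) := ⟨fun g b a => by
    rw [Algebra.smul_def, Algebra.smul_def, smul_mul']
    exact congrArg (· * g • a) (act_app hp U g⁻¹ b)⟩
  have hf := isFree_action hp hfree hU
  obtain ⟨h1, -, -, h4⟩ := GaloisRing.galois (A := Γ(Y, U)) (hp.injective U) hf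
  refine ⟨h4, h1, fun K _ α β h => ?_⟩
  obtain ⟨σ, hσ⟩ := GaloisRing.exists_smul_eq_of_comp_eq (A := Γ(Y, U)) (hp.injective U) hf α β
    (RingHom.congr_fun h)
  exact ⟨σ⁻¹, hσ⟩

theorem etale [Finite G] (hp : SGA1.IsQuot ρ p) (hfree : FreeGeom ρ) : Etale p := by
  haveI := hp.affine
  refine ⟨fun {U} hU {V} hV e => ?_⟩
  have hid := (𝟙 X : X ⟶ X).etale_appLE (hU.preimage p) hV e
  have h := RingHom.Etale.stableUnderComposition _ _ (galois_data hp hfree hU).1 hid
  rw [← CommRingCat.hom_comp, Scheme.Hom.app_eq_appLE, Scheme.Hom.appLE_comp_appLE] at h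
  simpa using h

theorem isFinite [Finite G] (hp : SGA1.IsQuot ρ p) (hfree : FreeGeom ρ) : IsFinite p := by
  haveI := hp.affine
  exact ⟨fun U hU => (galois_data hp hfree hU).2.1⟩

/-- Geometric points with the same image differ by a group element. -/
theorem exists_geom [Finite G] (hp : SGA1.IsQuot ρ p) (hfree : FreeGeom ρ) {K : Type u} [Field K]
    (a b : Spec (CommRingCat.of K) ⟶ X) (h : a ≫ p = b ≫ p) : ∃ g : G, a ≫ (ρ g).hom = b := by
  haveI := hp.affine
  let pt := IsLocalRing.closedPoint K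
  obtain ⟨U, hU, hyU, -⟩ := exists_isAffineOpen_mem_and_subset
    (TopologicalSpace.Opens.mem_top (p.base (a.base pt)))
  have hlift : ∀ c : Spec (CommRingCat.of K) ⟶ X, c ≫ p = a ≫ p →
      ∃ α : Γ(X, p ⁻¹ᵁ U) →+* K, Spec.map (CommRingCat.ofHom α) ≫ (hU.preimage p).fromSpec = c := by
    intro c hc
    have hr : Set.range c ⊆ Set.range (hU.preimage p).fromSpec := by
      rw [(hU.preimage p).range_fromSpec]
      rintro _ ⟨z, rfl⟩
      change (c ≫ p) z ∈ U
      rw [hc, Subsingleton.elim z pt]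
      exact hyU
    let l := IsOpenImmersion.lift (hU.preimage p).fromSpec c hr
    exact ⟨(Spec.preimage l).hom, by
      rw [CommRingCat.ofHom_hom, Spec.map_preimage]; exact IsOpenImmersion.lift_fac _ _ hr⟩
  obtain ⟨α, rfl⟩ := hlift a rfl
  obtain ⟨β, rfl⟩ := hlift b h.symm
  have hαβ : α.comp (p.app U).hom = β.comp (p.app U).hom := by
    simp only [Category.assoc, ← IsAffineOpen.SpecMap_appLE_fromSpec p hU (hU.preimage p) le_rfl,
      ← Scheme.Hom.app_eq_appLE, ← Spec.map_comp_assoc] at h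
    rw [cancel_mono hU.fromSpec, Spec.map_inj] at h
    exact congrArg CommRingCat.Hom.hom h
  obtain ⟨g, hg⟩ := (galois_data hp hfree hU).2.2 K α β hαβ
  refine ⟨g, ?_⟩
  rw [Category.assoc, ← IsAffineOpen.SpecMap_appLE_fromSpec (ρ g).hom (hU.preimage p) (hU.preimage p)
      (SGA1.preimage_le_of_inv ρ p hp.inv g U), ← Spec.map_comp_assoc]
  congr 2
  ext b
  exact (hg b).symm

theorem isOpenImmersion_section {X Y : Scheme.{u}} (q : X ⟶ Y) [Etale q] (s : Y ⟶ X)
    (hs : s ≫ q = 𝟙 Y) : IsOpenImmersion s := by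
  haveI : Mono s := SplitMono.mono ⟨q, hs⟩
  haveI : Etale (s ≫ q) := by rw [hs]; infer_instance
  haveI : Etale s := Etale.of_comp s q
  exact IsOpenImmersion.of_flat_of_mono s

/-- The graph of a group element. -/
noncomputable def graph (hp : SGA1.IsQuot ρ p) (g : G) : X ⟶ pullback p p :=
  pullback.lift (𝟙 X) (ρ g).hom ((Category.id_comp p).trans (hp.inv g).symm)

theorem graph_fst (hp : SGA1.IsQuot ρ p) (g : G) : graph hp g ≫ pullback.fst p p = 𝟙 X :=
  pullback.lift_fst _ _ _

theorem graph_snd (hp : SGA1.IsQuot ρ p) (g : G) : graph hp g ≫ pullback.snd p p = (ρ g).hom :=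
  pullback.lift_snd _ _ _

theorem graph_disjoint (hp : SGA1.IsQuot ρ p) (hfree : FreeGeom ρ) {g h : G} {x x' : X}
    (e : (graph hp g).base x = (graph hp h).base x') : g = h := by
  obtain rfl : x = x' := by
    have := congrArg (pullback.fst p p).base e
    rwa [← Scheme.Hom.comp_apply, ← Scheme.Hom.comp_apply, graph_fst, graph_fst] at this
  let P := pullback p p
  let z : P := (graph hp g).base x
  let K := AlgebraicClosure (P.residueField z)
  let η : Spec (CommRingCat.of K) ⟶ P :=
    Spec.map (CommRingCat.ofHom (algebraMap (P.residueField z) K)) ≫ P.fromSpecResidueField z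
  have hz : ∀ g' : G, (graph hp g').base x = z →
      ∃ ξ : Spec (CommRingCat.of K) ⟶ X, ξ ≫ graph hp g' = η := by
    intro g' hg'
    let m := (graph hp g').residueFieldMap x
    have hm : Function.Bijective m.hom := by
      refine ⟨RingHom.injective _, fun w => ?_⟩
      have := congrArg (fun f => f.hom) (Scheme.Hom.residueFieldMap_congr (graph_fst hp g') x)
      simp only [Scheme.residueFieldMap_comp, Scheme.residueFieldMap_id, Category.comp_id] at this
      refine ⟨((pullback.fst p p).residueFieldMap ((graph hp g').base x)).hom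
        ((X.residueFieldCongr (show (pullback.fst p p).base ((graph hp g').base x) = x by
          rw [← Scheme.Hom.comp_apply, graph_fst]; rfl)).inv.hom w), ?_⟩
      have h2 := RingHom.congr_fun this ((X.residueFieldCongr (show (pullback.fst p p).base
        ((graph hp g').base x) = x by rw [← Scheme.Hom.comp_apply, graph_fst]; rfl)).inv.hom w)
      refine h2.trans ?_
      exact congrArg (fun f => f.hom w) (X.residueFieldCongr _).inv_hom_id
    haveI : IsIso m := (RingEquiv.ofBijective m.hom hm).toCommRingCatIso.isIso_hom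
    refine ⟨Spec.map ((P.residueFieldCongr hg').hom ≫ CommRingCat.ofHom (algebraMap (P.residueField z) K)) ≫
      Spec.map (inv m) ≫ X.fromSpecResidueField x, ?_⟩
    simp only [Category.assoc]
    rw [← Scheme.Hom.SpecMap_residueFieldMap_fromSpecResidueField, ← Spec.map_comp_assoc (f := m),
      IsIso.hom_inv_id, Spec.map_id, Category.id_comp, Spec.map_comp, Category.assoc,
      Scheme.residueFieldCongr_fromSpecResidueField]
    rfl
  obtain ⟨ξ, hξ⟩ := hz g rfl
  obtain ⟨ξ', hξ'⟩ := hz h e.symm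
  have e1 : ξ = ξ' := by
    have h1 := congrArg (· ≫ pullback.fst p p) (hξ.trans hξ'.symm)
    simpa only [Category.assoc, graph_fst, Category.comp_id] using h1
  have e2 : ξ ≫ (ρ g).hom = ξ ≫ (ρ h).hom := by
    have h1 := congrArg (· ≫ pullback.snd p p) (hξ.trans hξ'.symm)
    simp only [Category.assoc, graph_snd] at h1
    rw [h1, e1]
  have e3 : ξ ≫ (ρ (h⁻¹ * g)).hom = ξ := by
    rw [hom_mul, ← Category.assoc, e2, Category.assoc, ← hom_mul, inv_mul_cancel, map_one]
    exact Category.comp_id _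
  exact (inv_mul_eq_one.1 (hfree K ξ _ e3)).symm

theorem isIso_graphs [Finite G] (hp : SGA1.IsQuot ρ p) (hfree : FreeGeom ρ) :
    IsIso (Sigma.desc (fun g : G => graph hp g) : (∐ fun _ : G => X) ⟶ pullback p p) := by
  haveI := etale hp hfree
  haveI : ∀ g, IsOpenImmersion (graph hp g) := fun g =>
    isOpenImmersion_section (pullback.fst p p) _ (graph_fst hp g)
  haveI : IsOpenImmersion (Sigma.desc (fun g : G => graph hp g) : (∐ fun _ : G => X) ⟶ pullback p p) :=
    isOpenImmersion_sigmaDesc _ _ fun g h hgh => Set.disjoint_left.2 fun z hz hz' => by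
      obtain ⟨x, rfl⟩ := hz
      obtain ⟨x', hx'⟩ := hz'
      exact hgh (graph_disjoint hp hfree hx'.symm)
  apply isIso_of_isOpenImmersion_of_opensRange_eq_top
  rw [eq_top_iff]
  rintro z -
  let K := AlgebraicClosure ((pullback p p).residueField z)
  let η : Spec (CommRingCat.of K) ⟶ pullback p p :=
    Spec.map (CommRingCat.ofHom (algebraMap ((pullback p p).residueField z) K)) ≫
      (pullback p p).fromSpecResidueField z
  obtain ⟨g, hg⟩ := exists_geom hp hfree (η ≫ pullback.fst p p) (η ≫ pullback.snd p p)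
    (by rw [Category.assoc, Category.assoc, pullback.condition]; rfl)
  have hη : (η ≫ pullback.fst p p) ≫ graph hp g = η := by
    apply pullback.hom_ext
    · rw [Category.assoc, graph_fst, Category.comp_id]
    · rw [Category.assoc, graph_snd, hg]
  refine ⟨(Sigma.ι (fun _ : G => X) g).base ((η ≫ pullback.fst p p).base (IsLocalRing.closedPoint K)), ?_⟩
  rw [← Scheme.Hom.comp_apply, Sigma.ι_desc, ← Scheme.Hom.comp_apply, hη]
  simp only [η, Scheme.Hom.comp_base, TopCat.coe_comp, Function.comp_apply]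
  erw [Scheme.fromSpecResidueField_apply]

theorem isIso_sections [Finite G] (hp : SGA1.IsQuot ρ p) (hfree : FreeGeom ρ) (s : Y ⟶ X)
    (hs : s ≫ p = 𝟙 Y) :
    IsIso (Sigma.desc (fun g : G => s ≫ (ρ g).hom) : (∐ fun _ : G => Y) ⟶ X) := by
  haveI := etale hp hfree
  haveI : ∀ g, IsOpenImmersion (s ≫ (ρ g).hom) := fun g =>
    isOpenImmersion_section p _ (by rw [Category.assoc, hp.inv, hs])
  let m : X ⟶ pullback p p := pullback.lift (p ≫ s) (𝟙 X) (by rw [Category.assoc, hs, Category.comp_id, Category.id_comp])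
  have hm : ∀ g : G, (s ≫ (ρ g).hom) ≫ m = s ≫ graph hp g := fun g => by
    apply pullback.hom_ext
    · simp only [m, Category.assoc, pullback.lift_fst, graph_fst, Category.comp_id]
      rw [reassoc_of% (hp.inv g), reassoc_of% hs]
    · simp only [m, Category.assoc, pullback.lift_snd, graph_snd, Category.comp_id]
  haveI : IsOpenImmersion (Sigma.desc (fun g : G => s ≫ (ρ g).hom) : (∐ fun _ : G => Y) ⟶ X) :=
    isOpenImmersion_sigmaDesc _ _ fun g h hgh => Set.disjoint_left.2 fun z hz hz' => by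
      obtain ⟨y, rfl⟩ := hz
      obtain ⟨y', hy'⟩ := hz'
      have h1 := congrArg m.base hy'.symm
      rw [← Scheme.Hom.comp_apply, ← Scheme.Hom.comp_apply, hm, hm, Scheme.Hom.comp_apply,
        Scheme.Hom.comp_apply] at h1
      exact hgh (graph_disjoint hp hfree h1)
  apply isIso_of_isOpenImmersion_of_opensRange_eq_top
  rw [eq_top_iff]
  rintro x -
  obtain ⟨g, hg⟩ := exists_orbit hp (x := s.base (p.base x)) (x' := x) (by
    rw [← Scheme.Hom.comp_apply s p, hs]; rfl)
  refine ⟨(Sigma.ι (fun _ : G => Y) g).base (p.base x), ?_⟩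
  rw [← Scheme.Hom.comp_apply, Sigma.ι_desc, Scheme.Hom.comp_apply]
  exact hg

/-- Two maps over `Y` into an étale separated `Y`-scheme from a connected scheme agree if they agree
at one geometric point. -/
theorem eq_of_agree {T : Scheme.{u}} [ConnectedSpace T] (q : X ⟶ Y) [Etale q] [IsSeparated q]
    (a b : T ⟶ X) (h : a ≫ q = b ≫ q) {K : Scheme.{u}} [Nonempty K] (ξ : K ⟶ T)
    (hξ : ξ ≫ a = ξ ≫ b) : a = b := by
  let l : T ⟶ pullback q q := pullback.lift a b h
  let e := pullback.fst l (pullback.diagonal q)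
  haveI : IsOpenImmersion e := inferInstance
  haveI : IsClosedImmersion e := inferInstance
  let t : K ⟶ pullback l (pullback.diagonal q) := pullback.lift ξ (ξ ≫ a) (by
    apply pullback.hom_ext
    · simp only [l, Category.assoc]
      erw [pullback.lift_fst, pullback.diagonal_fst, Category.comp_id]
    · simp only [l, Category.assoc]
      erw [pullback.lift_snd, pullback.diagonal_snd, Category.comp_id]
      exact hξ.symm)
  have hclopen : IsClopen (Set.range e) := ⟨e.isClosedEmbedding.isClosed_range, e.isOpenEmbedding.isOpen_range⟩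
  have hne : (Set.range e).Nonempty := ⟨_, ⟨t.base (Classical.arbitrary K), rfl⟩⟩
  haveI : IsIso e := isIso_of_isOpenImmersion_of_opensRange_eq_top e
    (TopologicalSpace.Opens.ext (hclopen.eq_univ hne))
  have h0 : e ≫ l = pullback.snd l (pullback.diagonal q) ≫ pullback.diagonal q := pullback.condition
  have h1 : e ≫ a = e ≫ b := by
    have ha := congrArg (· ≫ pullback.fst q q) h0
    have hb := congrArg (· ≫ pullback.snd q q) h0
    simp only [l, Category.assoc, pullback.lift_fst, pullback.lift_snd, pullback.diagonal_fst,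
      pullback.diagonal_snd] at ha hb
    rw [ha, hb]
  exact (cancel_epi e).1 h1

end Groth.Agent.SGA1QuotLib
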