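import Mathlib

/-! Quotients of étale algebras by finite groups are étale, with no freeness assumption. -/

universe u
open scoped TensorProduct

namespace Groth.Agent.SGA1QuotLib.GaloisInertia

set_option linter.style.haveILetI false

/-- The equaliser of a ring map with the identity is cut out by an idempotent. -/
theorem exists_idem (R B : Type u) [CommRing R] [CommRing B] [Algebra R B] [Algebra.EssFiniteType R B]
    [Algebra.FormallyUnramified R B] (σ : B →ₐ[R] B) :
    ∃ e : B, IsIdempotentElem e ∧ (∀ b, e * (σ b - b) = 0) ∧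
      1 - e ∈ Ideal.span (Set.range fun b => σ b - b) := by
  obtain ⟨t, ht, ht1⟩ := (Algebra.FormallyUnramified.iff_exists_tensorProduct (R := R) (S := B)).1 inferInstance
  let φ : B ⊗[R] B →ₐ[R] B := Algebra.TensorProduct.lift (AlgHom.id R B) σ fun _ _ => Commute.all _ _
  have h0 : ∀ b, φ t * (σ b - b) = 0 := fun b => by
    have := congrArg φ (ht b)
    simp only [φ, map_mul, map_sub, map_zero, Algebra.TensorProduct.lift_tmul, map_one, one_mul,
      mul_one, AlgHom.coe_id, id_eq] at this
    rw [mul_comm]; exact this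
  have h1 : ∀ z : B ⊗[R] B, Algebra.TensorProduct.lmul' R z - φ z ∈ Ideal.span (Set.range fun b => σ b - b) := by
    intro z
    induction z with
    | zero => simp
    | add x y hx hy =>
      simp only [map_add, add_sub_add_comm]
      exact add_mem hx hy
    | tmul a b =>
      have : Algebra.TensorProduct.lmul' R (a ⊗ₜ[R] b) - φ (a ⊗ₜ[R] b) = -a * (σ b - b) := by
        simp only [φ, Algebra.TensorProduct.lmul'_apply_tmul, Algebra.TensorProduct.lift_tmul, AlgHom.coe_id, id_eq]
        ring
      rw [this]
      exact Ideal.mul_mem_left _ _ (Ideal.subset_span ⟨b, rfl⟩)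
  have hmem : 1 - φ t ∈ Ideal.span (Set.range fun b => σ b - b) := ht1 ▸ h1 t
  refine ⟨φ t, ?_, h0, hmem⟩
  have hle : Ideal.span (Set.range fun b => σ b - b) ≤ (⊥ : Ideal B).colon ({φ t} : Set B) := by
    rw [Ideal.span_le]
    rintro _ ⟨b, rfl⟩
    rw [SetLike.mem_coe, Submodule.mem_colon_singleton, Ideal.mem_bot, smul_eq_mul, mul_comm]
    exact h0 b
  have := hle hmem
  rw [Submodule.mem_colon_singleton, Ideal.mem_bot, smul_eq_mul, sub_mul, one_mul, sub_eq_zero] at this
  exact this.symm

theorem eq_zero_or_one {L : Type u} [CommRing L] [IsLocalRing L] {e : L} (he : IsIdempotentElem e) :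
    e = 0 ∨ e = 1 := by
  rcases IsLocalRing.isUnit_or_isUnit_of_add_one (add_sub_cancel e 1) with h | h
  · exact .inr (h.mul_left_cancel (he.eq.trans (mul_one e).symm))
  · exact .inl (h.mul_left_eq_zero.1 (by rw [mul_sub, mul_one, he.eq, sub_self]))

theorem eq_of_local {B : Type u} [CommRing B] {x y : B}
    (h : ∀ (L : Type u) [CommRing L] [IsLocalRing L] (φ : B →+* L), φ x = φ y) : x = y := by
  by_contra hne
  have hann : ¬ ((Ideal.span {x - y}).annihilator = ⊤) := fun htop => by
    have : (1 : B) ∈ (Ideal.span {x - y}).annihilator := htop ▸ Submodule.mem_top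
    rw [Submodule.mem_annihilator_span_singleton, one_smul, sub_eq_zero] at this
    exact hne this
  obtain ⟨M, hM, hle⟩ := Ideal.exists_le_maximal _ hann
  have := h (Localization.AtPrime M) (algebraMap B (Localization.AtPrime M))
  rw [IsLocalization.eq_iff_exists M.primeCompl] at this
  obtain ⟨c, hc⟩ := this
  refine c.2 (hle ?_)
  rw [Submodule.mem_annihilator_span_singleton, smul_eq_mul, mul_sub, hc, sub_self]

variable {A B G : Type u} [CommRing A] [CommRing B] [Group G] [MulSemiringAction G B] [Finite G]

theorem exists_dual_idem (e : G → B) (h0 : ∀ σ b, e σ * (σ • b - b) = 0)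
    (h1 : ∀ σ : G, 1 - e σ ∈ Ideal.span (Set.range fun b : B => σ • b - b)) :
    ∃ (ι : Type u) (_ : Fintype ι) (x y : ι → B),
      (∑ i, x i * y i = 1) ∧ ∀ σ : G, ∑ i, x i * σ • y i = e σ := by
  classical
  cases nonempty_fintype G
  suffices h : ∀ s : Finset G, ∃ (ι : Type u) (_ : Fintype ι) (x y : ι → B),
      (∑ i, x i * y i = 1) ∧ ∀ σ ∈ s, ∑ i, x i * σ • y i = e σ by
    obtain ⟨ι, _, x, y, a, b⟩ := h Finset.univ
    exact ⟨ι, ‹_›, x, y, a, fun σ => b σ (Finset.mem_univ σ)⟩
  intro s
  induction s using Finset.induction with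
  | empty => exact ⟨PUnit, inferInstance, fun _ => 1, fun _ => 1, by simp, fun σ h => by simp at h⟩
  | insert τ s hτ ih =>
    obtain ⟨ι, _, x, y, hxy, hxs⟩ := ih
    obtain ⟨c, hc⟩ := Finsupp.mem_span_range_iff_exists_finsupp.1 (h1 τ)
    have hc' : ∑ b ∈ c.support, c b * (τ • b - b) = 1 - e τ := hc
    let x' : Option c.support → B := fun o => o.elim (1 + ∑ b ∈ c.support, c b * b) fun b => - c b.1
    let y' : Option c.support → B := fun o => o.elim 1 fun b => b.1
    have e1 : ∑ o, x' o * y' o = 1 := by
      rw [Fintype.sum_option]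
      simp only [x', y', Option.elim, mul_one, neg_mul, Finset.sum_neg_distrib]
      rw [Finset.sum_coe_sort c.support (fun b => c b * b), add_neg_cancel_right]
    have e2 : ∑ o, x' o * τ • y' o = e τ := by
      rw [Fintype.sum_option]
      simp only [x', y', Option.elim, smul_one, mul_one, neg_mul, Finset.sum_neg_distrib]
      rw [Finset.sum_coe_sort c.support (fun b => c b * τ • b)]
      have : ∑ b ∈ c.support, c b * (τ • b - b) =
          ∑ b ∈ c.support, c b * τ • b - ∑ b ∈ c.support, c b * b := by
        simp only [mul_sub, Finset.sum_sub_distrib]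
      linear_combination this - hc'
    refine ⟨ι × Option c.support, inferInstance, fun i => x i.1 * x' i.2, fun i => y i.1 * y' i.2,
      ?_, fun σ hσ => ?_⟩
    · calc ∑ i : ι × Option c.support, x i.1 * x' i.2 * (y i.1 * y' i.2)
          = (∑ i, x i * y i) * ∑ o, x' o * y' o := by
            rw [Fintype.sum_mul_sum, Fintype.sum_prod_type]
            simp only [mul_mul_mul_comm]
        _ = 1 := by rw [hxy, e1, one_mul]
    · have hfix : ∀ b, e σ * σ • b = e σ * b := fun b => sub_eq_zero.1 (by rw [← mul_sub]; exact h0 σ b)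
      calc ∑ i : ι × Option c.support, x i.1 * x' i.2 * σ • (y i.1 * y' i.2)
          = (∑ i, x i * σ • y i) * ∑ o, x' o * σ • y' o := by
            rw [Fintype.sum_mul_sum, Fintype.sum_prod_type]
            simp only [smul_mul', mul_mul_mul_comm]
        _ = e σ := by
          rcases Finset.mem_insert.1 hσ with rfl | hσ
          · rw [e2, mul_comm, Finset.mul_sum]
            simp only [mul_left_comm (e σ), hfix]
            simp only [mul_left_comm _ (e σ), ← Finset.mul_sum, hxy, mul_one]
          · rw [hxs σ hσ, Finset.mul_sum]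
            simp only [mul_left_comm (e σ), hfix]
            simp only [mul_left_comm _ (e σ), ← Finset.mul_sum, e1, mul_one]

theorem etale (R : Type u) [CommRing R] [Algebra R A] [Algebra R B] [Algebra A B] [IsScalarTower R A B]
    [SMulCommClass G A B] [Algebra.IsInvariant A B G]
    (hinj : Function.Injective (algebraMap A B)) [Algebra.FiniteType R B]
    [Algebra.FormallyUnramified R B] :
    Module.Finite A B ∧ Algebra.Etale A B ∧ Nonempty G := by
  classical
  cases nonempty_fintype G
  haveI : SMulCommClass G R B := ⟨fun g r b => by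
    rw [← algebraMap_smul A r b, ← algebraMap_smul A r (g • b), smul_comm]⟩
  choose e he h0 h1 using fun σ : G => exists_idem R B (MulSemiringAction.toAlgHom R B σ)
  obtain ⟨ι, _, x, y, -, hxy⟩ := exists_dual_idem e h0 h1
  -- the idempotent where `σ` and `τ` agree
  let E : G → G → B := fun σ τ => σ • e (σ⁻¹ * τ)
  have hE : ∀ σ τ (L : Type u) [CommRing L] [IsLocalRing L] (φ : B →+* L),
      (φ (E σ τ) = 1 ∨ φ (E σ τ) = 0) ∧ (φ (E σ τ) = 1 ↔ ∀ b, φ (σ • b) = φ (τ • b)) := by
    intro σ τ L _ _ φ
    have hid : IsIdempotentElem (φ (E σ τ)) := by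
      have := he (σ⁻¹ * τ)
      simp only [E, IsIdempotentElem, ← map_mul, ← smul_mul', this.eq]
    refine ⟨(eq_zero_or_one hid).symm, fun h b => ?_, fun h => ?_⟩
    · have h2 : φ (E σ τ) * (φ (τ • b) - φ (σ • b)) = 0 := by
        have := congrArg (fun z => φ (σ • z)) (h0 (σ⁻¹ * τ) b)
        simp only [MulSemiringAction.toAlgHom_apply, smul_mul', smul_sub, smul_smul,
          mul_inv_cancel_left, smul_zero, map_mul, map_sub, map_zero] at this
        exact this
      rw [h, one_mul, sub_eq_zero] at h2
      exact h2.symm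
    · have hle : Ideal.span (Set.range fun b : B => (σ⁻¹ * τ) • b - b) ≤
          RingHom.ker (φ.comp (MulSemiringAction.toRingHom G B σ)) := by
        rw [Ideal.span_le]
        rintro _ ⟨b, rfl⟩
        simp [smul_sub, smul_smul, h b]
      have := hle (h1 (σ⁻¹ * τ))
      simp only [RingHom.mem_ker, RingHom.comp_apply, MulSemiringAction.toRingHom_apply, smul_sub,
        smul_one, map_sub, map_one, sub_eq_zero] at this
      exact this.symm
  -- one representative for each class
  let num := Fintype.equivFin G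
  let d : G → B := fun σ => ∏ τ ∈ Finset.univ.filter (fun τ => num τ < num σ), (1 - E τ σ)
  have key : ∀ (L : Type u) [CommRing L] [IsLocalRing L] (φ : B →+* L) (F : (B → L) → L),
      ∑ σ : G, φ (d σ) * F (fun b => φ (σ • b)) =
        ∑ h ∈ Finset.univ.image (fun σ : G => fun b : B => φ (σ • b)), F h := by
    intro L _ _ φ F
    let S := Finset.univ.filter fun σ : G =>
      ∀ τ, num τ < num σ → ¬ ∀ b, φ (τ • b) = φ (σ • b)
    have hd1 : ∀ σ ∈ S, φ (d σ) = 1 := fun σ hσ => by
      simp only [d, map_prod]
      refine Finset.prod_eq_one fun τ hτ => ?_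
      have hne : φ (E τ σ) ≠ 1 := fun hc =>
        (Finset.mem_filter.1 hσ).2 τ (Finset.mem_filter.1 hτ).2 ((hE τ σ L φ).2.1 hc)
      rw [map_sub, map_one, (hE τ σ L φ).1.resolve_left hne, sub_zero]
    have hd0 : ∀ σ ∈ Finset.univ, σ ∉ S → φ (d σ) * F (fun b => φ (σ • b)) = 0 := fun σ _ hσ => by
      obtain ⟨τ, hτ, hb⟩ : ∃ τ, num τ < num σ ∧ ∀ b, φ (τ • b) = φ (σ • b) := by
        by_contra hc
        exact hσ (Finset.mem_filter.2 ⟨Finset.mem_univ _, fun τ hτ hb => hc ⟨τ, hτ, hb⟩⟩)
      refine mul_eq_zero_of_left ?_ _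
      simp only [d, map_prod]
      refine Finset.prod_eq_zero (i := τ) (Finset.mem_filter.2 ⟨Finset.mem_univ _, hτ⟩) ?_
      rw [map_sub, map_one, (hE τ σ L φ).2.2 hb, sub_self]
    have hinjS : Set.InjOn (fun σ : G => fun b : B => φ (σ • b)) S := fun σ hσ τ hτ hst => by
      rcases lt_trichotomy (num σ) (num τ) with h | h | h
      · exact absurd (fun b => congrFun hst b) ((Finset.mem_filter.1 hτ).2 σ h)
      · exact num.injective h
      · exact absurd (fun b => (congrFun hst b).symm) ((Finset.mem_filter.1 hσ).2 τ h)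
    have himg : S.image (fun σ : G => fun b : B => φ (σ • b)) =
        Finset.univ.image (fun σ : G => fun b : B => φ (σ • b)) := by
      refine le_antisymm (Finset.image_subset_image (Finset.subset_univ _)) fun h hh => ?_
      obtain ⟨σ, -, rfl⟩ := Finset.mem_image.1 hh
      obtain ⟨μ, hμ, hmin⟩ := Finset.exists_min_image
        (Finset.univ.filter fun τ : G => ∀ b, φ (τ • b) = φ (σ • b)) num ⟨σ, by simp⟩
      refine Finset.mem_image.2 ⟨μ, Finset.mem_filter.2 ⟨Finset.mem_univ _, fun τ hτ hb => ?_⟩,
        funext (Finset.mem_filter.1 hμ).2⟩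
      exact not_le.2 hτ (hmin τ (Finset.mem_filter.2 ⟨Finset.mem_univ _,
        fun b => (hb b).trans ((Finset.mem_filter.1 hμ).2 b)⟩))
    rw [← Finset.sum_subset (Finset.subset_univ S) hd0, ← himg, Finset.sum_image hinjS]
    exact Finset.sum_congr rfl fun σ hσ => by rw [hd1 σ hσ, one_mul]
  let tB : B → B := fun b => ∑ σ : G, d σ * σ • b
  have htB : ∀ (L : Type u) [CommRing L] [IsLocalRing L] (φ : B →+* L) (b : B), φ (tB b) =
      ∑ h ∈ Finset.univ.image (fun σ : G => fun c : B => φ (σ • c)), h b := fun L _ _ φ b => by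
    rw [← key L φ (fun h => h b)]
    simp [tB]
  have hinv : ∀ b, ∃ a : A, algebraMap A B a = tB b := fun b =>
    Algebra.IsInvariant.isInvariant (A := A) (G := G) _ fun g => eq_of_local fun L _ _ φ => by
      have e := htB L (φ.comp (MulSemiringAction.toRingHom G B g)) b
      simp only [RingHom.comp_apply, MulSemiringAction.toRingHom_apply, smul_smul] at e
      rw [e, htB L φ b]
      refine congrArg (fun s : Finset (B → L) => ∑ h ∈ s, h b) ?_
      refine Finset.ext fun h => ?_
      simp only [Finset.mem_image, Finset.mem_univ, true_and]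
      exact ⟨fun ⟨σ, hσ⟩ => ⟨g * σ, hσ⟩, fun ⟨σ, hσ⟩ => ⟨g⁻¹ * σ, by simpa using hσ⟩⟩
  choose t ht using hinv
  let tA : B →ₗ[A] A :=
    { toFun := t
      map_add' := fun a b => hinj (by
        simp only [map_add, ht, tB, smul_add, mul_add, Finset.sum_add_distrib])
      map_smul' := fun r b => hinj (by
        simp only [RingHom.id_apply, smul_eq_mul, map_mul, ht, tB, Finset.mul_sum]
        refine Finset.sum_congr rfl fun σ _ => ?_
        rw [smul_comm, Algebra.smul_def, mul_left_comm]) }
  have hrepl : ∀ b, ∑ i, x i * algebraMap A B (tA (y i * b)) = b := fun b => by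
    refine eq_of_local fun L _ _ φ => ?_
    have e1 : φ (∑ i, x i * algebraMap A B (tA (y i * b))) =
        ∑ σ : G, φ (d σ) * ((∑ i, φ (x i) * φ (σ • y i)) * φ (σ • b)) := by
      simp only [map_sum, map_mul, show ∀ c, algebraMap A B (tA c) = tB c from ht, tB, smul_mul',
        Finset.mul_sum, Finset.sum_mul]
      rw [Finset.sum_comm]
      exact Finset.sum_congr rfl fun σ _ => Finset.sum_congr rfl fun i _ => by ring
    rw [e1, key L φ (fun h => (∑ i, φ (x i) * h (y i)) * h b)]
    rw [Finset.sum_eq_single (fun c => φ c)]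
    · simp only [← map_mul, ← map_sum]
      have := hxy 1
      simp only [one_smul] at this
      rw [this]
      have h11 : φ (e 1) = 1 := by
        have := (hE 1 1 L φ).2.2 fun _ => rfl
        simpa [E] using this
      rw [map_mul, h11, one_mul]
    · intro h hh hne
      obtain ⟨σ, -, rfl⟩ := Finset.mem_image.1 hh
      simp only [← map_mul, ← map_sum, hxy σ]
      have : φ (e σ) = 0 := by
        have h2 := hE 1 σ L φ
        simp only [E, inv_one, one_mul, one_smul] at h2
        exact h2.1.resolve_left fun h1 => hne (funext fun c => (h2.2.1 h1 c).symm)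
      rw [map_mul, this, zero_mul]
    · exact fun h => absurd (Finset.mem_image.2 ⟨1, Finset.mem_univ _, by simp⟩) h
  let F : B →ₗ[A] (ι → A) := LinearMap.pi fun i => tA ∘ₗ LinearMap.mulLeft A (y i)
  let H : (ι → A) →ₗ[A] B := ∑ i, (LinearMap.proj i : (ι → A) →ₗ[A] A).smulRight (x i)
  have hHF : H ∘ₗ F = LinearMap.id := LinearMap.ext fun b => by
    simp only [H, F, LinearMap.comp_apply, LinearMap.coe_sum, Finset.sum_apply, LinearMap.smulRight_apply,
      LinearMap.proj_apply, LinearMap.pi_apply, LinearMap.mulLeft_apply, LinearMap.id_apply,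
      Algebra.smul_def]
    simp only [mul_comm _ (x _)]
    exact hrepl b
  haveI hproj : Module.Projective A B := .of_split F H hHF
  haveI hfin : Module.Finite A B :=
    .of_surjective H fun b => ⟨F b, LinearMap.congr_fun hHF b⟩
  refine ⟨hfin, ?_, inferInstance⟩
  haveI : Algebra.FormallyUnramified A B := .of_restrictScalars R A B
  haveI : Module.FinitePresentation A B := Module.finitePresentation_of_projective A B
  haveI : Algebra.FinitePresentation A B := .of_finitePresentation A B
  exact .of_formallyUnramified_of_flat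

end Groth.Agent.SGA1QuotLib.GaloisInertia
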